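import Cfsg.Agent.Lib.Helper1.CD3.Defs
import Cfsg.Agent.Lib.Helper81.CharRam
import Cfsg.Agent.Lib.Helper79.LinearDeg
import Cfsg.Agent.Lib.Helper79.Inflation
import Mathlib

/-!
# helper66: CD3B (K6) `clifford_meta` for helper1's server (S4460)

Clifford for `W' ⊴ W` when `ω` is trivial on `W''`.
-/

set_option autoImplicit false

namespace Cfsg.Agent.Helper66.CD3B

open Cfsg Cfsg.Agent.Helper81 Cfsg.Agent.Helper1.CD3

universe u

/-- Equality in the triangle inequality: if `‖z i‖ ≤ r i` and `∑ z i = ∑ r i` then `z i = r i`. -/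
theorem eq_of_sum_eq_of_norm_leK6 {ι : Type*} (s : Finset ι) (z : ι → ℂ) (r : ι → ℝ)
    (hle : ∀ i ∈ s, ‖z i‖ ≤ r i) (hsum : ∑ i ∈ s, z i = ∑ i ∈ s, (r i : ℂ)) :
    ∀ i ∈ s, z i = (r i : ℂ) := by
  have hre : ∑ i ∈ s, (z i).re = ∑ i ∈ s, r i := by
    have := congrArg Complex.re hsum
    simpa [Complex.re_sum] using this
  have hle' : ∀ i ∈ s, (z i).re ≤ r i := fun i hi => (Complex.re_le_norm (z i)).trans (hle i hi)
  have hall := (Finset.sum_eq_sum_iff_of_le hle').1 hre
  intro i hi
  have h1 : (z i).re = r i := hall i hi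
  have h2 : ‖z i‖ ^ 2 ≤ r i ^ 2 := pow_le_pow_left₀ (norm_nonneg _) (hle i hi) 2
  rw [Complex.sq_norm, Complex.normSq_apply, ← h1] at h2
  have h3 : (z i).im = 0 := by nlinarith [sq_nonneg (z i).im]
  apply Complex.ext
  · simpa using h1
  · simpa using h3

/-- Elements of the commutator subgroup of `commutator W` lie in `⁅W', W'⁆`. -/
theorem coe_mem_of_mem_commutatorK6 {W : Type u} [Group W] (x : commutator W)
    (hx : x ∈ commutator (commutator W)) :
    (x : W) ∈ ⁅commutator W, commutator W⁆ := by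
  have h1 : (commutator W).subtype x ∈ (commutator (commutator W)).map (commutator W).subtype :=
    Subgroup.mem_map_of_mem _ hx
  rw [commutator_def (commutator W), Subgroup.map_commutator, ← MonoidHom.range_eq_map,
    Subgroup.range_subtype] at h1
  exact h1

/-- (K6) -/
theorem clifford_meta {W : Type u} [Group W] [Fintype W] [Fintype (commutator W)] {ω : W → ℂ}
    (hω : IsIrrCharacter W ω)
    (hker : ∀ x : W, x ∈ ⁅commutator W, commutator W⁆ → ω x = ω 1) (d : ℕ) (hd : ω 1 = (d : ℂ)) :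
    ∃ e1 t1 : ℕ, classInner (fun x : commutator W => ω x) (fun x : commutator W => ω x) =
      ((e1 ^ 2 * t1 : ℕ) : ℂ) ∧ d = e1 * t1 := by
  classical
  have hN : (commutator W).Normal := inferInstance
  have hres : IsCharacter (commutator W) (fun n : commutator W => ω n) :=
    isCharacter_restrict (commutator W) (Cfsg.Agent.Helper81.IsIrrCharacter.isCharacter hω)
  have hres0 : (fun n : commutator W => ω n) ≠ 0 := by
    intro h
    have h1 := congrFun h 1
    obtain ⟨m, hm, hm1⟩ := irr_one_pos hω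
    simp only [OneMemClass.coe_one, Pi.zero_apply] at h1
    rw [hm1] at h1
    have : m = 0 := by exact_mod_cast h1
    omega
  obtain ⟨φ, hφ, hne⟩ := exists_irr_constituent hres hres0
  obtain ⟨e1, he1⟩ := exists_nat_classInner hres hφ
  have he10 : (e1 : ℂ) ≠ 0 := by rw [← he1]; exact hne
  have hcl := clifford (commutator W) hN hω hφ hne
  have hS := conjSet_finite (commutator W) hN φ
  rw [finsum_mem_eq_finite_toFinset_sum _ hS, he1] at hcl
  have hcls : IsClassFunction W ω := isClassFunction_of_isCharacter (Cfsg.Agent.Helper81.IsIrrCharacter.isCharacter hω)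
  -- every member of the orbit is an irreducible character with the same multiplicity
  have hψe : ∀ ψ ∈ hS.toFinset, classInner (fun n : commutator W => ω n) ψ = (e1 : ℂ) := by
    intro ψ hψ
    rw [Set.Finite.mem_toFinset] at hψ
    obtain ⟨g, rfl⟩ := hψ
    rw [classInner_restrict_conjFun (commutator W) hN hcls φ g, he1]
  have hψirr : ∀ ψ ∈ hS.toFinset, IsIrrCharacter (commutator W) ψ := by
    intro ψ hψ
    rw [Set.Finite.mem_toFinset] at hψ
    obtain ⟨g, rfl⟩ := hψ
    exact conjFun_isIrrCharacter (commutator W) hN hφ g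
  have hφS : φ ∈ hS.toFinset := by
    rw [Set.Finite.mem_toFinset]
    exact ⟨1, (conjFun_one (commutator W) hN φ).symm⟩
  -- pointwise form of Clifford
  have hpt : ∀ x : commutator W, ω x = (e1 : ℂ) * ∑ ψ ∈ hS.toFinset, ψ x := by
    intro x
    have := congrFun hcl x
    simpa [Finset.sum_apply] using this
  -- `φ` is trivial on the commutator subgroup of `commutator W`
  have hφker : ∀ x : commutator W, x ∈ commutator (commutator W) → φ x = φ 1 := by
    intro x hx
    have h1 : ω (x : W) = ω ((1 : commutator W) : W) := by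
      rw [hker (x : W) (coe_mem_of_mem_commutatorK6 x hx)]
      simp
    rw [hpt x, hpt 1] at h1
    have h2 : ∑ ψ ∈ hS.toFinset, ψ x = ∑ ψ ∈ hS.toFinset, ψ 1 := mul_left_cancel₀ he10 h1
    have h3 : ∑ ψ ∈ hS.toFinset, ψ x =
        ∑ ψ ∈ hS.toFinset, (((charDegree ψ : ℕ) : ℝ) : ℂ) := by
      rw [h2]
      apply Finset.sum_congr rfl
      intro ψ hψ
      have hdeg : ψ 1 = ((charDegree ψ : ℕ) : ℂ) :=
        (Cfsg.Agent.Helper79.irr_one_eq ⟨ψ, hψirr ψ hψ⟩).1
      rw [hdeg]
      simp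
    have h4 := eq_of_sum_eq_of_norm_leK6 hS.toFinset (fun ψ => ψ x)
      (fun ψ => ((charDegree ψ : ℕ) : ℝ))
      (fun ψ hψ => Cfsg.Agent.Helper79.irr_norm_le ⟨ψ, hψirr ψ hψ⟩ x) h3 φ hφS
    have hdeg : φ 1 = ((charDegree φ : ℕ) : ℂ) :=
      (Cfsg.Agent.Helper79.irr_one_eq ⟨φ, hφ⟩).1
    rw [h4, hdeg]
    simp
  -- hence `φ` is linear
  have hφ1 : φ 1 = 1 := by
    have hle : commutator (commutator W) ≤ Cfsg.Agent.Helper79.irrKer ⟨φ, hφ⟩ := by
      intro x hx
      exact (Cfsg.Agent.Helper79.mem_irrKer ⟨φ, hφ⟩ x).2 (hφker x hx)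
    have hdeg1 : charDegree φ = 1 :=
      Cfsg.Agent.Helper79.degree_one_of_commutator_le_irrKer ⟨φ, hφ⟩ hle
    have hdeg : φ 1 = ((charDegree φ : ℕ) : ℂ) :=
      (Cfsg.Agent.Helper79.irr_one_eq ⟨φ, hφ⟩).1
    rw [hdeg, hdeg1]
    simp
  have hψ1 : ∀ ψ ∈ hS.toFinset, ψ 1 = 1 := by
    intro ψ hψ
    rw [Set.Finite.mem_toFinset] at hψ
    obtain ⟨g, rfl⟩ := hψ
    rw [conjFun_apply]
    have : (⟨g * ((1 : commutator W) : W) * g⁻¹, hN.conj_mem _ (1 : commutator W).2 g⟩ :
        commutator W) = 1 := by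
      apply Subtype.ext
      simp
    rw [this, hφ1]
  refine ⟨e1, hS.toFinset.card, ?_, ?_⟩
  · calc classInner (fun n : commutator W => ω n) (fun n : commutator W => ω n)
        = classInner ((e1 : ℂ) • ∑ ψ ∈ hS.toFinset, ψ) (fun n : commutator W => ω n) := by
          rw [← hcl]
      _ = (e1 : ℂ) * ∑ ψ ∈ hS.toFinset, classInner ψ (fun n : commutator W => ω n) := by
          rw [classInner_smul_left, classInner_sum_left]
      _ = (e1 : ℂ) * ∑ ψ ∈ hS.toFinset, (e1 : ℂ) := by
          congr 1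
          apply Finset.sum_congr rfl
          intro ψ hψ
          rw [classInner_conj_symm (fun n : commutator W => ω n) ψ, hψe ψ hψ]
          simp
      _ = ((e1 ^ 2 * hS.toFinset.card : ℕ) : ℂ) := by
          rw [Finset.sum_const, nsmul_eq_mul]
          push_cast
          ring
  · have h1 := hpt 1
    rw [Finset.sum_congr rfl hψ1] at h1
    simp only [OneMemClass.coe_one, Finset.sum_const, nsmul_eq_mul, mul_one] at h1
    rw [hd] at h1
    exact_mod_cast h1

end Cfsg.Agent.Helper66.CD3B
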