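import Mathlib
import Cfsg.Agent.Lib.Helper98.UT0

/-!
# UT piece D2 (S2283): the coordinate-matrix map `cm` is an injective homomorphism.
-/

set_option autoImplicit false
set_option quotPrecheck false
set_option linter.unusedSectionVars false
set_option linter.unusedVariables false

namespace Cfsg.Agent.Helper66.UT

open Matrix Cfsg Cfsg.Agent.Helper13 Cfsg.Agent.Helper87.PsuA Cfsg.Agent.Helper87.PsuB0
  Cfsg.Agent.Helper98.UT

variable {F : Type*} [Field F] [Fintype F] {q : ℕ}

local notation "G" => ↥(Cfsg.SU 3 F q)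
local notation "H" => Cfsg.hermForm 3 F q

variable (hF : Fintype.card F = q ^ 2) {b : Fin 3 → Fin 3 → F}

/-- (D2a) `cm` is multiplicative (`Pm_mul_Qm`). -/
theorem cm_mul (hb : HB q b) (g h : G) : cm b (g * h) = cm b g * cm b h :=
  rhoM_mul hb g h

/-- (D2b) -/
theorem cm_one (hb : HB q b) : cm b (1 : G) = 1 :=
  rhoM_one hb

/-- (D2c) `cm` is injective (`Qm_mul_Pm`, `Pm_mul_Qm`). -/
theorem cm_inj (hb : HB q b) {g h : G} (e : cm b g = cm b h) : g = h :=
  rhoM_injective hb e

/-- (D2d) entries of `cm`. -/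
theorem cm_apply (hb : HB q b) (g : G) (i j : Fin 3) : cm b g i j = co q b (actv g (b j)) i :=
  rhoM_apply g i j

end Cfsg.Agent.Helper66.UT
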