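import Mathlib
import Cfsg.Agent.Lib.Helper98.UT0

/-!
# UT pieces E1a, C1 (S2283): products, inverses and conjugates of the upper unipotent elements `x(a,β)`.
-/

set_option autoImplicit false
set_option quotPrecheck false
set_option linter.unusedSectionVars false
set_option linter.unusedVariables false

namespace Cfsg.Agent.Helper66.UT

open Matrix Cfsg Cfsg.Agent.Helper13 Cfsg.Agent.Helper87.PsuA Cfsg.Agent.Helper87.PsuB0
  Cfsg.Agent.Helper98.UT

variable {F : Type*} [Field F] [Fintype F] {q : ℕ}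

local notation "G" => ↥(Cfsg.SU 3 F q)
local notation "H" => Cfsg.hermForm 3 F q

variable (hF : Fintype.card F = q ^ 2) {b : Fin 3 → Fin 3 → F}

theorem h66_H00 (hb : HB q b) : H (b 0) (b 0) = 0 := by
  rw [hb 0 0]
  simp [Fin.rev]

theorem h66_H01 (hb : HB q b) : H (b 0) (b 1) = 0 := by
  rw [hb 0 1]
  simp [Fin.rev]

theorem h66_H11 (hb : HB q b) : H (b 1) (b 1) = 1 := by
  rw [hb 1 1]
  simp [Fin.rev]

theorem h66_H0w (hb : HB q b) (c : F) : H (b 0) (c • b 1) = 0 := by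
  rw [hermForm_smul_right, h66_H01 hb, mul_zero]

theorem h66_Hww (hb : HB q b) (c c' : F) : H (c • b 1) (c' • b 1) = c * c' ^ q := by
  rw [hermForm_smul_left, hermForm_smul_right, h66_H11 hb, mul_one]

include hF in
theorem h66_cond (hb : HB q b) (ω β : F) (h : β + β ^ q + ω * ω ^ q = 0) :
    β + β ^ q + H ((-(ω ^ q)) • b 1) ((-(ω ^ q)) • b 1) = 0 := by
  rw [h66_Hww hb, frob_neg hF, frob_frob hF]
  linear_combination h

/-- product of two upper unipotent elements -/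
theorem h66_yEl_mul (hb : HB q b) (ω β ω' β' : F) (h : β + β ^ q + ω * ω ^ q = 0)
    (h' : β' + β' ^ q + ω' * ω' ^ q = 0) :
    yEl hF b ω β * yEl hF b ω' β' = yEl hF b (ω + ω') (β + β' - ω' ^ q * ω) := by
  unfold yEl
  rw [eich_mul hF (h66_H00 hb) (h66_H0w hb _) (h66_cond hF hb ω β h) (h66_H0w hb _)
    (h66_cond hF hb ω' β' h'), h66_Hww hb, frob_neg hF, frob_frob hF, ← add_smul, frob_add hF]
  congr 1
  · congr 1
    ring
  · ring

include hF in
theorem h66_cond_mul (ω β ω' β' : F) (h : β + β ^ q + ω * ω ^ q = 0)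
    (h' : β' + β' ^ q + ω' * ω' ^ q = 0) :
    (β + β' - ω' ^ q * ω) + (β + β' - ω' ^ q * ω) ^ q + (ω + ω') * (ω + ω') ^ q = 0 := by
  rw [frob_sub hF, frob_add hF, frob_add hF, mul_pow, frob_frob hF]
  linear_combination h + h'

/-- inverse of an upper unipotent element -/
theorem h66_yEl_inv (hb : HB q b) (ω β : F) (h : β + β ^ q + ω * ω ^ q = 0) :
    (yEl hF b ω β)⁻¹ = yEl hF b (-ω) (β ^ q) := by
  unfold yEl
  rw [eich_inv hF (h66_H00 hb) (h66_H0w hb _) (h66_cond hF hb ω β h), frob_neg hF, neg_neg,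
    neg_smul, neg_neg]

include hF in
theorem h66_cond_inv (ω β : F) (h : β + β ^ q + ω * ω ^ q = 0) :
    β ^ q + (β ^ q) ^ q + (-ω) * (-ω) ^ q = 0 := by
  rw [frob_frob hF, frob_neg hF]
  linear_combination h

theorem h66_yEl_zero (hb : HB q b) : yEl hF b 0 0 = 1 := by
  unfold yEl
  rw [frob_zero hF, neg_zero, zero_smul, eich_one hF (h66_H00 hb)]

/-- (E1a) `AH` is an additive subgroup (`eich_mul`, `eich_inv`, `eich_one`). -/
theorem AH_addSubgroup (hb : HB q b) (Hs : Subgroup G) :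
    ∃ S : AddSubgroup F, ∀ ω : F, ω ∈ S ↔ ω ∈ AH hF b Hs := by
  have hzero : (0 : F) ∈ AH hF b Hs := by
    refine ⟨0, ?_, ?_⟩
    · rw [frob_zero hF]; ring
    · rw [h66_yEl_zero hF hb]; exact Hs.one_mem
  have hadd : ∀ {ω ω' : F}, ω ∈ AH hF b Hs → ω' ∈ AH hF b Hs → ω + ω' ∈ AH hF b Hs := by
    rintro ω ω' ⟨β, h, hm⟩ ⟨β', h', hm'⟩
    refine ⟨β + β' - ω' ^ q * ω, h66_cond_mul hF ω β ω' β' h h', ?_⟩
    rw [← h66_yEl_mul hF hb ω β ω' β' h h']
    exact Hs.mul_mem hm hm'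
  have hneg : ∀ {ω : F}, ω ∈ AH hF b Hs → -ω ∈ AH hF b Hs := by
    rintro ω ⟨β, h, hm⟩
    refine ⟨β ^ q, h66_cond_inv hF ω β h, ?_⟩
    rw [← h66_yEl_inv hF hb ω β h]
    exact Hs.inv_mem hm
  exact ⟨{ carrier := AH hF b Hs, zero_mem' := hzero, add_mem' := hadd, neg_mem' := hneg },
    fun ω => Iff.rfl⟩

/-- (C1) conjugation inside the upper unipotent group (`eich_conj`, `eich_add_smul`, or `cm`). -/
theorem conj_upper (hb : HB q b) (a β a2 β2 : F) (hab : β + β ^ q + a * a ^ q = 0)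
    (hab2 : β2 + β2 ^ q + a2 * a2 ^ q = 0) :
    yEl hF b a2 β2 * yEl hF b a β * (yEl hF b a2 β2)⁻¹ =
      yEl hF b a (β + a * a2 ^ q - a2 * a ^ q) := by
  rw [h66_yEl_inv hF hb a2 β2 hab2, h66_yEl_mul hF hb a2 β2 a β hab2 hab,
    h66_yEl_mul hF hb (a2 + a) (β2 + β - a ^ q * a2) (-a2) (β2 ^ q)
      (h66_cond_mul hF a2 β2 a β hab2 hab) (h66_cond_inv hF a2 β2 hab2)]
  congr 1
  · ring
  · rw [frob_neg hF]
    linear_combination hab2

end Cfsg.Agent.Helper66.UT
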