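import Cfsg.Agent.Lib.Helper66.Orbits
import Mathlib.GroupTheory.SpecificGroups.Cyclic
import Mathlib.GroupTheory.GroupAction.ConjAct

set_option autoImplicit false

namespace Cfsg.Agent.Helper66

open MulAction
open scoped Pointwise

/-- Weighted orbit lemma. -/
theorem dvd_sum_of_dvd_index_mul {G Y : Type*} [Group G] [Finite G] [MulAction G Y] [Fintype Y]
    (w : Y → ℕ) (hw : ∀ (g : G) (y : Y), w (g • y) = w y) (d : ℕ)
    (h : ∀ y, d ∣ (stabilizer G y).index * w y) : d ∣ ∑ y, w y := by
  classical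
  have : Fintype (Quotient (orbitRel G Y)) := Fintype.ofFinite _
  rw [← Finset.sum_fiberwise (Finset.univ)
    (fun y => (Quotient.mk'' y : Quotient (orbitRel G Y))) w]
  apply Finset.dvd_sum
  intro ω _
  have hmem : ∀ y : Y, (Quotient.mk'' y : Quotient (orbitRel G Y)) = ω ↔ y ∈ orbit G ω.out := by
    intro y
    rw [← orbitRel_apply]
    constructor
    · intro hy
      have : (Quotient.mk'' y : Quotient (orbitRel G Y)) = Quotient.mk'' ω.out := by
        rw [hy, Quotient.out_eq']
      exact Quotient.exact' this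
    · intro hy
      have : (Quotient.mk'' y : Quotient (orbitRel G Y)) = Quotient.mk'' ω.out :=
        Quotient.sound' hy
      rw [this, Quotient.out_eq']
  have h1 : ∀ y ∈ Finset.univ.filter
      (fun y => (Quotient.mk'' y : Quotient (orbitRel G Y)) = ω), w y = w ω.out := by
    intro y hy
    rw [Finset.mem_filter] at hy
    obtain ⟨g, hg⟩ := (hmem y).mp hy.2
    rw [← hg]
    exact hw g _
  rw [Finset.sum_congr rfl h1, Finset.sum_const, smul_eq_mul]
  have h2 : (Finset.univ.filter
      (fun y => (Quotient.mk'' y : Quotient (orbitRel G Y)) = ω)).card =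
      (stabilizer G ω.out).index := by
    rw [Subgroup.index_eq_card, ← Nat.card_congr (orbitEquivQuotientStabilizer G ω.out),
      ← Fintype.card_subtype, ← Nat.card_eq_fintype_card]
    exact Nat.card_congr (Equiv.subtypeEquivRight hmem)
  rw [h2]
  exact h _


section PowEq
variable {G : Type*} [Group G] [Finite G]

/-- if `x ^ p ^ a = c` and `p ∣ orderOf c` then `orderOf x = p ^ a * orderOf c` -/
theorem orderOf_eq_of_pow_eq (p a : ℕ) (hp : p.Prime) (x c : G) (hx : x ^ p ^ a = c)
    (hc : p ∣ orderOf c) : orderOf x = p ^ a * orderOf c := by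
  have hN : 0 < orderOf x := orderOf_pos x
  have h1 : orderOf c = orderOf x / Nat.gcd (orderOf x) (p ^ a) := by
    rw [← hx]; exact orderOf_pow' x (pow_pos hp.pos a).ne'
  have hg : Nat.gcd (orderOf x) (p ^ a) ∣ p ^ a := Nat.gcd_dvd_right _ _
  obtain ⟨j, hj, hj'⟩ := (Nat.dvd_prime_pow hp).mp hg
  have h2 : orderOf x = p ^ j * orderOf c := by
    rw [h1, hj']
    exact (Nat.mul_div_cancel' (hj' ▸ Nat.gcd_dvd_left _ _)).symm
  rcases hj.lt_or_eq with hlt | heq
  · exfalso
    obtain ⟨t, ht⟩ := hc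
    have h3 : p ^ (j + 1) ∣ orderOf x := by
      rw [h2, ht, pow_succ]
      exact ⟨t, by ring⟩
    have h4 : p ^ (j + 1) ∣ p ^ a := pow_dvd_pow p hlt
    have h5 : p ^ (j + 1) ∣ p ^ j := hj' ▸ Nat.dvd_gcd h3 h4
    have := (Nat.pow_dvd_pow_iff_le_right hp.one_lt).mp h5
    omega
  · rw [h2, heq]

theorem card_pow_eq_one_zpowers (p a : ℕ) (_hp : p.Prime) (x : G) (h : p ^ a ∣ orderOf x) :
    Nat.card {y : Subgroup.zpowers x // y ^ p ^ a = 1} = p ^ a := by
  let _ : CommGroup (Subgroup.zpowers x) := IsCyclic.commGroup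
  have h1 := IsCyclic.card_powMonoidHom_ker (G := Subgroup.zpowers x) (p ^ a)
  rw [Nat.card_zpowers, Nat.gcd_eq_right h] at h1
  have e : {y : Subgroup.zpowers x // y ^ p ^ a = 1} ≃ ↥(powMonoidHom (p ^ a) : Subgroup.zpowers x →* Subgroup.zpowers x).ker :=
    Equiv.subtypeEquivRight (fun y => by simp [MonoidHom.mem_ker, powMonoidHom_apply])
  rw [Nat.card_congr e]
  exact h1

/-- the number of solutions of `x ^ p ^ a = c`, `p ∣ orderOf c`, is divisible by `p ^ a` -/
theorem pow_dvd_card_pow_eq (p a : ℕ) (hp : p.Prime) (c : G) (hc : p ∣ orderOf c) :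
    p ^ a ∣ Nat.card {x : G // x ^ p ^ a = c} := by
  classical
  have : Fintype G := Fintype.ofFinite G
  have : Fintype (Subgroup G) := Fintype.ofFinite _
  rw [Nat.card_eq_fintype_card, Fintype.card_subtype]
  rw [Finset.card_eq_sum_card_fiberwise (f := fun x : G => Subgroup.zpowers x)
    (t := Finset.univ) (fun _ _ => Finset.mem_univ _)]
  apply Finset.dvd_sum
  intro K _
  by_cases hne : (Finset.filter (fun x : G => Subgroup.zpowers x = K)
      (Finset.filter (fun x : G => x ^ p ^ a = c) Finset.univ)).Nonempty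
  swap
  · rw [Finset.not_nonempty_iff_eq_empty.mp hne]; simp
  obtain ⟨x₀, hx₀⟩ := hne
  simp only [Finset.mem_filter, Finset.mem_univ, true_and] at hx₀
  obtain ⟨hx₀c, rfl⟩ := hx₀
  have hN := orderOf_eq_of_pow_eq p a hp x₀ c hx₀c hc
  have hdiv : p ^ a ∣ orderOf x₀ := hN ▸ Dvd.intro _ rfl
  suffices key : (Finset.filter (fun x : G => Subgroup.zpowers x = Subgroup.zpowers x₀)
      (Finset.filter (fun x : G => x ^ p ^ a = c) Finset.univ)).card =
      Nat.card {y : Subgroup.zpowers x₀ // y ^ p ^ a = 1} by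
    rw [key, card_pow_eq_one_zpowers p a hp x₀ hdiv]
  rw [Nat.card_eq_fintype_card, ← Fintype.card_coe]
  apply Fintype.card_congr
  have hx₀mem : x₀ ∈ Subgroup.zpowers x₀ := Subgroup.mem_zpowers x₀
  refine ⟨fun x => ⟨⟨x.1 * x₀⁻¹, ?_⟩, ?_⟩, fun y => ⟨y.1.1 * x₀, ?_⟩, ?_, ?_⟩
  · have hx := x.2
    simp only [Finset.mem_filter, Finset.mem_univ, true_and] at hx
    have : x.1 ∈ Subgroup.zpowers x₀ := hx.2.le (Subgroup.mem_zpowers x.1)
    exact Subgroup.mul_mem _ this (Subgroup.inv_mem _ hx₀mem)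
  · have hx := x.2
    simp only [Finset.mem_filter, Finset.mem_univ, true_and] at hx
    have hxm : x.1 ∈ Subgroup.zpowers x₀ := hx.2.le (Subgroup.mem_zpowers x.1)
    obtain ⟨k, hk⟩ := Subgroup.mem_zpowers_iff.mp hxm
    have hcomm : Commute x.1 x₀⁻¹ := by
      rw [← hk]
      exact ((Commute.refl x₀).zpow_left k).inv_right
    apply Subtype.ext
    change (x.1 * x₀⁻¹) ^ p ^ a = 1
    rw [hcomm.mul_pow, hx.1, inv_pow, hx₀c, mul_inv_cancel]
  · have hy : (y.1 : Subgroup.zpowers x₀) ^ p ^ a = 1 := y.2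
    have hy' : (y.1.1 : G) ^ p ^ a = 1 := congrArg Subtype.val hy
    obtain ⟨k, hk⟩ := Subgroup.mem_zpowers_iff.mp y.1.2
    have hcomm : Commute (y.1.1 : G) x₀ := by
      rw [← hk]
      exact (Commute.refl x₀).zpow_left k
    have hpow : (y.1.1 * x₀) ^ p ^ a = c := by
      rw [hcomm.mul_pow, hy', one_mul, hx₀c]
    simp only [Finset.mem_filter, Finset.mem_univ, true_and]
    refine ⟨hpow, ?_⟩
    have hle : Subgroup.zpowers (y.1.1 * x₀) ≤ Subgroup.zpowers x₀ := by
      rw [Subgroup.zpowers_le]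
      exact Subgroup.mul_mem _ y.1.2 hx₀mem
    apply Subgroup.eq_of_le_of_card_ge hle
    rw [Nat.card_zpowers, Nat.card_zpowers, hN,
      orderOf_eq_of_pow_eq p a hp _ c hpow hc]
  · intro x
    apply Subtype.ext
    simp
  · intro y
    apply Subtype.ext
    apply Subtype.ext
    simp


/-- translation by a central root -/
theorem card_pow_eq_central (p a : ℕ) (c : G) (hc : c ∈ Subgroup.center G)
    (hpc : Nat.Coprime (p ^ a) (orderOf c)) :
    Nat.card {x : G // x ^ p ^ a = c} = Nat.card {x : G // x ^ p ^ a = 1} := by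
  obtain ⟨m, hm⟩ := exists_pow_eq_self_of_coprime hpc
  set d := c ^ m with hd
  have hdc : d ^ p ^ a = c := by rw [hd, ← pow_mul, mul_comm, pow_mul]; exact hm
  have hdz : d ∈ Subgroup.center G := Subgroup.pow_mem _ hc m
  have hcomm : ∀ x : G, Commute x d := fun x => Subgroup.mem_center_iff.mp hdz x
  apply Nat.card_congr
  refine ⟨fun x => ⟨x.1 * d⁻¹, ?_⟩, fun y => ⟨y.1 * d, ?_⟩, ?_, ?_⟩
  · rw [(hcomm x.1).inv_right.mul_pow, x.2, inv_pow, hdc, mul_inv_cancel]
  · rw [(hcomm y.1).mul_pow, y.2, one_mul, hdc]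
  · intro x; apply Subtype.ext; simp
  · intro y; apply Subtype.ext; simp

end PowEq


section Conj
variable (G : Type*) [Group G]

/-- noncentral elements under conjugation -/
def noncentralAct : SubMulAction (ConjAct G) G where
  carrier := {c | c ∉ Subgroup.center G}
  smul_mem' g c hc := by
    intro h
    apply hc
    have h2 := (inferInstance : (Subgroup.center G).Normal).conj_mem _ h (ConjAct.ofConjAct g)⁻¹
    rw [ConjAct.smul_def] at h2
    simpa [mul_assoc] using h2

variable {G}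

theorem card_pow_eq_smul (k : ℕ) (g : ConjAct G) (c : G) :
    Nat.card {x : G // x ^ k = g • c} = Nat.card {x : G // x ^ k = c} := by
  apply Nat.card_congr
  refine ⟨fun x => ⟨g⁻¹ • x.1, ?_⟩, fun y => ⟨g • y.1, ?_⟩, ?_, ?_⟩
  · rw [← smul_pow', x.2, inv_smul_smul]
  · rw [← smul_pow', y.2]
  · intro x; apply Subtype.ext; simp
  · intro y; apply Subtype.ext; simp

theorem index_stabilizer_conjAct_mul_card [Finite G] (c : G) :
    (stabilizer (ConjAct G) c).index * Nat.card (Subgroup.centralizer ({c} : Set G)) =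
      Nat.card G := by
  have h1 := (stabilizer (ConjAct G) c).index_mul_card
  have h2 : Nat.card (stabilizer (ConjAct G) c) =
      Nat.card (Subgroup.centralizer ({c} : Set G)) := by
    apply Nat.card_congr
    refine Equiv.subtypeEquiv ConjAct.ofConjAct.toEquiv ?_
    intro g
    rw [Subgroup.centralizer_eq_comap_stabilizer]
    rfl
  rw [h2] at h1
  exact h1

theorem card_pow_eq_centralizer (k : ℕ) (c : G) :
    Nat.card {x : G // x ^ k = c} =
      Nat.card {x : Subgroup.centralizer ({c} : Set G) // (x : G) ^ k = c} := by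
  apply Nat.card_congr
  refine ⟨fun x => ⟨⟨x.1, ?_⟩, x.2⟩, fun y => ⟨y.1.1, y.2⟩, ?_, ?_⟩
  · rw [Subgroup.mem_centralizer_singleton_iff]
    have : Commute x.1 (x.1 ^ k) := (Commute.refl x.1).pow_right k
    rw [x.2] at this
    exact this.eq
  · intro x; rfl
  · intro y; rfl

end Conj


section Main

/-- central elements of order prime to `p` -/
def centerPrime (G : Type*) [Group G] (p : ℕ) : Subgroup G where
  carrier := {c | c ∈ Subgroup.center G ∧ Nat.Coprime p (orderOf c)}
  mul_mem' := by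
    rintro c d ⟨hc, hc'⟩ ⟨hd, hd'⟩
    refine ⟨Subgroup.mul_mem _ hc hd, ?_⟩
    have hcomm : Commute c d := (Subgroup.mem_center_iff.mp hc d).symm
    exact Nat.Coprime.coprime_dvd_right hcomm.orderOf_mul_dvd_mul_orderOf
      (Nat.Coprime.mul_right hc' hd')
  one_mem' := ⟨Subgroup.one_mem _, by simp⟩
  inv_mem' := by
    rintro c ⟨hc, hc'⟩
    exact ⟨Subgroup.inv_mem _ hc, by rwa [orderOf_inv]⟩

theorem not_dvd_card_centerPrime {G : Type*} [Group G] [Finite G] (p : ℕ) (hp : p.Prime) :
    ¬ p ∣ Nat.card (centerPrime G p) := by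
  intro h
  have : Fact p.Prime := ⟨hp⟩
  obtain ⟨x, hx⟩ := exists_prime_orderOf_dvd_card' p h
  have h1 : Nat.Coprime p (orderOf (x : G)) := x.2.2
  rw [Subgroup.orderOf_coe, hx] at h1
  exact hp.one_lt.ne' ((Nat.coprime_self p).mp h1)

theorem frobenius_prime_pow_aux.{u} (p : ℕ) (hp : p.Prime) (a : ℕ) :
    ∀ (n : ℕ) (G : Type u) [Group G] [Finite G], Nat.card G = n →
      Nat.gcd (p ^ a) n ∣ Nat.card {x : G // x ^ p ^ a = 1} := by
  intro n
  induction n using Nat.strong_induction_on with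
  | _ n ih =>
  intro G _ _ hn
  classical
  have : Fintype G := Fintype.ofFinite G
  set D := Nat.gcd (p ^ a) n with hD
  set r : G → ℕ := fun c => Nat.card {x : G // x ^ p ^ a = c} with hr
  have hDpa : D ∣ p ^ a := Nat.gcd_dvd_left _ _
  have hDn : D ∣ n := Nat.gcd_dvd_right _ _
  -- total
  have htotal : ∑ c : G, r c = n := by
    rw [← hn, Nat.card_eq_fintype_card,
      ← Fintype.card_congr (Equiv.sigmaFiberEquiv (fun x : G => x ^ p ^ a)), Fintype.card_sigma]
    apply Finset.sum_congr rfl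
    intro c _
    simp only [hr, Nat.card_eq_fintype_card]
  -- noncentral part
  have hA : D ∣ ∑ c ∈ Finset.univ.filter (fun c : G => c ∉ Subgroup.center G), r c := by
    have e1 : ∑ c ∈ Finset.univ.filter (fun c : G => c ∉ Subgroup.center G), r c =
        ∑ y : noncentralAct G, r y.1 := by
      apply Finset.sum_subtype
      intro c
      simp only [Finset.mem_filter, Finset.mem_univ, true_and]
      rfl
    rw [e1]
    apply dvd_sum_of_dvd_index_mul (G := ConjAct G) (Y := noncentralAct G) (fun y => r y.1)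
    · intro g y
      exact card_pow_eq_smul (p ^ a) g y.1
    · rintro ⟨c, hc⟩
      rw [SubMulAction.stabilizer_of_subMul]
      change D ∣ (stabilizer (ConjAct G) c).index * r c
      have hidx := index_stabilizer_conjAct_mul_card c
      set H := Subgroup.centralizer ({c} : Set G) with hH
      by_cases hpc : p ∣ orderOf c
      · exact Dvd.dvd.mul_left (hDpa.trans (pow_dvd_card_pow_eq p a hp c hpc)) _
      · have hcH : c ∈ H := by
          rw [hH, Subgroup.mem_centralizer_singleton_iff]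
        have hlt : Nat.card H < n := by
          rw [← hn]
          refine lt_of_le_of_ne (Subgroup.card_le_card_group H) ?_
          intro heq
          have htop : H = ⊤ := Subgroup.card_eq_iff_eq_top H |>.mp heq
          apply hc
          have : ({c} : Set G) ⊆ Subgroup.center G :=
            Subgroup.centralizer_eq_top_iff_subset.mp htop
          exact this rfl
        have h1 : r c = Nat.card {x : H // x ^ p ^ a = 1} := by
          rw [hr]
          change Nat.card {x : G // x ^ p ^ a = c} = _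
          rw [card_pow_eq_centralizer (p ^ a) c]
          have e2 : Nat.card {x : H // (x : G) ^ p ^ a = c} =
              Nat.card {x : H // x ^ p ^ a = (⟨c, hcH⟩ : H)} := by
            apply Nat.card_congr
            apply Equiv.subtypeEquivRight
            intro x
            rw [Subtype.ext_iff]
            rfl
          rw [e2]
          apply card_pow_eq_central
          · rw [Subgroup.mem_center_iff]
            intro y
            apply Subtype.ext
            have h7 : (y : G) ∈ Subgroup.centralizer ({c} : Set G) := y.2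
            rw [Subgroup.mem_centralizer_singleton_iff] at h7
            exact h7
          · rw [Subgroup.orderOf_mk]
            exact Nat.Coprime.pow_left a ((Nat.Prime.coprime_iff_not_dvd hp).mpr hpc)
        have h2 : Nat.gcd (p ^ a) (Nat.card H) ∣ r c := by
          rw [h1]
          exact ih (Nat.card H) hlt H rfl
        have h3 : D ∣ Nat.gcd (p ^ a) (stabilizer (ConjAct G) c).index *
            Nat.gcd (p ^ a) (Nat.card H) := by
          rw [hD, ← hn, ← hidx]
          exact Nat.gcd_mul_right_dvd_mul_gcd _ _ _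
        exact h3.trans (Nat.mul_dvd_mul (Nat.gcd_dvd_right _ _) h2)
  -- split the total
  have hsplit1 := Finset.sum_filter_add_sum_filter_not (Finset.univ : Finset G)
    (fun c : G => c ∈ centerPrime G p) r
  have hsplit2 := Finset.sum_filter_add_sum_filter_not
    (Finset.univ.filter (fun c : G => ¬ c ∈ centerPrime G p))
    (fun c : G => c ∈ Subgroup.center G) r
  have hC : ∑ c ∈ Finset.univ.filter (fun c : G => c ∈ centerPrime G p), r c =
      Nat.card (centerPrime G p) * r 1 := by
    have : ∀ c ∈ Finset.univ.filter (fun c : G => c ∈ centerPrime G p), r c = r 1 := by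
      intro c hc
      rw [Finset.mem_filter] at hc
      exact card_pow_eq_central p a c hc.2.1 (Nat.Coprime.pow_left a hc.2.2)
    rw [Finset.sum_congr rfl this, Finset.sum_const, smul_eq_mul, Nat.card_eq_fintype_card,
      Fintype.card_subtype]
  have hB : D ∣ ∑ c ∈ (Finset.univ.filter (fun c : G => ¬ c ∈ centerPrime G p)).filter
      (fun c : G => c ∈ Subgroup.center G), r c := by
    apply Finset.dvd_sum
    intro c hc
    rw [Finset.mem_filter, Finset.mem_filter] at hc
    have hpc : p ∣ orderOf c := by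
      by_contra hpc
      exact hc.1.2 ⟨hc.2, (Nat.Prime.coprime_iff_not_dvd hp).mpr hpc⟩
    exact hDpa.trans (pow_dvd_card_pow_eq p a hp c hpc)
  have hA' : (Finset.univ.filter (fun c : G => ¬ c ∈ centerPrime G p)).filter
      (fun c : G => ¬ c ∈ Subgroup.center G) =
      Finset.univ.filter (fun c : G => c ∉ Subgroup.center G) := by
    ext c
    simp only [Finset.mem_filter, Finset.mem_univ, true_and]
    constructor
    · exact fun h => h.2
    · exact fun h => ⟨fun h' => h h'.1, h⟩
  rw [hA'] at hsplit2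
  rw [← hsplit2, hC, htotal] at hsplit1
  -- n = z' * r 1 + (B + A)
  have h5 : D ∣ Nat.card (centerPrime G p) * r 1 := by
    have h6 : D ∣ (∑ c ∈ (Finset.univ.filter (fun c : G => ¬ c ∈ centerPrime G p)).filter
      (fun c : G => c ∈ Subgroup.center G), r c) +
        ∑ c ∈ Finset.univ.filter (fun c : G => c ∉ Subgroup.center G), r c :=
      Nat.dvd_add hB hA
    exact (Nat.dvd_add_left h6).mp (hsplit1 ▸ hDn)
  have hcop : Nat.Coprime D (Nat.card (centerPrime G p)) := by
    apply Nat.Coprime.coprime_dvd_left hDpa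
    apply Nat.Coprime.pow_left
    exact (Nat.Prime.coprime_iff_not_dvd hp).mpr (not_dvd_card_centerPrime p hp)
  exact hcop.dvd_of_dvd_mul_left h5

end Main


section Decomp
variable {G : Type*} [Group G]

/-- conjugation-invariant family under conjugation, with `y ^ v = 1` -/
def invAct (G : Type*) [Group G] (v : ℕ) (Q : G → Prop)
    (hQ : ∀ (g : ConjAct G) (y : G), Q y → Q (g • y)) : SubMulAction (ConjAct G) G where
  carrier := {y | y ^ v = 1 ∧ Q y}
  smul_mem' g y hy := by
    refine ⟨?_, hQ g y hy.2⟩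
    rw [← smul_pow', hy.1, smul_one]

theorem card_commute_pow_eq_smul (u : ℕ) (g : ConjAct G) (y : G) :
    Nat.card {z : G // Commute (g • y) z ∧ z ^ u = 1} =
      Nat.card {z : G // Commute y z ∧ z ^ u = 1} := by
  apply Nat.card_congr
  refine ⟨fun z => ⟨g⁻¹ • z.1, ?_, ?_⟩, fun z => ⟨g • z.1, ?_, ?_⟩, ?_, ?_⟩
  · have h := z.2.1
    have h2 : g⁻¹ • ((g • y) * z.1) = g⁻¹ • (z.1 * (g • y)) := by rw [h.eq]
    rw [smul_mul', smul_mul', inv_smul_smul] at h2
    exact h2
  · rw [← smul_pow', z.2.2, smul_one]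
  · have h := z.2.1
    have h2 : g • (y * z.1) = g • (z.1 * y) := by rw [h.eq]
    rw [smul_mul', smul_mul'] at h2
    exact h2
  · rw [← smul_pow', z.2.2, smul_one]
  · intro z; apply Subtype.ext; simp
  · intro z; apply Subtype.ext; simp

theorem card_commute_pow_eq_centralizer (u : ℕ) (y : G) :
    Nat.card {z : G // Commute y z ∧ z ^ u = 1} =
      Nat.card {z : Subgroup.centralizer ({y} : Set G) // z ^ u = 1} := by
  apply Nat.card_congr
  refine ⟨fun z => ⟨⟨z.1, ?_⟩, ?_⟩, fun z => ⟨z.1.1, ?_, ?_⟩, ?_, ?_⟩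
  · rw [Subgroup.mem_centralizer_singleton_iff]
    exact z.2.1.eq.symm
  · apply Subtype.ext
    exact z.2.2
  · have := z.1.2
    rw [Subgroup.mem_centralizer_singleton_iff] at this
    exact this.symm
  · exact congrArg Subtype.val z.2
  · intro z; rfl
  · intro z; rfl

theorem decomp_aux1 (u v s : ℕ) (hus : u ∣ s) (x : G) (hx : x ^ (u * v) = 1) :
    (x ^ s) ^ v = 1 := by
  obtain ⟨t, ht⟩ := hus
  rw [← pow_mul, ht, mul_assoc, mul_comm t v, ← mul_assoc, pow_mul, hx, one_pow]

theorem decomp_aux2 (s : ℕ) (x : G) : Commute (x ^ s) (x * (x ^ s)⁻¹) := by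
  have h1 : Commute (x ^ s) x := (Commute.refl x).pow_left s
  have h2 : Commute (x ^ s) (x ^ s)⁻¹ := (Commute.refl (x ^ s)).inv_right
  exact h1.mul_right h2

theorem decomp_aux3 (u v s : ℕ) (hs1 : s ≡ 1 [MOD v]) (x : G) (hx : x ^ (u * v) = 1) :
    (x * (x ^ s)⁻¹) ^ u = 1 := by
  have hsu : s * u ≡ 1 * u [MOD v * u] := Nat.ModEq.mul_right' u hs1
  have hc : Commute x (x ^ s)⁻¹ := ((Commute.refl x).pow_right s).inv_right
  rw [hc.mul_pow, inv_pow, ← pow_mul]
  have hx' : x ^ (v * u) = 1 := by rw [mul_comm]; exact hx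
  have : x ^ (s * u) = x ^ (1 * u) := pow_eq_pow_of_modEq hsu hx'
  rw [this, one_mul, mul_inv_cancel]

theorem decomp_aux4 (u v : ℕ) (y z : G) (hy : y ^ v = 1) (hz : z ^ u = 1) (hyz : Commute y z) :
    (y * z) ^ (u * v) = 1 := by
  rw [hyz.mul_pow, mul_comm u v, pow_mul, hy, one_pow, one_mul, mul_comm v u, pow_mul, hz,
    one_pow]

theorem decomp_aux5 (u v s : ℕ) (hus : u ∣ s) (hs1 : s ≡ 1 [MOD v]) (y z : G) (hy : y ^ v = 1)
    (hz : z ^ u = 1) (hyz : Commute y z) : (y * z) ^ s = y := by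
  have h1 : z ^ s = 1 := by
    obtain ⟨t, ht⟩ := hus
    rw [ht, pow_mul, hz, one_pow]
  have h2 : y ^ s = y := by
    have := pow_eq_pow_of_modEq hs1 hy
    rwa [pow_one] at this
  rw [hyz.mul_pow, h1, h2, mul_one]

/-- decomposition into commuting parts -/
theorem decomp_equiv (u v s : ℕ) (hs0 : s ≡ 0 [MOD u]) (hs1 : s ≡ 1 [MOD v]) (Q : G → Prop)
    (hQ : ∀ (g : ConjAct G) (y : G), Q y → Q (g • y)) :
    Nonempty ({x : G // x ^ (u * v) = 1 ∧ Q (x ^ s)} ≃
      Σ y : invAct G v Q hQ, {z : G // Commute y.1 z ∧ z ^ u = 1}) := by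
  have hus : u ∣ s := (Nat.modEq_zero_iff_dvd).mp hs0
  refine ⟨⟨fun x => ⟨⟨x.1 ^ s, decomp_aux1 u v s hus x.1 x.2.1, x.2.2⟩,
      ⟨x.1 * (x.1 ^ s)⁻¹, decomp_aux2 s x.1, decomp_aux3 u v s hs1 x.1 x.2.1⟩⟩,
    fun yz => ⟨yz.1.1 * yz.2.1, decomp_aux4 u v _ _ yz.1.2.1 yz.2.2.2 yz.2.2.1, ?_⟩, ?_, ?_⟩⟩
  · rw [decomp_aux5 u v s hus hs1 _ _ yz.1.2.1 yz.2.2.2 yz.2.2.1]
    exact yz.1.2.2
  · intro x
    apply Subtype.ext
    change x.1 ^ s * (x.1 * (x.1 ^ s)⁻¹) = x.1
    rw [(decomp_aux2 s x.1).eq, mul_assoc, inv_mul_cancel, mul_one]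
  · rintro ⟨⟨y, hy, hQy⟩, ⟨z, hyz, hz⟩⟩
    have hyz' : Commute y z := hyz
    have h3 : (y * z) ^ s = y := decomp_aux5 u v s hus hs1 y z hy hz hyz'
    have h4 : y * z * ((y * z) ^ s)⁻¹ = z := by
      rw [h3, hyz'.eq, mul_assoc, mul_inv_cancel, mul_one]
    apply Sigma.subtype_ext
    · apply Subtype.ext
      exact h3
    · exact h4

end Decomp


section General
variable {G : Type*} [Group G] [Finite G]

theorem frobenius_weighted (p a v s : ℕ) (hp : p.Prime) (hs0 : s ≡ 0 [MOD p ^ a])
    (hs1 : s ≡ 1 [MOD v]) (Q : G → Prop)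
    (hQ : ∀ (g : ConjAct G) (y : G), Q y → Q (g • y)) :
    Nat.gcd (p ^ a) (Nat.card G) ∣ Nat.card {x : G // x ^ (p ^ a * v) = 1 ∧ Q (x ^ s)} := by
  classical
  have : Fintype G := Fintype.ofFinite G
  have : Fintype (invAct G v Q hQ) := Fintype.ofFinite _
  obtain ⟨e⟩ := decomp_equiv (p ^ a) v s hs0 hs1 Q hQ
  rw [Nat.card_congr e, Nat.card_sigma]
  apply dvd_sum_of_dvd_index_mul (G := ConjAct G) (Y := invAct G v Q hQ)
    (fun y => Nat.card {z : G // Commute y.1 z ∧ z ^ p ^ a = 1})
  · intro g y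
    exact card_commute_pow_eq_smul (p ^ a) g y.1
  · rintro ⟨y, hy⟩
    rw [SubMulAction.stabilizer_of_subMul]
    change _ ∣ (stabilizer (ConjAct G) y).index * Nat.card {z : G // Commute y z ∧ z ^ p ^ a = 1}
    have hidx := index_stabilizer_conjAct_mul_card y
    rw [card_commute_pow_eq_centralizer]
    have h2 := frobenius_prime_pow_aux p hp a _ (Subgroup.centralizer ({y} : Set G)) rfl
    have h3 : Nat.gcd (p ^ a) (Nat.card G) ∣ Nat.gcd (p ^ a) (stabilizer (ConjAct G) y).index *
        Nat.gcd (p ^ a) (Nat.card (Subgroup.centralizer ({y} : Set G))) := by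
      rw [← hidx]
      exact Nat.gcd_mul_right_dvd_mul_gcd _ _ _
    exact h3.trans (Nat.mul_dvd_mul (Nat.gcd_dvd_right _ _) h2)

/-- **Frobenius' theorem**. -/
theorem frobenius_dvd (n : ℕ) (hn : n ∣ Nat.card G) : n ∣ Nat.card {g : G // g ^ n = 1} := by
  have hn0 : n ≠ 0 := by
    rintro rfl
    exact Nat.card_pos.ne' (Nat.eq_zero_of_zero_dvd hn)
  rw [Nat.dvd_iff_prime_pow_dvd_dvd]
  intro p k hp hpk
  set a := n.factorization p with ha
  set v := n / p ^ a with hv
  have hnv : p ^ a * v = n := Nat.ordProj_mul_ordCompl_eq_self n p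
  have hcop : Nat.Coprime (p ^ a) v := Nat.Coprime.pow_left a (Nat.coprime_ordCompl hp hn0)
  have hka : k ≤ a := (hp.pow_dvd_iff_le_factorization hn0).mp hpk
  obtain ⟨s, hs0, hs1⟩ := Nat.chineseRemainder hcop 0 1
  have h1 := frobenius_weighted (G := G) p a v s hp hs0 hs1 (fun _ => True) (fun _ _ _ => trivial)
  have h2 : Nat.gcd (p ^ a) (Nat.card G) = p ^ a :=
    Nat.gcd_eq_left ((Dvd.intro _ hnv).trans hn)
  rw [h2, hnv] at h1
  have h3 : Nat.card {x : G // x ^ n = 1 ∧ True} = Nat.card {g : G // g ^ n = 1} :=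
    Nat.card_congr (Equiv.subtypeEquivRight (fun x => by simp))
  rw [h3] at h1
  exact (pow_dvd_pow p hka).trans h1

end General

end Cfsg.Agent.Helper66
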