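import Mathlib

/-!
# Frobenius facts for a finite field of characteristic `p` (helper13's OMO server, piece FR)

General-`p` versions of `Helper43.OMin.pow_two_pow_mul`, `dvd_of_pow_two_pow_eq`,
`exists_pow_of_ringEquiv`.
-/

set_option autoImplicit false

namespace Cfsg.Agent.Helper66.OMinOdd

section FR

variable {F : Type*} [Field F] [Fintype F]

theorem pow_p_pow_card {p f : ℕ} (hF : Fintype.card F = p ^ f) (c : F) : c ^ (p ^ f) = c := by
  rw [← hF]; exact FiniteField.pow_card c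

theorem pow_p_pow_mul {p f : ℕ} (hF : Fintype.card F = p ^ f) (t : ℕ) (c : F) :
    c ^ (p ^ (f * t)) = c := by
  induction t with
  | zero => simp
  | succ t ih => rw [Nat.mul_succ, pow_add, pow_mul, ih, pow_p_pow_card hF]

theorem dvd_of_pow_p_pow_eq {p f : ℕ} [Fact p.Prime] (hf : 1 ≤ f)
    (hF : Fintype.card F = p ^ f) (j : ℕ) (h : ∀ c : F, c ^ (p ^ j) = c) : f ∣ j := by
  classical
  have hp : p.Prime := Fact.out
  set r := j % f with hr
  have hj : j = f * (j / f) + r := (Nat.div_add_mod j f).symm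
  have hrf : r < f := Nat.mod_lt _ (by omega)
  have h' : ∀ c : F, c ^ (p ^ r) = c := by
    intro c
    have := h c
    rw [hj, pow_add, pow_mul, pow_p_pow_mul hF] at this
    exact this
  obtain ⟨g, hg⟩ := IsCyclic.exists_generator (α := Fˣ)
  have hord : orderOf g = p ^ f - 1 := by
    rw [orderOf_eq_card_of_forall_mem_zpowers hg, Nat.card_eq_fintype_card, Fintype.card_units, hF]
  have hpos : 1 ≤ p ^ r := Nat.one_le_pow _ _ hp.pos
  have h1 : g ^ (p ^ r - 1) = 1 := by
    have h2 : g ^ (p ^ r) = g := by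
      apply Units.ext
      rw [Units.val_pow_eq_pow_val]
      exact h' _
    have h3 : g ^ (p ^ r - 1) * g = g := by
      rw [← pow_succ, Nat.sub_add_cancel hpos, h2]
    exact mul_eq_right.mp h3
  have hdvd : p ^ f - 1 ∣ p ^ r - 1 := hord ▸ orderOf_dvd_of_pow_eq_one h1
  have hlt : p ^ r < p ^ f := Nat.pow_lt_pow_right hp.one_lt hrf
  have hz : p ^ r - 1 = 0 := Nat.eq_zero_of_dvd_of_lt hdvd (by omega)
  have hr0 : r = 0 := by
    by_contra hne
    have h2 : p ^ 1 ≤ p ^ r := Nat.pow_le_pow_right hp.pos (by omega)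
    have := hp.two_le
    rw [pow_one] at h2
    omega
  exact Nat.dvd_of_mod_eq_zero (hr ▸ hr0)

theorem exists_pow_of_ringEquiv_p (p : ℕ) [Fact p.Prime] [CharP F p] (σ : F ≃+* F) :
    ∃ n : ℕ, ∀ c, σ c = c ^ (p ^ n) := by
  let _ : Algebra (ZMod p) F := ZMod.algebra F p
  let σ' : F ≃ₐ[ZMod p] F := AlgEquiv.ofRingEquiv (f := σ) (fun x => by
    have h : (σ : F →+* F).comp (algebraMap (ZMod p) F) = algebraMap (ZMod p) F :=
      Subsingleton.elim _ _
    exact DFunLike.congr_fun h x)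
  obtain ⟨n, hn⟩ := (FiniteField.bijective_frobeniusAlgEquivOfAlgebraic_pow (ZMod p) F).2 σ'
  refine ⟨n.1, fun c => ?_⟩
  have h1 : σ' c = (FiniteField.frobeniusAlgEquivOfAlgebraic (ZMod p) F ^ n.1) c := by
    rw [← hn]
  have h2 : σ' c = σ c := rfl
  rw [← h2, h1, AlgEquiv.coe_pow, FiniteField.coe_frobeniusAlgEquivOfAlgebraic_iterate, ZMod.card]

end FR

end Cfsg.Agent.Helper66.OMinOdd
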