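import Mathlib
import Cfsg.Agent.Lib.Helper14.SPIDefs

/-!
# helper66: SPI (FIX) `fix_decomp` for helper14's server (S5961)
-/

set_option autoImplicit false

namespace Cfsg.Agent.Helper66.SPI

open Module Polynomial Cfsg.Agent.Helper14.SPI

/-- an alternating form is skew-symmetric -/
theorem alt_skewFIX {F V : Type*} [Field F] [AddCommGroup V] [Module F V]
    (B : LinearMap.BilinForm F V) (hB : B.IsAlt) (u v : V) : B u v = - B v u := by
  have h := hB (u + v)
  have hu : B u u = 0 := hB u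
  have hv : B v v = 0 := hB v
  simp only [map_add, LinearMap.add_apply] at h
  rw [hu, hv] at h
  linear_combination h

/-- powers of `x` preserve an invariant subspace -/
theorem pow_memFIX {F V : Type*} [Field F] [AddCommGroup V] [Module F V]
    (x : V →ₗ[F] V) (W : Submodule F V) (hWx : W.map x ≤ W) (m : ℕ) :
    ∀ w ∈ W, (x ^ m) w ∈ W := by
  induction m with
  | zero => intro w hw; simpa using hw
  | succ m ih =>
    intro w hw
    rw [pow_succ, Module.End.mul_apply]
    exact ih _ (hWx (Submodule.mem_map_of_mem hw))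

/-- geometric sums of `x` preserve an invariant subspace -/
theorem geom_memFIX {F V : Type*} [Field F] [AddCommGroup V] [Module F V]
    (x : V →ₗ[F] V) (W : Submodule F V) (hWx : W.map x ≤ W) (m : ℕ) :
    ∀ w ∈ W, (∑ j ∈ Finset.range m, x ^ j) w ∈ W := by
  intro w hw
  rw [LinearMap.sum_apply]
  exact W.sum_mem (fun j _ => pow_memFIX x W hWx j w hw)

/-- (FIX) fixed/moved decomposition of an invariant nondegenerate subspace `W`. -/
theorem fix_decomp {F V : Type*} [Field F] [AddCommGroup V] [Module F V]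
    (B : LinearMap.BilinForm F V) (hB : B.IsAlt) (x : V →ₗ[F] V) (hx : IsIsom B x)
    (r : ℕ) (hr0 : (r : F) ≠ 0) (hxr : x ^ r = 1)
    (W : Submodule F V) (hWx : W.map x ≤ W) (hW : NondegOn B W) :
    (W ⊓ LinearMap.ker (x - 1)) ⊓ W.map (x - 1) = ⊥ ∧
    (W ⊓ LinearMap.ker (x - 1)) ⊔ W.map (x - 1) = W ∧
    (∀ u ∈ W ⊓ LinearMap.ker (x - 1), ∀ w ∈ W.map (x - 1), B u w = 0) ∧
    NondegOn B (W ⊓ LinearMap.ker (x - 1)) ∧ NondegOn B (W.map (x - 1)) ∧
    (W.map (x - 1)).map x ≤ W.map (x - 1) ∧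
    (∀ v ∈ W.map (x - 1), x v = v → v = 0) := by
  have hinv : ∀ u ∈ W, x u ∈ W := fun u hu => hWx (Submodule.mem_map_of_mem hu)
  have hker : ∀ v : V, v ∈ LinearMap.ker (x - 1) ↔ x v = v := by
    intro v
    rw [LinearMap.mem_ker, LinearMap.sub_apply, Module.End.one_apply, sub_eq_zero]
  -- the norm operator
  have hNx : (∑ m ∈ Finset.range r, x ^ m) * (x - 1) = 0 := by
    rw [geom_sum_mul, hxr, sub_self]
  have hxN : (x - 1) * (∑ m ∈ Finset.range r, x ^ m) = 0 := by
    rw [mul_geom_sum, hxr, sub_self]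
  have hNfix : ∀ v : V, x v = v → (∑ m ∈ Finset.range r, x ^ m) v = (r : F) • v := by
    intro v hv
    have hp : ∀ m : ℕ, (x ^ m) v = v := by
      intro m
      induction m with
      | zero => simp
      | succ m ih => rw [pow_succ, Module.End.mul_apply, hv, ih]
    rw [LinearMap.sum_apply, Finset.sum_congr rfl (fun m _ => hp m), Finset.sum_const,
      Finset.card_range, Nat.cast_smul_eq_nsmul]
  have hMW : W.map (x - 1) ≤ W := by
    rintro _ ⟨w, hw, rfl⟩
    rw [LinearMap.sub_apply, Module.End.one_apply]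
    exact W.sub_mem (hinv w hw) hw
  -- 1. trivial intersection
  have h1 : (W ⊓ LinearMap.ker (x - 1)) ⊓ W.map (x - 1) = ⊥ := by
    rw [Submodule.eq_bot_iff]
    intro v hv
    obtain ⟨hv1, hv2⟩ := Submodule.mem_inf.1 hv
    obtain ⟨_, hvk⟩ := Submodule.mem_inf.1 hv1
    obtain ⟨w, _, rfl⟩ := hv2
    have hA := hNfix _ ((hker _).1 hvk)
    have hB' : (∑ m ∈ Finset.range r, x ^ m) ((x - 1) w) = 0 := by
      rw [← Module.End.mul_apply, hNx, LinearMap.zero_apply]
    rw [hB'] at hA
    exact (smul_eq_zero.1 hA.symm).resolve_left hr0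
  -- 2. the sum is `W`
  have h2 : (W ⊓ LinearMap.ker (x - 1)) ⊔ W.map (x - 1) = W := by
    apply le_antisymm
    · exact sup_le inf_le_left hMW
    · intro w hw
      have hk : (r : F)⁻¹ • (∑ m ∈ Finset.range r, x ^ m) w ∈ W ⊓ LinearMap.ker (x - 1) := by
        refine Submodule.mem_inf.2 ⟨W.smul_mem _ (geom_memFIX x W hWx r w hw), ?_⟩
        rw [LinearMap.mem_ker, map_smul, ← Module.End.mul_apply, hxN, LinearMap.zero_apply,
          smul_zero]
      have hm : w - (r : F)⁻¹ • (∑ m ∈ Finset.range r, x ^ m) w ∈ W.map (x - 1) := by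
        have hrew : w - (r : F)⁻¹ • (∑ m ∈ Finset.range r, x ^ m) w =
            (r : F)⁻¹ • ∑ m ∈ Finset.range r, (x - 1) (-((∑ j ∈ Finset.range m, x ^ j) w)) := by
          have hterm : ∀ m : ℕ, (x - 1) (-((∑ j ∈ Finset.range m, x ^ j) w)) = w - (x ^ m) w := by
            intro m
            rw [map_neg, ← Module.End.mul_apply, mul_geom_sum, LinearMap.sub_apply,
              Module.End.one_apply]
            abel
          rw [Finset.sum_congr rfl (fun m _ => hterm m), Finset.sum_sub_distrib, Finset.sum_const,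
            Finset.card_range, smul_sub, ← Nat.cast_smul_eq_nsmul F, smul_smul,
            inv_mul_cancel₀ hr0, one_smul, LinearMap.sum_apply]
        rw [hrew]
        apply Submodule.smul_mem
        apply Submodule.sum_mem
        intro m _
        exact Submodule.mem_map_of_mem (W.neg_mem (geom_memFIX x W hWx m w hw))
      have : w = (r : F)⁻¹ • (∑ m ∈ Finset.range r, x ^ m) w +
          (w - (r : F)⁻¹ • (∑ m ∈ Finset.range r, x ^ m) w) := by abel
      rw [this]
      exact Submodule.add_mem_sup hk hm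
  -- 3. orthogonality
  have h3 : ∀ u ∈ W ⊓ LinearMap.ker (x - 1), ∀ w ∈ W.map (x - 1), B u w = 0 := by
    intro u hu w hw
    obtain ⟨_, huk⟩ := Submodule.mem_inf.1 hu
    obtain ⟨w', _, rfl⟩ := hw
    have hxu : x u = u := (hker u).1 huk
    rw [LinearMap.sub_apply, Module.End.one_apply, map_sub]
    have := hx u w'
    rw [hxu] at this
    rw [this, sub_self]
  refine ⟨h1, h2, h3, ?_, ?_, ?_, ?_⟩
  · -- 4. nondegenerate on the fixed part
    intro u hu hu0
    obtain ⟨huW, _⟩ := Submodule.mem_inf.1 hu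
    obtain ⟨v, hv, hBv⟩ := hW u huW hu0
    rw [← h2] at hv
    obtain ⟨k, hk, m, hm, rfl⟩ := Submodule.mem_sup.1 hv
    refine ⟨k, hk, ?_⟩
    rw [map_add, h3 u hu m hm, add_zero] at hBv
    exact hBv
  · -- 5. nondegenerate on the moved part
    intro u hu hu0
    obtain ⟨v, hv, hBv⟩ := hW u (hMW hu) hu0
    rw [← h2] at hv
    obtain ⟨k, hk, m, hm, rfl⟩ := Submodule.mem_sup.1 hv
    refine ⟨m, hm, ?_⟩
    have : B u k = 0 := by rw [alt_skewFIX B hB u k, h3 k hk u hu, neg_zero]
    rw [map_add, this, zero_add] at hBv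
    exact hBv
  · -- 6. invariance of the moved part
    rintro _ ⟨_, ⟨w, hw, rfl⟩, rfl⟩
    refine ⟨x w, hinv w hw, ?_⟩
    simp only [LinearMap.sub_apply, Module.End.one_apply, map_sub]
  · -- 7. no fixed vectors in the moved part
    intro v hv hxv
    have : v ∈ (W ⊓ LinearMap.ker (x - 1)) ⊓ W.map (x - 1) :=
      Submodule.mem_inf.2 ⟨Submodule.mem_inf.2 ⟨hMW hv, (hker v).2 hxv⟩, hv⟩
    rw [h1] at this
    exact (Submodule.mem_bot F).1 this

end Cfsg.Agent.Helper66.SPI
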