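import Mathlib
import Cfsg.Agent.Lib.Helper14.SPIDefs

/-!
# helper66: SPI (POLAR) `exists_nonisotropic` for helper14's server (S5961)
-/

set_option autoImplicit false

namespace Cfsg.Agent.Helper66.SPI

open Module Polynomial Cfsg.Agent.Helper14.SPI

/-- an alternating form is skew-symmetric -/
theorem alt_skewPOLAR {F V : Type*} [Field F] [AddCommGroup V] [Module F V]
    (B : LinearMap.BilinForm F V) (hB : B.IsAlt) (u v : V) : B u v = - B v u := by
  have h := hB (u + v)
  have hu : B u u = 0 := hB u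
  have hv : B v v = 0 := hB v
  simp only [map_add, LinearMap.add_apply] at h
  rw [hu, hv] at h
  linear_combination h

/-- (POLAR) polarisation: otherwise `x² = 1` on `W`, so `x = 1` on `W` (`r` odd). -/
theorem exists_nonisotropic {F V : Type*} [Field F] [AddCommGroup V] [Module F V]
    (B : LinearMap.BilinForm F V) (hB : B.IsAlt) (x : V →ₗ[F] V) (hx : IsIsom B x)
    (r : ℕ) (hodd : Odd r) (hxr : x ^ r = 1)
    (W : Submodule F V) (hWx : W.map x ≤ W) (hW : NondegOn B W) (hW0 : W ≠ ⊥)
    (hfpf : ∀ v ∈ W, x v = v → v = 0) :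
    ∃ u ∈ W, B u (x u) ≠ 0 := by
  by_contra hcon
  have h0 : ∀ u ∈ W, B u (x u) = 0 := by
    intro u hu
    by_contra h
    exact hcon ⟨u, hu, h⟩
  have hinv : ∀ u ∈ W, x u ∈ W := fun u hu => hWx (Submodule.mem_map_of_mem hu)
  -- polarisation
  have hpol : ∀ u ∈ W, ∀ v ∈ W, B u (x v) + B v (x u) = 0 := by
    intro u hu v hv
    have h := h0 (u + v) (W.add_mem hu hv)
    have h1 := h0 u hu
    have h2 := h0 v hv
    simp only [map_add, LinearMap.add_apply] at h
    rw [h1, h2] at h
    linear_combination h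
  -- `x² = 1` on `W`
  have hxx : ∀ u ∈ W, x (x u) = u := by
    intro u hu
    by_contra hne
    have hmem : x (x u) - u ∈ W := W.sub_mem (hinv _ (hinv u hu)) hu
    have hne' : x (x u) - u ≠ 0 := sub_ne_zero.2 hne
    obtain ⟨v, hv, hBv⟩ := hW _ hmem hne'
    apply hBv
    have h1 := hpol (x u) (hinv u hu) v hv
    rw [hx u v] at h1
    have h2 := alt_skewPOLAR B hB (x (x u)) v
    rw [map_sub, LinearMap.sub_apply, h2]
    linear_combination (-1 : F) * h1
  -- even powers of `x` are trivial on `W`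
  have hpow : ∀ k : ℕ, ∀ u ∈ W, (x ^ (2 * k)) u = u := by
    intro k
    induction k with
    | zero => intro u _; simp
    | succ k ih =>
      intro u hu
      have : 2 * (k + 1) = 2 * k + 1 + 1 := by ring
      rw [this, pow_succ, pow_succ, Module.End.mul_apply, Module.End.mul_apply, hxx u hu, ih u hu]
  obtain ⟨k, hk⟩ := hodd
  apply hW0
  rw [Submodule.eq_bot_iff]
  intro u hu
  apply hfpf u hu
  have h1 : (x ^ r) u = x u := by
    rw [hk, pow_succ, Module.End.mul_apply, hpow k (x u) (hinv u hu)]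
  rw [hxr] at h1
  exact h1.symm

end Cfsg.Agent.Helper66.SPI
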