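import Mathlib
import Cfsg.Agent.Lib.Helper14.SPIDefs

/-!
# helper66: SPI (ORTHC) `orth_compl_on` for helper14's server (S5961)
-/

set_option autoImplicit false

namespace Cfsg.Agent.Helper66.SPI

open Module Polynomial Cfsg.Agent.Helper14.SPI

/-- an alternating form is skew-symmetric -/
theorem alt_skewORTHC {F V : Type*} [Field F] [AddCommGroup V] [Module F V]
    (B : LinearMap.BilinForm F V) (hB : B.IsAlt) (u v : V) : B u v = - B v u := by
  have h := hB (u + v)
  have hu : B u u = 0 := hB u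
  have hv : B v v = 0 := hB v
  simp only [map_add, LinearMap.add_apply] at h
  rw [hu, hv] at h
  linear_combination h

/-- (ORTHC) orthogonal complement inside `R`. `B.orthogonal W = {m | ∀ n ∈ W, B n m = 0}`. -/
theorem orth_compl_on {F V : Type*} [Field F] [AddCommGroup V] [Module F V]
    [FiniteDimensional F V] (B : LinearMap.BilinForm F V) (hB : B.IsAlt)
    (R W : Submodule F V) (hWR : W ≤ R) (hW : NondegOn B W) (hR : NondegOn B R) :
    W ⊓ (R ⊓ B.orthogonal W) = ⊥ ∧ W ⊔ (R ⊓ B.orthogonal W) = R ∧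
      NondegOn B (R ⊓ B.orthogonal W) := by
  have hdisj : W ⊓ B.orthogonal W = ⊥ := by
    rw [Submodule.eq_bot_iff]
    intro u hu
    obtain ⟨hu1, hu2⟩ := Submodule.mem_inf.1 hu
    by_contra hne
    obtain ⟨v, hv, hBv⟩ := hW u hu1 hne
    apply hBv
    rw [alt_skewORTHC B hB u v, LinearMap.BilinForm.mem_orthogonal_iff.1 hu2 v hv, neg_zero]
  have hcompl : IsCompl W (B.orthogonal W) :=
    (LinearMap.BilinForm.isCompl_orthogonal_iff_disjoint hB.isRefl).2 (disjoint_iff.2 hdisj)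
  have hsup : W ⊔ (R ⊓ B.orthogonal W) = R := by
    rw [inf_comm R, ← sup_inf_assoc_of_le _ hWR, hcompl.sup_eq_top, top_inf_eq]
  refine ⟨?_, hsup, ?_⟩
  · rw [Submodule.eq_bot_iff]
    intro u hu
    obtain ⟨hu1, hu2⟩ := Submodule.mem_inf.1 hu
    have : u ∈ W ⊓ B.orthogonal W := Submodule.mem_inf.2 ⟨hu1, (Submodule.mem_inf.1 hu2).2⟩
    rw [hdisj] at this
    exact (Submodule.mem_bot F).1 this
  · intro u hu hu0
    obtain ⟨huR, huW⟩ := Submodule.mem_inf.1 hu
    obtain ⟨v, hv, hBv⟩ := hR u huR hu0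
    rw [← hsup] at hv
    obtain ⟨w, hw, c, hc, rfl⟩ := Submodule.mem_sup.1 hv
    refine ⟨c, hc, ?_⟩
    have h1 : B u w = 0 := by
      rw [alt_skewORTHC B hB u w, LinearMap.BilinForm.mem_orthogonal_iff.1 huW w hw, neg_zero]
    rw [map_add, h1, zero_add] at hBv
    exact hBv

end Cfsg.Agent.Helper66.SPI
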