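import Mathlib
import Cfsg.Agent.Lib.Helper67.BGCruxDefs
import Cfsg.Agent.Lib.Helper97.BG144

/-!
# CRUX (C2) of helper67's BGCrux lemma server: the `H`-side facts (`hside`).
-/

set_option autoImplicit false
set_option linter.unusedVariables false
set_option linter.unusedSectionVars false

namespace Cfsg.Agent.Helper66.BGCrux

open Subgroup Cfsg
open Cfsg.Agent.Helper52 (sylCard)
open Cfsg.Agent.Helper67.BGCrux

variable {G : Type*} [Group G] [Finite G]

theorem c2_sigmaCore_le (M : Subgroup G) : sigmaCore M ≤ M := by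
  intro x hx
  simp only [sigmaCore, Subgroup.mem_map] at hx
  obtain ⟨y, _, rfl⟩ := hx
  exact y.2

theorem c2_conj_mem_sigmaCore {M : Subgroup G} {m y : G} (hm : m ∈ M) (hy : y ∈ sigmaCore M) :
    m * y * m⁻¹ ∈ sigmaCore M := by
  simp only [sigmaCore, Subgroup.mem_map] at hy ⊢
  obtain ⟨z, hz, rfl⟩ := hy
  refine ⟨⟨m, hm⟩ * z * ⟨m, hm⟩⁻¹, ?_, by simp⟩
  exact (piCore_normal (sigma M) M).conj_mem z hz ⟨m, hm⟩

/-- **(C2)** the H-side. -/
theorem hside (hG : IsMinSimpleOddOrder G) (rows : Rows G) (inp : Inputs G) {M E Y H : Subgroup G} {s : ℕ}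
    (cfg : Cfg M E Y s) (hEY : E ≤ normalizer (Y : Set G)) (hH : IsCoatom H)
    (hNH : normalizer (Y : Set G) ≤ H) : HSide M E Y H s := by
  have hsP : s.Prime := cfg.hs.1
  have hsM : s ∉ sigma M := cfg.hs.2.1
  have hrk : PRankLE s 1 M := cfg.hs.2.2.2
  have hEM : E ≤ M := cfg.hE.1
  have hYM : Y ≤ M := cfg.hYE.trans hEM
  have hYσ : Y ≤ sigmaCore H := inp.l6 M cfg.hM s hsP hsM hrk Y hYM cfg.hY cfg.hC H hH hNH
  have hsH : s ∈ sigma H := by
    have h1 := (rows.r1350 H hH).2.1.1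
    apply h1 s hsP
    rw [← cfg.hY]
    exact Subgroup.card_dvd_of_le hYσ
  have hnc : ∀ g : G, H ≠ M.map (MulAut.conj g).toMonoidHom := by
    intro g hg
    apply hsM
    rw [← Cfsg.Agent.Helper97.BG144.sigma_map_conj M g, ← hg]
    exact hsH
  have hdisj : ∀ p : ℕ, p ∈ sigma M → p ∉ sigma H := by
    intro p hpM hpH
    obtain ⟨g, hg⟩ := inp.sp M H cfg.hM hH ⟨p, hpM, hpH⟩
    exact hnc g hg
  have hEH : E ≤ H := hEY.trans hNH
  have hcop : sigmaCore M ⊓ sigmaCore H = ⊥ := by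
    by_contra hne
    have hc1 : Nat.card ↥(sigmaCore M ⊓ sigmaCore H) ≠ 1 := by
      intro h1
      exact hne (Subgroup.card_eq_one.mp h1)
    obtain ⟨p, hp, hpd⟩ := Nat.exists_prime_and_dvd hc1
    have h1 := (rows.r1350 M cfg.hM).2.1.1 p hp (hpd.trans (Subgroup.card_dvd_of_le inf_le_left))
    have h2 := (rows.r1350 H hH).2.1.1 p hp (hpd.trans (Subgroup.card_dvd_of_le inf_le_right))
    exact hdisj p h1 h2
  have hMsH : sigmaCore M ⊓ H = sigmaCore M ⊓ centralizer (Y : Set G) := by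
    apply le_antisymm
    · intro x hx
      refine Subgroup.mem_inf.mpr ⟨hx.1, ?_⟩
      rw [Subgroup.mem_centralizer_iff]
      intro y hy
      have hyH : y ∈ sigmaCore H := hYσ hy
      have h1 : x * y * x⁻¹ * y⁻¹ ∈ sigmaCore M ⊓ sigmaCore H := by
        refine Subgroup.mem_inf.mpr ⟨?_, ?_⟩
        · have h2 : y * x⁻¹ * y⁻¹ ∈ sigmaCore M := c2_conj_mem_sigmaCore (hYM hy) (inv_mem hx.1)
          have h3 := mul_mem hx.1 h2
          simpa [mul_assoc] using h3
        · have h2 : x * y * x⁻¹ ∈ sigmaCore H := c2_conj_mem_sigmaCore hx.2 hyH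
          exact mul_mem h2 (inv_mem hyH)
      rw [hcop, Subgroup.mem_bot] at h1
      have h4 : x * y = y * x := by
        have h5 : x * y * x⁻¹ * y⁻¹ * (y * x) = y * x := by rw [h1, one_mul]
        rw [← h5]; group
      exact h4.symm
    · exact inf_le_inf_left _ ((Subgroup.centralizer_le_normalizer _).trans hNH)
  have hMH : M ⊓ H = (sigmaCore M ⊓ centralizer (Y : Set G)) ⊔ E := by
    apply le_antisymm
    · intro m hm
      obtain ⟨a, ha, b, hb, rfl⟩ := cfg.hE.2.2.2 m hm.1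
      have hbH : b ∈ H := by
        have h1 : a⁻¹ * (a * b) ∈ H := mul_mem (inv_mem (hEH ha)) hm.2
        simpa using h1
      have hbC : b ∈ sigmaCore M ⊓ centralizer (Y : Set G) := by
        rw [← hMsH]; exact ⟨hb, hbH⟩
      exact mul_mem (Subgroup.mem_sup_right ha) (Subgroup.mem_sup_left hbC)
    · apply sup_le
      · exact le_inf (inf_le_left.trans (c2_sigmaCore_le M)) (hMsH.symm.le.trans inf_le_right)
      · exact le_inf hEM hEH
  exact ⟨hH, hNH, hYσ, hsH, hnc, hdisj, hEH, hMsH, hMH⟩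

end Cfsg.Agent.Helper66.BGCrux
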