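import Mathlib.GroupTheory.Sylow
import Mathlib.GroupTheory.Nilpotent

set_option autoImplicit false

namespace Cfsg.Agent.Helper66

/-- Membership in a conjugate Sylow subgroup, in elementary form. -/
theorem mem_sylow_smul_iff {G : Type*} [Group G] {p : ℕ} (P : Sylow p G) (g x : G) :
    x ∈ ((g • P : Sylow p G) : Subgroup G) ↔ g⁻¹ * x * g ∈ (P : Subgroup G) := by
  rw [Sylow.coe_subgroup_smul, Subgroup.mem_pointwise_smul_iff_inv_smul_mem, MulAut.smul_def,
    ← map_inv, MulAut.conj_apply, inv_inv]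

/-- Two subgroups of `H ≤ G` whose order is the full `p`-part of `|H|` are conjugate by an
element of `H`. -/
theorem exists_conj_of_card_eq {G : Type*} [Group G] [Finite G] (p : ℕ) [Fact p.Prime]
    (H A B : Subgroup G) (hA : A ≤ H) (hB : B ≤ H)
    (hcA : Nat.card A = p ^ (Nat.card H).factorization p)
    (hcB : Nat.card B = p ^ (Nat.card H).factorization p) :
    ∃ h ∈ H, ∀ b : G, b ∈ B ↔ h⁻¹ * b * h ∈ A := by
  have e1 : Nat.card (A.subgroupOf H) = Nat.card A :=
    Nat.card_congr (Subgroup.subgroupOfEquivOfLe hA).toEquiv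
  have e2 : Nat.card (B.subgroupOf H) = Nat.card B :=
    Nat.card_congr (Subgroup.subgroupOfEquivOfLe hB).toEquiv
  obtain ⟨h, hh⟩ := MulAction.exists_smul_eq H
    (Sylow.ofCard (A.subgroupOf H) (by rw [e1, hcA])) (Sylow.ofCard (B.subgroupOf H) (by rw [e2, hcB]))
  refine ⟨h, h.2, fun b => ?_⟩
  constructor
  · intro hb
    have hbH : b ∈ H := hB hb
    have h1 : (⟨b, hbH⟩ : H) ∈ ((Sylow.ofCard (B.subgroupOf H) (by rw [e2, hcB]) : Sylow p H) : Subgroup H) := hb
    rw [← hh, mem_sylow_smul_iff] at h1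
    exact h1
  · intro hb
    have hbH : b ∈ H := by
      have := H.mul_mem (H.mul_mem h.2 (hA hb)) (H.inv_mem h.2)
      simpa [mul_assoc] using this
    have h1 : (⟨b, hbH⟩ : H) ∈ ((Sylow.ofCard (B.subgroupOf H) (by rw [e2, hcB]) : Sylow p H) : Subgroup H) := by
      rw [← hh, mem_sylow_smul_iff]
      exact hb
    exact h1

/-- Every `p`-subgroup of `H ≤ G` lies in a subgroup of `H` whose order is the full `p`-part
of `|H|`. -/
theorem exists_le_card_eq {G : Type*} [Group G] [Finite G] (p : ℕ) [Fact p.Prime]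
    (H A : Subgroup G) (hA : A ≤ H) (hpA : IsPGroup p A) :
    ∃ S : Subgroup G, A ≤ S ∧ S ≤ H ∧ Nat.card S = p ^ (Nat.card H).factorization p := by
  have hpA' : IsPGroup p (A.subgroupOf H) := hpA.comap_subtype
  obtain ⟨S₀, hS₀⟩ := hpA'.exists_le_sylow
  refine ⟨(S₀ : Subgroup H).map H.subtype, ?_, ?_, ?_⟩
  · intro a ha
    exact ⟨⟨a, hA ha⟩, hS₀ (show (⟨a, hA ha⟩ : H) ∈ A.subgroupOf H from ha), rfl⟩
  · rintro _ ⟨s, _, rfl⟩
    exact s.2
  · rw [Subgroup.card_map_of_injective H.subtype_injective]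
    exact S₀.card_eq_multiplicity

end Cfsg.Agent.Helper66
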