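import Mathlib.GroupTheory.Sylow
import Mathlib.GroupTheory.Nilpotent
import Cfsg.Agent.Lib.Helper2.Frobenius
import Cfsg.Agent.Lib.Helper66.SylowSub
import Cfsg.Agent.Lib.Helper90.MinNonNilp
import Cfsg.Prelude.Def_HallClasses

set_option autoImplicit false

namespace Cfsg.Agent.Helper66

/-- If `C ≤ N` and `C` contains a full Sylow `r`-subgroup of `G` (numerically), then `r` does
not divide `|N : C|`. -/
theorem not_dvd_relIndex_of_pow_dvd {G : Type*} [Group G] [Finite G] (r : ℕ) (hr : r.Prime)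
    (C N : Subgroup G) (hCN : C ≤ N) (h : r ^ (Nat.card G).factorization r ∣ Nat.card C) :
    ¬ r ∣ C.relIndex N := by
  intro hdvd
  have h1 : C.relIndex N * N.index = C.index := Subgroup.relIndex_mul_index hCN
  have h2 : Nat.card C * C.index = Nat.card G := C.card_mul_index
  have h3 : r ^ ((Nat.card G).factorization r + 1) ∣ Nat.card G := by
    have h4 : Nat.card C * C.relIndex N ∣ Nat.card G := by
      rw [← h2, ← h1, ← mul_assoc]
      exact Dvd.intro _ rfl
    refine Dvd.dvd.trans ?_ h4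
    rw [pow_succ]
    exact Nat.mul_dvd_mul h hdvd
  exact Nat.pow_succ_factorization_not_dvd Nat.card_pos.ne' hr h3

/-- The key `N/C` argument: if a Hall subgroup `H` of `G` contains a Sylow `p`-subgroup `S` of
`G` which is centralized by all `p'`-elements of `H`, then any `p'`-element `g` normalizing a
`p`-subgroup `X`, all of whose prime divisors divide `|H|`, centralizes `X`. -/
theorem mem_centralizer_of_hall {G : Type*} [Group G] [Finite G] (p : ℕ) [Fact p.Prime]
    (H S : Subgroup G) (hHall : Nat.Coprime (Nat.card H) H.index)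
    (hS : Nat.card S = p ^ (Nat.card G).factorization p)
    (hcomm : ∀ h ∈ H, Nat.Coprime (orderOf h) p → ∀ s ∈ S, s * h = h * s)
    (X : Subgroup G) (hX : IsPGroup p X) (g : G) (hg : g ∈ Subgroup.normalizer (X : Set G))
    (hgo : Nat.Coprime (orderOf g) p) (hgH : ∀ r : ℕ, r.Prime → r ∣ orderOf g → r ∣ Nat.card H) :
    g ∈ Subgroup.centralizer (X : Set G) := by
  have hpp : p.Prime := Fact.out
  -- `X ≤ S ^ x`
  obtain ⟨S₁, hXS₁, -, hS₁⟩ := exists_le_card_eq p ⊤ X le_top hX
  rw [Subgroup.card_top] at hS₁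
  obtain ⟨x, -, hx⟩ := exists_conj_of_card_eq p ⊤ S S₁ le_top le_top
    (by rw [Subgroup.card_top]; exact hS) (by rw [Subgroup.card_top]; exact hS₁)
  have hXS : ∀ y ∈ X, x⁻¹ * y * x ∈ S := fun y hy => (hx y).mp (hXS₁ hy)
  -- the homomorphism `N(X) → Aut X`
  let ψ := Subgroup.normalizerMonoidHom X
  have hker : ψ.ker = (Subgroup.centralizer (X : Set G)).subgroupOf
      (Subgroup.normalizer (X : Set G)) := Subgroup.normalizerMonoidHom_ker X
  have hord1 : orderOf (ψ ⟨g, hg⟩) ∣ orderOf g := by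
    have := orderOf_map_dvd ψ (⟨g, hg⟩ : Subgroup.normalizer (X : Set G))
    rwa [Subgroup.orderOf_mk] at this
  have hord2 : orderOf (ψ ⟨g, hg⟩) ∣
      (Subgroup.centralizer (X : Set G)).relIndex (Subgroup.normalizer (X : Set G)) := by
    have h1 : orderOf (ψ.rangeRestrict ⟨g, hg⟩) ∣ Nat.card ψ.range := orderOf_dvd_natCard _
    rw [← Subgroup.orderOf_coe, MonoidHom.coe_rangeRestrict, ← Subgroup.index_ker, hker] at h1
    exact h1
  have hone : orderOf (ψ ⟨g, hg⟩) = 1 := by
    by_contra hne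
    obtain ⟨r, hr, hrd⟩ := Nat.exists_prime_and_dvd hne
    have hrg : r ∣ orderOf g := hrd.trans hord1
    have hrH : r ∣ Nat.card H := hgH r hr hrg
    have hrp : r ≠ p := by
      rintro rfl
      have := Nat.Coprime.eq_one_of_dvd hgo.symm hrg
      exact hr.one_lt.ne' this
    have : Fact r.Prime := ⟨hr⟩
    -- a Sylow `r`-subgroup of `H` is a Sylow `r`-subgroup of `G`
    have Q : Sylow r H := default
    have hQcard : Nat.card ((Q : Subgroup H).map H.subtype) = r ^ (Nat.card G).factorization r := by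
      rw [Subgroup.card_map_of_injective H.subtype_injective, Q.card_eq_multiplicity]
      congr 1
      have hri : ¬ r ∣ H.index := by
        intro hri
        have := Nat.eq_one_of_dvd_coprimes hHall hrH hri
        exact hr.one_lt.ne' this
      rw [← H.card_mul_index, Nat.factorization_mul Nat.card_pos.ne'
        Subgroup.index_ne_zero_of_finite]
      simp only [Finsupp.coe_add, Pi.add_apply]
      rw [Nat.factorization_eq_zero_of_not_dvd hri, add_zero]
    -- its conjugate by `x` centralizes `X`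
    have hQC : ((Q : Subgroup H).map H.subtype).map (MulAut.conj x).toMonoidHom ≤
        Subgroup.centralizer (X : Set G) := by
      rintro _ ⟨_, ⟨q, hq, rfl⟩, rfl⟩
      rw [Subgroup.mem_centralizer_iff]
      intro y hy
      have hqo : Nat.Coprime (orderOf (q : G)) p := by
        obtain ⟨k, hk⟩ := IsPGroup.iff_orderOf.mp Q.2 ⟨q, hq⟩
        rw [Subgroup.orderOf_mk] at hk
        rw [Subgroup.orderOf_coe, hk]
        exact Nat.Coprime.pow_left k ((Nat.coprime_primes hr hpp).mpr hrp)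
      have h1 := hcomm (q : G) q.2 hqo _ (hXS y hy)
      show y * (x * (q : G) * x⁻¹) = x * (q : G) * x⁻¹ * y
      calc y * (x * (q : G) * x⁻¹) = x * ((x⁻¹ * y * x) * (q : G)) * x⁻¹ := by group
        _ = x * ((q : G) * (x⁻¹ * y * x)) * x⁻¹ := by rw [h1]
        _ = x * (q : G) * x⁻¹ * y := by group
    have hdvd : r ^ (Nat.card G).factorization r ∣ Nat.card (Subgroup.centralizer (X : Set G)) := by
      have h1 := Subgroup.card_dvd_of_le hQC
      rw [Subgroup.card_map_of_injective (MulAut.conj x).injective, hQcard] at h1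
      exact h1
    exact not_dvd_relIndex_of_pow_dvd r hr _ _ (Subgroup.centralizer_le_normalizer _) hdvd
      (hrd.trans hord2)
  rw [orderOf_eq_one_iff] at hone
  have h2 : (⟨g, hg⟩ : Subgroup.normalizer (X : Set G)) ∈ ψ.ker := hone
  rw [hker, Subgroup.mem_subgroupOf] at h2
  exact h2

/-- Under the hypotheses of `mem_centralizer_of_hall`, every subgroup `K` whose order involves
only primes dividing `|H|` satisfies Frobenius' condition for `p`. -/
theorem frobCond_of_hall {G : Type*} [Group G] [Finite G] (p : ℕ) [Fact p.Prime]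
    (H S : Subgroup G) (hHall : Nat.Coprime (Nat.card H) H.index)
    (hS : Nat.card S = p ^ (Nat.card G).factorization p)
    (hcomm : ∀ h ∈ H, Nat.Coprime (orderOf h) p → ∀ s ∈ S, s * h = h * s)
    (K : Subgroup G) (hK : ∀ r : ℕ, r.Prime → r ∣ Nat.card K → r ∣ Nat.card H) :
    Cfsg.Agent.Helper2.FrobCond p K := by
  intro X hX g hg hgo
  have hX' : IsPGroup p (X.map K.subtype) := hX.map _
  have hg' : (g : G) ∈ Subgroup.normalizer ((X.map K.subtype : Subgroup G) : Set G) :=
    Subgroup.le_normalizer_map K.subtype ⟨g, hg, rfl⟩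
  have hgo' : Nat.Coprime (orderOf (g : G)) p := by rwa [Subgroup.orderOf_coe]
  have hgH : ∀ r : ℕ, r.Prime → r ∣ orderOf (g : G) → r ∣ Nat.card H := by
    intro r hr hrg
    apply hK r hr
    rw [Subgroup.orderOf_coe] at hrg
    exact hrg.trans (orderOf_dvd_natCard g)
  have hc := mem_centralizer_of_hall p H S hHall hS hcomm _ hX' _ hg' hgo' hgH
  rw [Subgroup.mem_centralizer_iff] at hc ⊢
  intro h hh
  apply Subtype.ext
  exact hc (h : G) ⟨h, hh, rfl⟩

/-- The conjugation step: if `K = M ⋊ P` with `P` a `p`-group and `M` conjugated by `g` into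
`H`, centralized there by a Sylow `p`-subgroup `S ≤ H` of `G`, then `K` is conjugate to a
subgroup of `H`. -/
theorem subconj_step {G : Type*} [Group G] [Finite G] (p : ℕ) [Fact p.Prime]
    (H S K : Subgroup G) (M P : Subgroup K) (hMn : M.Normal) (hc : M.IsComplement' P)
    (hP : IsPGroup p P) (hSH : S ≤ H) (hS : Nat.card S = p ^ (Nat.card G).factorization p)
    (g : G) (hMH : ∀ m ∈ M, g * (m : G) * g⁻¹ ∈ H)
    (hcomm : ∀ m ∈ M, ∀ s ∈ S, s * (g * (m : G) * g⁻¹) = g * (m : G) * g⁻¹ * s) :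
    ∃ n : G, ∀ k ∈ K, n * k * n⁻¹ ∈ H := by
  have hpp : p.Prime := Fact.out
  -- names
  obtain ⟨M₀, hM₀⟩ : ∃ M₀ : Subgroup G, M₀ = M.map K.subtype := ⟨_, rfl⟩
  obtain ⟨P₀, hP₀⟩ : ∃ P₀ : Subgroup G, P₀ = P.map K.subtype := ⟨_, rfl⟩
  obtain ⟨S', hS'⟩ : ∃ S' : Subgroup G, S' = S.map (MulAut.conj g⁻¹).toMonoidHom := ⟨_, rfl⟩
  obtain ⟨N, hN⟩ : ∃ N : Subgroup G, N = Subgroup.normalizer (M₀ : Set G) := ⟨_, rfl⟩
  have hmemS' : ∀ b : G, b ∈ S' ↔ g * b * g⁻¹ ∈ S := by
    intro b
    rw [hS']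
    constructor
    · rintro ⟨s, hs, rfl⟩
      have : g * ((MulAut.conj g⁻¹).toMonoidHom s) * g⁻¹ = s := by
        simp [mul_assoc]
      rw [this]; exact hs
    · intro hb
      refine ⟨g * b * g⁻¹, hb, ?_⟩
      simp [mul_assoc]
  have hS'card : Nat.card S' = p ^ (Nat.card G).factorization p := by
    rw [hS', Subgroup.card_map_of_injective (MulAut.conj g⁻¹).injective, hS]
  -- `S'` centralizes `M₀`
  have hS'N : S' ≤ N := by
    rw [hN]
    refine le_trans ?_ (Subgroup.centralizer_le_normalizer _)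
    intro b hb
    rw [Subgroup.mem_centralizer_iff]
    intro y hy
    have hy' : y ∈ M.map K.subtype := by rw [← hM₀]; exact hy
    obtain ⟨m, hm, rfl⟩ := hy'
    have h1 := hcomm m hm _ ((hmemS' b).mp hb)
    show (m : G) * b = b * (m : G)
    have h2 : g * (b * (m : G)) * g⁻¹ = g * ((m : G) * b) * g⁻¹ := by
      calc g * (b * (m : G)) * g⁻¹ = g * b * g⁻¹ * (g * (m : G) * g⁻¹) := by group
        _ = g * (m : G) * g⁻¹ * (g * b * g⁻¹) := h1
        _ = g * ((m : G) * b) * g⁻¹ := by group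
    have h3 := mul_left_cancel (mul_right_cancel h2)
    exact h3.symm
  -- `K` normalizes `M₀`
  have hKN : K ≤ N := by
    rw [hN]
    intro k hk
    rw [Subgroup.mem_normalizer_iff_map_conj_eq]
    apply Subgroup.eq_of_le_of_card_ge
    · rw [hM₀]
      rintro _ ⟨_, ⟨m, hm, rfl⟩, rfl⟩
      refine ⟨⟨k, hk⟩ * m * ⟨k, hk⟩⁻¹, hMn.conj_mem m hm ⟨k, hk⟩, ?_⟩
      simp [MulAut.conj_apply]
    · rw [Subgroup.card_map_of_injective (MulAut.conj k).injective]
  have hP₀N : P₀ ≤ N := by
    rw [hP₀]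
    rintro _ ⟨x, _, rfl⟩
    exact hKN x.2
  have hP₀p : IsPGroup p P₀ := by rw [hP₀]; exact hP.map _
  obtain ⟨S'', hPS'', hS''N, hS''card⟩ := exists_le_card_eq p N P₀ hP₀N hP₀p
  have hfac : (Nat.card N).factorization p = (Nat.card G).factorization p := by
    apply le_antisymm
    · exact (Nat.factorization_le_iff_dvd Nat.card_pos.ne' Nat.card_pos.ne').mpr
        (Subgroup.card_subgroup_dvd_card _) p
    · have h1 : p ^ (Nat.card G).factorization p ∣ Nat.card N := by
        rw [← hS'card]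
        exact Subgroup.card_dvd_of_le hS'N
      exact (hpp.pow_dvd_iff_le_factorization Nat.card_pos.ne').mp h1
  obtain ⟨h, hhN, hh⟩ := exists_conj_of_card_eq p N S' S'' hS'N hS''N
    (by rw [hfac, hS'card]) hS''card
  refine ⟨g * h⁻¹, ?_⟩
  intro k hk
  obtain ⟨⟨⟨m, hm⟩, ⟨x, hx⟩⟩, hmx⟩ := hc.2 ⟨k, hk⟩
  have hk_eq : k = (m : G) * (x : G) := by
    have := congrArg Subtype.val hmx
    simpa using this.symm
  -- the `M`-part
  have h1 : g * h⁻¹ * (m : G) * (g * h⁻¹)⁻¹ ∈ H := by
    have hm₀ : (m : G) ∈ M₀ := by rw [hM₀]; exact ⟨m, hm, rfl⟩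
    have hh' : h⁻¹ ∈ N := N.inv_mem hhN
    rw [hN] at hh'
    have h2 : h⁻¹ * (m : G) * h⁻¹⁻¹ ∈ M₀ := (Subgroup.mem_normalizer_iff.mp hh' _).mp hm₀
    rw [hM₀] at h2
    obtain ⟨m₂, hm₂, hm₂'⟩ := h2
    have h3 := hMH m₂ hm₂
    have h4 : g * h⁻¹ * (m : G) * (g * h⁻¹)⁻¹ = g * (m₂ : G) * g⁻¹ := by
      have : (m₂ : G) = h⁻¹ * (m : G) * h⁻¹⁻¹ := hm₂'
      rw [this]; group
    rw [h4]; exact h3
  -- the `P`-part
  have h2 : g * h⁻¹ * (x : G) * (g * h⁻¹)⁻¹ ∈ H := by
    have hx₀ : (x : G) ∈ S'' := hPS'' (by rw [hP₀]; exact ⟨x, hx, rfl⟩)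
    have h3 := (hmemS' _).mp ((hh _).mp hx₀)
    have h4 : g * h⁻¹ * (x : G) * (g * h⁻¹)⁻¹ = g * (h⁻¹ * (x : G) * h) * g⁻¹ := by group
    rw [h4]; exact hSH h3
  have h5 : g * h⁻¹ * k * (g * h⁻¹)⁻¹ =
      (g * h⁻¹ * (m : G) * (g * h⁻¹)⁻¹) * (g * h⁻¹ * (x : G) * (g * h⁻¹)⁻¹) := by
    rw [hk_eq]; group
  rw [h5]
  exact H.mul_mem h1 h2

/-- Core Hall-type conjugacy theorem.  Let `H` be a Hall subgroup of `G` and `Sg` a set of primes
`p` for each of which `H` contains a Sylow `p`-subgroup of `G` centralized by all `p'`-elements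
of `H`.  If every subgroup whose order involves only primes of `|H|` outside `Sg` is conjugate
into `H`, then so is every subgroup whose order involves only primes dividing `|H|`. -/
theorem subconj_core {G : Type*} [Group G] [Finite G] (H : Subgroup G)
    (hHall : Nat.Coprime (Nat.card H) H.index) (Sg : Set ℕ)
    (hSg : ∀ p ∈ Sg, p.Prime ∧ ∃ S : Subgroup G, S ≤ H ∧
      Nat.card S = p ^ (Nat.card G).factorization p ∧
      ∀ h ∈ H, Nat.Coprime (orderOf h) p → ∀ s ∈ S, s * h = h * s)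
    (hT : ∀ T : Subgroup G, (∀ r : ℕ, r.Prime → r ∣ Nat.card T → r ∣ Nat.card H ∧ r ∉ Sg) →
      ∃ g : G, ∀ t ∈ T, g * t * g⁻¹ ∈ H) :
    ∀ (n : ℕ) (K : Subgroup G), Nat.card K = n →
      (∀ r : ℕ, r.Prime → r ∣ Nat.card K → r ∣ Nat.card H) →
      ∃ g : G, ∀ k ∈ K, g * k * g⁻¹ ∈ H := by
  intro n
  induction n using Nat.strong_induction_on with
  | _ n ih =>
  intro K hKn hK
  by_cases hex : ∃ p ∈ Sg, p ∣ Nat.card K
  · obtain ⟨p, hpS, hpK⟩ := hex
    obtain ⟨hpp, S, hSH, hS, hcomm⟩ := hSg p hpS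
    have : Fact p.Prime := ⟨hpp⟩
    have hF := frobCond_of_hall p H S hHall hS hcomm K hK
    obtain ⟨P, M, hMn, hc⟩ := Cfsg.Agent.Helper2.frobenius p hF
    have hMcop : Nat.Coprime (Nat.card M) p := by
      rw [← hc.index_eq_card]
      exact ((Nat.Prime.coprime_iff_not_dvd hpp).mpr P.not_dvd_index).symm
    have hcard : Nat.card M * Nat.card (P : Subgroup K) = Nat.card K := hc.card_mul_card
    have hlt : Nat.card (M.map K.subtype) < n := by
      rw [Subgroup.card_map_of_injective K.subtype_injective, ← hKn, ← hcard]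
      have hP1 : Nat.card (P : Subgroup K) ≠ 1 := by
        intro h1
        rw [h1, mul_one] at hcard
        rw [← hcard] at hpK
        have := Nat.Coprime.eq_one_of_dvd hMcop.symm hpK
        exact hpp.one_lt.ne' this
      have hPpos : 0 < Nat.card (P : Subgroup K) := Nat.card_pos
      have hMpos : 0 < Nat.card M := Nat.card_pos
      have hP2 : 2 ≤ Nat.card (P : Subgroup K) := by omega
      nlinarith
    have hM₀ : ∀ r : ℕ, r.Prime → r ∣ Nat.card (M.map K.subtype) → r ∣ Nat.card H := by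
      intro r hr hrd
      apply hK r hr
      exact hrd.trans (Subgroup.card_dvd_of_le (by rintro _ ⟨m, _, rfl⟩; exact m.2))
    obtain ⟨g, hg⟩ := ih _ hlt (M.map K.subtype) rfl hM₀
    apply subconj_step p H S K M P hMn hc P.2 hSH hS g
    · intro m hm; exact hg _ ⟨m, hm, rfl⟩
    · intro m hm s hs
      have hmH := hg _ ⟨m, hm, rfl⟩
      have hmo : Nat.Coprime (orderOf (g * (m : G) * g⁻¹)) p := by
        rw [Cfsg.Agent.Helper2.orderOf_conj', Subgroup.orderOf_coe]
        have h1 : orderOf (⟨m, hm⟩ : M) ∣ Nat.card M := orderOf_dvd_natCard _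
        rw [Subgroup.orderOf_mk] at h1
        exact Nat.Coprime.coprime_dvd_left h1 hMcop
      exact hcomm _ hmH hmo s hs
  · apply hT K
    intro r hr hrK
    exact ⟨hK r hr hrK, fun hrS => hex ⟨r, hrS, hrK⟩⟩

/-- A Sylow `p`-subgroup of a subgroup `A` of index prime to `p` has the order of a Sylow
`p`-subgroup of `G`. -/
theorem card_sylow_map_of_not_dvd_index {G : Type*} [Group G] [Finite G] (p : ℕ) [Fact p.Prime]
    (A : Subgroup G) (hp : ¬ p ∣ A.index) (Q : Sylow p A) :
    Nat.card ((Q : Subgroup A).map A.subtype) = p ^ (Nat.card G).factorization p := by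
  rw [Subgroup.card_map_of_injective A.subtype_injective, Q.card_eq_multiplicity]
  congr 1
  rw [← A.card_mul_index, Nat.factorization_mul Nat.card_pos.ne'
    Subgroup.index_ne_zero_of_finite]
  simp only [Finsupp.coe_add, Pi.add_apply]
  rw [Nat.factorization_eq_zero_of_not_dvd hp, add_zero]

/-- In a nilpotent subgroup `A`, `p'`-elements commute with the elements of a Sylow
`p`-subgroup. -/
theorem commute_sylow_of_isNilpotent {G : Type*} [Group G] [Finite G] (p : ℕ) [Fact p.Prime]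
    (A : Subgroup G) [Group.IsNilpotent A] (Q : Sylow p A) (x : G) (hx : x ∈ A)
    (hxo : Nat.Coprime (orderOf x) p) (s : G) (hs : s ∈ (Q : Subgroup A).map A.subtype) :
    s * x = x * s := by
  obtain ⟨s', hs', rfl⟩ := hs
  have h1 := Cfsg.Agent.Helper90.mem_centralizer_of_coprime_of_isNilpotent p
    (Q : Subgroup A) Q.2 ⟨x, hx⟩ (by rw [Subgroup.orderOf_mk]; exact hxo)
  have h2 := Subgroup.mem_centralizer_iff.mp h1 s' hs'
  exact congrArg Subtype.val h2

/-- **Wielandt's theorem**: if `H` is a nilpotent Hall subgroup of `G`, every subgroup of `G`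
whose order involves only primes dividing `|H|` is conjugate to a subgroup of `H`. -/
theorem wielandt_subconj {G : Type*} [Group G] [Finite G] (H : Subgroup G)
    [Group.IsNilpotent H] (hHall : Nat.Coprime (Nat.card H) H.index) (K : Subgroup G)
    (hK : ∀ r : ℕ, r.Prime → r ∣ Nat.card K → r ∣ Nat.card H) :
    ∃ g : G, ∀ k ∈ K, g * k * g⁻¹ ∈ H := by
  refine subconj_core H hHall {p | p.Prime ∧ p ∣ Nat.card H} ?_ ?_ _ K rfl hK
  · rintro p ⟨hpp, hpH⟩
    refine ⟨hpp, ?_⟩
    have : Fact p.Prime := ⟨hpp⟩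
    have Q : Sylow p H := default
    have hpi : ¬ p ∣ H.index := by
      intro hpi
      have := Nat.eq_one_of_dvd_coprimes hHall hpH hpi
      exact hpp.one_lt.ne' this
    refine ⟨(Q : Subgroup H).map H.subtype, ?_, card_sylow_map_of_not_dvd_index p H hpi Q, ?_⟩
    · rintro _ ⟨q, _, rfl⟩
      exact q.2
    · intro h hh hho s hs
      exact commute_sylow_of_isNilpotent p H Q h hh hho s hs
  · intro T hT
    refine ⟨1, ?_⟩
    have hT1 : Nat.card T = 1 := by
      by_contra hne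
      obtain ⟨r, hr, hrd⟩ := Nat.exists_prime_and_dvd hne
      exact (hT r hr hrd).2 ⟨hr, (hT r hr hrd).1⟩
    have hTbot : T = ⊥ := Subgroup.card_eq_one.mp hT1
    intro t ht
    rw [hTbot, Subgroup.mem_bot] at ht
    rw [ht]
    simp

/-- If every `π`-subgroup is conjugate into the `π`-subgroup `H`, then the maximal
`π`-subgroups of `G` are pairwise conjugate. -/
theorem isDPiGroup_of_subconj {G : Type*} [Group G] [Finite G] (π : Set ℕ) (H : Subgroup G)
    (hH : Cfsg.IsPiSubgroup π H)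
    (h : ∀ K : Subgroup G, Cfsg.IsPiSubgroup π K → ∃ g : G, ∀ k ∈ K, g * k * g⁻¹ ∈ H) :
    Cfsg.IsDPiGroup π G := by
  have key : ∀ K : Subgroup G, Maximal (Cfsg.IsPiSubgroup π) K →
      ∃ g : G, K = H.map (MulAut.conj g).toMonoidHom := by
    intro K hK
    obtain ⟨g, hg⟩ := h K hK.1
    refine ⟨g⁻¹, ?_⟩
    have hle : K ≤ H.map (MulAut.conj g⁻¹).toMonoidHom := by
      intro k hk
      refine ⟨g * k * g⁻¹, hg k hk, ?_⟩
      simp [mul_assoc]
    have hpi : Cfsg.IsPiSubgroup π (H.map (MulAut.conj g⁻¹).toMonoidHom) := by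
      intro p hp hpd
      rw [Subgroup.card_map_of_injective (MulAut.conj g⁻¹).injective] at hpd
      exact hH p hp hpd
    exact le_antisymm hle (hK.2 hpi hle)
  intro H₁ K₁ hH₁ hK₁
  obtain ⟨u, hu⟩ := key H₁ hH₁
  obtain ⟨v, hv⟩ := key K₁ hK₁
  refine ⟨v * u⁻¹, ?_⟩
  rw [hu, hv, Subgroup.map_map]
  congr 1
  ext y
  simp [mul_assoc]

end Cfsg.Agent.Helper66
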