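import Mathlib

/-!
# ORD7920 (Du) for helper83's S2490 lemma server: a subgroup of order 11 is the only subgroup of
order 11 of its normalizer (when 121 does not divide the group order).
-/

set_option autoImplicit false

namespace Cfsg.Agent.Helper66.Ord7920

/-- (Du) a subgroup of order 11 is the only subgroup of order 11 of its normalizer. -/
theorem eq_of_le_normalizer {G : Type*} [Group G] [Finite G] (P Q : Subgroup G)
    (hP : Nat.card P = 11) (hQ : Nat.card Q = 11) (hQN : Q ≤ Subgroup.normalizer (P : Set G))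
    (h121 : ¬ 121 ∣ Nat.card G) : Q = P := by
  haveI : Fact (Nat.Prime 11) := ⟨by norm_num⟩
  have hPp : IsPGroup 11 P := IsPGroup.of_card (n := 1) (by simpa using hP)
  have hQp : IsPGroup 11 Q := IsPGroup.of_card (n := 1) (by simpa using hQ)
  have hsup : IsPGroup 11 (Q ⊔ P : Subgroup G) := IsPGroup.to_sup_of_normal_right' hQp hPp hQN
  obtain ⟨k, hk⟩ := hsup.exists_card_eq
  have hdvd : Nat.card (Q ⊔ P : Subgroup G) ∣ Nat.card G := Subgroup.card_subgroup_dvd_card _
  have hk1 : k ≤ 1 := by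
    by_contra hk2
    have hk3 : 2 ≤ k := by omega
    apply h121
    have h1 : 11 ^ 2 ∣ 11 ^ k := pow_dvd_pow 11 hk3
    have h2 : 11 ^ k ∣ Nat.card G := hk ▸ hdvd
    exact (by norm_num : (121 : ℕ) = 11 ^ 2) ▸ (h1.trans h2)
  have hle : Nat.card (Q ⊔ P : Subgroup G) ≤ 11 := by
    rw [hk]
    calc 11 ^ k ≤ 11 ^ 1 := Nat.pow_le_pow_right (by norm_num) hk1
      _ = 11 := by norm_num
  have hPeq : P = Q ⊔ P := Subgroup.eq_of_le_of_card_ge le_sup_right (by rw [hP]; exact hle)
  have hQP : Q ≤ P := by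
    have : Q ≤ Q ⊔ P := le_sup_left
    rwa [← hPeq] at this
  exact Subgroup.eq_of_le_of_card_ge hQP (by rw [hP, hQ])

end Cfsg.Agent.Helper66.Ord7920
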