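import Mathlib
import Cfsg.Agent.Lib.Helper83.Ord7920Defs
import Cfsg.Agent.Lib.Helper66.Ord7920Du

/-!
# ORD7920 (DZ) for helper83's S2490 lemma server: the isolated case, via Glauberman's Z*-theorem
(passed as a hypothesis).
-/

set_option autoImplicit false
set_option linter.style.haveILetI false
set_option linter.unusedVariables false

open Cfsg.Agent.Helper83.Ord7920

namespace Cfsg.Agent.Helper66.Ord7920

universe u

/-- product formula for a subgroup and a normal subgroup. -/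
theorem dZ_card_sup_mul_card_inf {G : Type*} [Group G] [Finite G] (H K : Subgroup G) [K.Normal] :
    Nat.card (H ⊔ K : Subgroup G) * Nat.card (H ⊓ K : Subgroup G) = Nat.card H * Nat.card K := by
  have h1 : K.relIndex (H ⊔ K) = K.relIndex H := Subgroup.relIndex_sup_right H K
  have h2 : Nat.card K * K.relIndex (H ⊔ K) = Nat.card (H ⊔ K : Subgroup G) := by
    rw [Subgroup.relIndex]
    have h := (K.subgroupOf (H ⊔ K)).card_mul_index
    rw [← h]
    congr 1
    exact (Nat.card_congr (Subgroup.subgroupOfEquivOfLe le_sup_right).toEquiv).symm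
  have h3 : Nat.card (H ⊓ K : Subgroup G) * K.relIndex H = Nat.card H := by
    rw [Subgroup.relIndex]
    have h := (K.subgroupOf H).card_mul_index
    rw [← h]
    congr 1
    rw [← Subgroup.inf_subgroupOf_left]
    exact (Nat.card_congr (Subgroup.subgroupOfEquivOfLe inf_le_left).toEquiv).symm
  calc Nat.card (H ⊔ K : Subgroup G) * Nat.card (H ⊓ K : Subgroup G)
      = Nat.card K * K.relIndex (H ⊔ K) * Nat.card (H ⊓ K : Subgroup G) := by rw [h2]
    _ = Nat.card K * (Nat.card (H ⊓ K : Subgroup G) * K.relIndex H) := by rw [h1]; ring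
    _ = Nat.card H * Nat.card K := by rw [h3]; ring

/-- in a group with a normal subgroup `O` of odd order: two involutions `z`, `w` with `w * z ∈ O` are
conjugate under `O`. -/
theorem dZ_exists_conj_of_odd {G : Type*} [Group G] (O : Subgroup G) [Finite O]
    (hO : Odd (Nat.card O)) {z w : G} (hz : z * z = 1) (hw : w * w = 1) (hwz : w * z ∈ O) :
    ∃ h ∈ O, h * z * h⁻¹ = w := by
  obtain ⟨m, hm⟩ := hO
  have hzinv : z⁻¹ = z := inv_eq_of_mul_eq_one_left hz
  have hwinv : w⁻¹ = w := inv_eq_of_mul_eq_one_left hw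
  have hoO : (w * z) ^ (Nat.card O) = 1 := by
    have h1 := pow_card_eq_one' (G := O) (x := ⟨w * z, hwz⟩)
    have h2 : (((⟨w * z, hwz⟩ : O) ^ Nat.card O : O) : G) = 1 := by rw [h1]; rfl
    rwa [Subgroup.coe_pow] at h2
  have hinv : z * (w * z) * z⁻¹ = (w * z)⁻¹ := by
    rw [mul_inv_rev, hzinv, hwinv]
    calc z * (w * z) * z = z * w * (z * z) := by group
      _ = z * w := by rw [hz, mul_one]
  refine ⟨(w * z) ^ (m + 1), Subgroup.pow_mem _ hwz _, ?_⟩
  have hhh : (w * z) ^ (m + 1) * (w * z) ^ (m + 1) = w * z := by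
    rw [← pow_add]
    have h1 : m + 1 + (m + 1) = Nat.card O + 1 := by omega
    rw [h1, pow_succ, hoO, one_mul]
  have hzh : z * (w * z) ^ (m + 1) * z⁻¹ = ((w * z) ^ (m + 1))⁻¹ := by
    rw [← conj_pow, hinv, inv_pow]
  calc (w * z) ^ (m + 1) * z * ((w * z) ^ (m + 1))⁻¹
      = (w * z) ^ (m + 1) * z * (z * (w * z) ^ (m + 1) * z⁻¹) := by rw [hzh]
    _ = (w * z) ^ (m + 1) * (z * z) * (w * z) ^ (m + 1) * z⁻¹ := by group
    _ = (w * z) ^ (m + 1) * (w * z) ^ (m + 1) * z⁻¹ := by rw [hz, mul_one]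
    _ = w * z * z⁻¹ := by rw [hhh]
    _ = w := by group

/-- if `z ∈ N` has exactly one fixed point on `G ⧸ N`, then `g⁻¹ z g ∈ N` forces `g ∈ N`. -/
theorem dZ_mem_of_conj_mem {G : Type*} [Group G] (N : Subgroup G) (z : G) (hzN : z ∈ N)
    (hfix : Nat.card (MulAction.fixedBy (G ⧸ N) z) = 1) (g : G) (hg : g⁻¹ * z * g ∈ N) : g ∈ N := by
  have h1 : (QuotientGroup.mk g : G ⧸ N) ∈ MulAction.fixedBy (G ⧸ N) z := by
    rw [MulAction.mem_fixedBy, MulAction.Quotient.smul_mk, QuotientGroup.eq, smul_eq_mul]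
    have h : (z * g)⁻¹ * g = (g⁻¹ * z * g)⁻¹ := by group
    rw [h]; exact inv_mem hg
  have h2 : (QuotientGroup.mk 1 : G ⧸ N) ∈ MulAction.fixedBy (G ⧸ N) z := by
    rw [MulAction.mem_fixedBy, MulAction.Quotient.smul_mk, QuotientGroup.eq]
    simpa using hzN
  have hsub : Subsingleton (MulAction.fixedBy (G ⧸ N) z) :=
    (Nat.card_eq_one_iff_unique.mp hfix).1
  have h3 : (⟨_, h1⟩ : MulAction.fixedBy (G ⧸ N) z) = ⟨_, h2⟩ := Subsingleton.elim _ _
  have h4 : (QuotientGroup.mk g : G ⧸ N) = QuotientGroup.mk 1 := congrArg Subtype.val h3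
  rw [QuotientGroup.eq] at h4
  simpa using h4

/-- a Sylow 2-subgroup of `G` inside `N` through a given involution of `N`, when `|N| = 2^a * 11` and
`|G| = 2^a * 495`. -/
theorem dZ_exists_sylow_le {G : Type*} [Group G] [Finite G] {a : ℕ}
    (hord : Nat.card G = 2 ^ a * 495) (N : Subgroup G) (hN : Nat.card N = 2 ^ a * 11)
    (z : G) (hz : orderOf z = 2) (hzN : z ∈ N) :
    ∃ S : Sylow 2 G, z ∈ S ∧ (S : Subgroup G) ≤ N := by
  classical
  haveI : Fact (Nat.Prime 2) := ⟨Nat.prime_two⟩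
  let zN : ↥N := ⟨z, hzN⟩
  have hzN2 : orderOf zN = 2 := by
    rw [← hz, ← Subgroup.orderOf_coe zN]
  have hZp : IsPGroup 2 (Subgroup.zpowers zN) := by
    apply IsPGroup.of_card (n := 1)
    rw [Nat.card_zpowers, hzN2]; norm_num
  obtain ⟨R, hR⟩ := hZp.exists_le_sylow
  set Rg : Subgroup G := (R : Subgroup N).map N.subtype with hRg
  have hRgN : Rg ≤ N := by
    rintro _ ⟨r, _, rfl⟩; exact r.2
  have hRgp : IsPGroup 2 Rg := R.2.map _
  have hzR : z ∈ Rg := ⟨zN, hR (Subgroup.mem_zpowers _), rfl⟩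
  have hRcard : 2 ^ a ∣ Nat.card Rg := by
    have h1 : Nat.card Rg = Nat.card (R : Subgroup N) :=
      Subgroup.card_map_of_injective (Subgroup.subtype_injective _)
    rw [h1]
    have h3 : Nat.card (R : Subgroup N) * (R : Subgroup N).index = 2 ^ a * 11 := by
      rw [Subgroup.card_mul_index, hN]
    have h4 : ¬ 2 ∣ (R : Subgroup N).index := R.not_dvd_index
    have h5 : (2 ^ a).Coprime (R : Subgroup N).index :=
      Nat.Coprime.pow_left a ((Nat.Prime.coprime_iff_not_dvd Nat.prime_two).mpr h4)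
    exact h5.dvd_of_dvd_mul_right (Dvd.intro 11 h3.symm)
  obtain ⟨S, hS⟩ := hRgp.exists_le_sylow
  obtain ⟨k, hk⟩ := S.2.exists_card_eq
  have hSdvd : Nat.card (S : Subgroup G) ∣ 2 ^ a * 495 := hord ▸ Subgroup.card_subgroup_dvd_card _
  have hSle : Nat.card (S : Subgroup G) ∣ 2 ^ a := by
    have hcop : (Nat.card (S : Subgroup G)).Coprime 495 := by
      rw [hk]; apply Nat.Coprime.pow_left; norm_num
    exact hcop.dvd_of_dvd_mul_right hSdvd
  have hcard : Nat.card (S : Subgroup G) ≤ Nat.card Rg :=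
    (Nat.le_of_dvd (by positivity) hSle).trans (Nat.le_of_dvd Nat.card_pos hRcard)
  have hEq : Rg = (S : Subgroup G) := Subgroup.eq_of_le_of_card_ge hS hcard
  refine ⟨S, ?_, ?_⟩
  · show z ∈ (S : Subgroup G)
    rw [← hEq]; exact hzR
  · rw [← hEq]; exact hRgN

/-- (DZ) the isolated case, via Glauberman's Z*-theorem (passed as a hypothesis). -/
theorem not_bad_of_isolated {G : Type u} [Group G] [Finite G] {a : ℕ} (ha : 1 ≤ a)
    (hord : Nat.card G = 2 ^ a * 495)
    (P : Subgroup G) (hP : Nat.card P = 11) (hidx : (Subgroup.normalizer (P : Set G)).index = 45)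
    (z : G) (hz : orderOf z = 2) (hzP : z ∈ Subgroup.normalizer (P : Set G))
    (hzN : ∀ n ∈ Subgroup.normalizer (P : Set G), n * z = z * n)
    (hfix : Nat.card (MulAction.fixedBy (G ⧸ (Subgroup.normalizer (P : Set G))) z) = 1)
    (zstar : ∀ (S : Sylow 2 G) (u : G), orderOf u = 2 → u ∈ S →
        (∀ g : G, g * u * g⁻¹ ∈ S → g * u * g⁻¹ = u) →
        ∃ O : Subgroup G, O.Normal ∧ Odd (Nat.card O) ∧ ∀ g : G, u * g * u⁻¹ * g⁻¹ ∈ O)
    (h495 : ∀ (H : Type u) [Group H] [Finite H], Nat.card H = 495 → ¬ Bad H) : False := by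
  classical
  have hPN : P ≤ Subgroup.normalizer (P : Set G) := Subgroup.le_normalizer
  have h2a : 0 < 2 ^ a := by positivity
  -- |N| = 2^a * 11
  have hNcard : Nat.card (Subgroup.normalizer (P : Set G)) = 2 ^ a * 11 := by
    have h1 := (Subgroup.normalizer (P : Set G)).card_mul_index
    rw [hidx, hord] at h1
    have h3 : Nat.card (Subgroup.normalizer (P : Set G)) * 45 = (2 ^ a * 11) * 45 := by
      rw [h1]; ring
    exact Nat.eq_of_mul_eq_mul_right (by norm_num) h3
  have h121 : ¬ 121 ∣ Nat.card G := by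
    rw [hord]
    intro h
    have hcop : (121 : ℕ).Coprime (2 ^ a) := by
      apply Nat.Coprime.pow_right; norm_num
    have := hcop.dvd_of_dvd_mul_left h
    norm_num at this
  have hzz : z * z = 1 := by
    have := pow_orderOf_eq_one z
    rw [hz, pow_two] at this; exact this
  have hzinv : z⁻¹ = z := inv_eq_of_mul_eq_one_left hzz
  -- the key fixed point fact
  have hF : ∀ g : G, g⁻¹ * z * g ∈ Subgroup.normalizer (P : Set G) →
      g ∈ Subgroup.normalizer (P : Set G) :=
    dZ_mem_of_conj_mem _ z hzP hfix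
  -- C_G(z) ≤ N
  have hCz : ∀ c : G, c * z = z * c → c ∈ Subgroup.normalizer (P : Set G) := by
    intro c hc
    apply hF
    have h : c⁻¹ * z * c = z := by
      rw [mul_assoc, ← hc, ← mul_assoc, inv_mul_cancel, one_mul]
    rw [h]; exact hzP
  -- Sylow S ≤ N through z
  obtain ⟨S, hzS, hSN⟩ := dZ_exists_sylow_le hord _ hNcard z hz hzP
  -- isolation
  have hiso : ∀ g : G, g * z * g⁻¹ ∈ S → g * z * g⁻¹ = z := by
    intro g hg
    have h1 : g⁻¹ ∈ Subgroup.normalizer (P : Set G) := by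
      apply hF
      rw [inv_inv]; exact hSN hg
    have h2 : g ∈ Subgroup.normalizer (P : Set G) := by
      have := inv_mem h1; rwa [inv_inv] at this
    rw [hzN g h2, mul_assoc, mul_inv_cancel, mul_one]
  obtain ⟨O, hOn, hOodd, hO⟩ := zstar S z hz hzS hiso
  haveI := hOn
  -- G = O N
  have hON : ∀ g : G, ∃ h ∈ O, h⁻¹ * g ∈ Subgroup.normalizer (P : Set G) := by
    intro g
    have hw : (g * z * g⁻¹) * (g * z * g⁻¹) = 1 := by
      calc (g * z * g⁻¹) * (g * z * g⁻¹) = g * (z * z) * g⁻¹ := by group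
        _ = 1 := by rw [hzz, mul_one, mul_inv_cancel]
    have hwz : (g * z * g⁻¹) * z ∈ O := by
      have h1 := hO g
      have h2 := inv_mem h1
      have h3 : (z * g * z⁻¹ * g⁻¹)⁻¹ = (g * z * g⁻¹) * z := by
        rw [hzinv]
        calc (z * g * z * g⁻¹)⁻¹ = g * z⁻¹ * g⁻¹ * z⁻¹ := by group
          _ = g * z * g⁻¹ * z := by rw [hzinv]
      rwa [h3] at h2
    obtain ⟨h, hhO, hh⟩ := dZ_exists_conj_of_odd O hOodd hzz hw hwz
    refine ⟨h, hhO, ?_⟩
    apply hCz
    -- (h⁻¹ g) z = z (h⁻¹ g)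
    have h5 : g * z = h * z * h⁻¹ * g := by
      rw [hh]; group
    calc h⁻¹ * g * z = h⁻¹ * (g * z) := by group
      _ = h⁻¹ * (h * z * h⁻¹ * g) := by rw [h5]
      _ = z * (h⁻¹ * g) := by group
  have htop : Subgroup.normalizer (P : Set G) ⊔ O = ⊤ := by
    rw [eq_top_iff]
    intro g _
    obtain ⟨h, hhO, hh⟩ := hON g
    have : g = h * (h⁻¹ * g) := by group
    rw [this]
    exact mul_mem (Subgroup.mem_sup_right hhO) (Subgroup.mem_sup_left hh)
  -- numerics
  have hf1 := dZ_card_sup_mul_card_inf (Subgroup.normalizer (P : Set G)) O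
  have hf2 := dZ_card_sup_mul_card_inf P O
  rw [htop, Subgroup.card_top, hord, hNcard] at hf1
  rw [hP] at hf2
  -- N ⊓ O = P ⊓ O
  have hD : Subgroup.normalizer (P : Set G) ⊓ O = P ⊓ O := by
    apply le_antisymm _ (inf_le_inf_right _ hPN)
    have hDodd : Odd (Nat.card (Subgroup.normalizer (P : Set G) ⊓ O : Subgroup G)) := by
      obtain ⟨c, hc⟩ := Subgroup.card_dvd_of_le (inf_le_right :
        Subgroup.normalizer (P : Set G) ⊓ O ≤ O)
      rw [hc] at hOodd
      exact (Nat.odd_mul.mp hOodd).1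
    have hD11 : Nat.card (Subgroup.normalizer (P : Set G) ⊓ O : Subgroup G) ∣ 11 := by
      have h1 : Nat.card (Subgroup.normalizer (P : Set G) ⊓ O : Subgroup G) ∣ 2 ^ a * 11 :=
        hNcard ▸ Subgroup.card_dvd_of_le inf_le_left
      have hcop : (Nat.card (Subgroup.normalizer (P : Set G) ⊓ O : Subgroup G)).Coprime (2 ^ a) := by
        apply Nat.Coprime.pow_right
        exact Nat.coprime_two_right.mpr hDodd
      exact hcop.dvd_of_dvd_mul_left h1
    rcases (Nat.dvd_prime (by norm_num : Nat.Prime 11)).mp hD11 with h1 | h11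
    · rw [Subgroup.card_eq_one.mp h1]; exact bot_le
    · have := eq_of_le_normalizer P (Subgroup.normalizer (P : Set G) ⊓ O) hP h11 inf_le_left h121
      rw [this]
      exact le_inf le_rfl (this ▸ inf_le_right)
  rw [hD] at hf1
  -- |M| = 495
  have hdpos : 0 < Nat.card (P ⊓ O : Subgroup G) := Nat.card_pos
  have hMcard : Nat.card (P ⊔ O : Subgroup G) = 495 := by
    have h1 : Nat.card (P ⊔ O : Subgroup G) * (Nat.card (P ⊓ O : Subgroup G) * 2 ^ a) =
        495 * (Nat.card (P ⊓ O : Subgroup G) * 2 ^ a) := by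
      calc Nat.card (P ⊔ O : Subgroup G) * (Nat.card (P ⊓ O : Subgroup G) * 2 ^ a)
          = (Nat.card (P ⊔ O : Subgroup G) * Nat.card (P ⊓ O : Subgroup G)) * 2 ^ a := by ring
        _ = 11 * Nat.card O * 2 ^ a := by rw [hf2]
        _ = 2 ^ a * 11 * Nat.card O := by ring
        _ = 2 ^ a * 495 * Nat.card (P ⊓ O : Subgroup G) := by rw [← hf1]
        _ = 495 * (Nat.card (P ⊓ O : Subgroup G) * 2 ^ a) := by ring
    exact Nat.eq_of_mul_eq_mul_right (by positivity) h1
  -- N ⊓ M = P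
  have hNM : Subgroup.normalizer (P : Set G) ⊓ (P ⊔ O) = P := by
    symm
    apply Subgroup.eq_of_le_of_card_ge (le_inf hPN le_sup_left)
    have h1 : Nat.card (Subgroup.normalizer (P : Set G) ⊓ (P ⊔ O) : Subgroup G) ∣ 2 ^ a * 11 :=
      hNcard ▸ Subgroup.card_dvd_of_le inf_le_left
    have h2 : Nat.card (Subgroup.normalizer (P : Set G) ⊓ (P ⊔ O) : Subgroup G) ∣ 495 :=
      hMcard ▸ Subgroup.card_dvd_of_le inf_le_right
    have hcop : (Nat.card (Subgroup.normalizer (P : Set G) ⊓ (P ⊔ O) : Subgroup G)).Coprime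
        (2 ^ a) := by
      apply Nat.Coprime.pow_right
      exact Nat.Coprime.coprime_dvd_left h2 (by norm_num)
    have h3 := hcop.dvd_of_dvd_mul_left h1
    rw [hP]; exact Nat.le_of_dvd (by norm_num) h3
  -- Bad M
  apply h495 ↥(P ⊔ O : Subgroup G) hMcard
  refine ⟨P.subgroupOf (P ⊔ O), ?_, ?_⟩
  · rw [← hP]
    exact Nat.card_congr (Subgroup.subgroupOfEquivOfLe le_sup_left).toEquiv
  · have h1 : Subgroup.normalizer ((P.subgroupOf (P ⊔ O) : Subgroup ↥(P ⊔ O)) : Set ↥(P ⊔ O)) =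
        (Subgroup.normalizer (P : Set G)).subgroupOf (P ⊔ O) :=
      (Subgroup.subgroupOf_normalizer_eq le_sup_left).symm
    rw [h1]
    have h2 := ((Subgroup.normalizer (P : Set G)).subgroupOf (P ⊔ O)).card_mul_index
    rw [hMcard] at h2
    have h3 : Nat.card ((Subgroup.normalizer (P : Set G)).subgroupOf (P ⊔ O)) = 11 := by
      rw [← Subgroup.inf_subgroupOf_right, hNM, ← hP]
      exact Nat.card_congr (Subgroup.subgroupOfEquivOfLe le_sup_left).toEquiv
    rw [h3] at h2
    omega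

end Cfsg.Agent.Helper66.Ord7920
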