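import Mathlib
import Cfsg.Agent.Lib.Helper62.SLN0

/-!
# SLN pieces G1, G2, G4, G8 (S2332): elementary identities for `uEl`, `lEl`, `qEl`.
-/

set_option autoImplicit false
set_option linter.unusedSectionVars false

namespace Cfsg.Agent.Helper66.SLN

open Matrix Module Cfsg.Agent.Helper93.U2 Cfsg.Agent.Helper62.SLN

section GRP

variable {F : Type*} [Field F] {κ : Type} [Fintype κ] [DecidableEq κ]

/-- piece G1 -/
theorem uEl_add (u u' : κ → F) : uEl (u + u') = uEl u * uEl u' := by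
  apply Subtype.ext
  show (uEl (u + u') : Matrix (Unit ⊕ κ) (Unit ⊕ κ) F) = (uEl u : Matrix _ _ F) * (uEl u' : Matrix _ _ F)
  rw [uEl_val, uEl_val, uEl_val, fromBlocks_multiply]
  congr 1
  · simp
  · ext i k
    simp [add_comm]
  · simp
  · simp

/-- piece G2 (1) -/
theorem lEl_mul (A B : SpecialLinearGroup κ F) : lEl (A * B) = lEl A * lEl B := by
  apply Subtype.ext
  show (lEl (A * B) : Matrix (Unit ⊕ κ) (Unit ⊕ κ) F) = (lEl A : Matrix _ _ F) * (lEl B : Matrix _ _ F)
  rw [lEl_val, lEl_val, lEl_val, fromBlocks_multiply]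
  simp

/-- piece G2 (2) -/
theorem lEl_one : lEl (1 : SpecialLinearGroup κ F) = 1 := by
  apply Subtype.ext
  show (lEl (1 : SpecialLinearGroup κ F) : Matrix (Unit ⊕ κ) (Unit ⊕ κ) F) = 1
  rw [lEl_val]
  simp

/-- piece G4 -/
theorem dot_vecMul (M : Matrix κ κ F) (w u : κ → F) : w ⬝ᵥ (vecMul u M) = (M *ᵥ w) ⬝ᵥ u := by
  rw [dotProduct_comm, ← dotProduct_mulVec, dotProduct_comm]

theorem tvEl_add (j : κ) (t t' : κ → F) : tvEl j (t + t') = tvEl j t * tvEl j t' := by
  apply Subtype.ext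
  show (tvEl j (t + t') : Matrix κ κ F) = (tvEl j t : Matrix κ κ F) * (tvEl j t' : Matrix κ κ F)
  rw [tvEl_val, tvEl_val, tvEl_val]
  have h0 : Function.update t j 0 ⬝ᵥ (Pi.single j 1 : κ → F) = 0 := by
    simp
  have hupd : Function.update (t + t') j 0 = Function.update t j 0 + Function.update t' j 0 := by
    ext i
    by_cases hi : i = j
    · subst hi; simp
    · simp [Function.update_of_ne hi]
  rw [hupd, mul_add, add_mul, add_mul, one_mul, one_mul, mul_one, vecMulVec_mul_vecMulVec, h0]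
  rw [vecMulVec_add]
  simp [add_assoc]

/-- piece G8 -/
theorem qEl_add (j : κ) (t t' : κ → F) : qEl j (t + t') = qEl j t * qEl j t' := by
  unfold qEl
  rw [tvEl_add, lEl_mul]

end GRP

end Cfsg.Agent.Helper66.SLN
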