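import Mathlib
import Cfsg.Agent.S0071

/-!
# O2520 piece C5a (S0984): a group with a dihedral Sylow 2-subgroup of order 8 whose central involution
is central in the whole group has a normal 2-complement (Frobenius criterion S0071).
-/

set_option autoImplicit false

universe u

namespace Cfsg.Agent.Helper66.O2520

/-- if `g x g⁻¹ = x c`, `g` commutes with `c`, `c ^ 4 = 1` and `g` has odd order, then `g` centralises `x` -/
theorem h66_gen {J : Type u} [Group J] [Finite J] (g x c : J) (hgo : Nat.Coprime (orderOf g) 2)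
    (h1 : g * x * g⁻¹ = x * c) (hgc : g * c = c * g) (hc4 : c ^ 4 = 1) : g * x * g⁻¹ = x := by
  have hcomm : Commute g c := hgc
  have hind : ∀ j : ℕ, g ^ j * x * (g ^ j)⁻¹ = x * c ^ j := by
    intro j
    induction j with
    | zero => simp
    | succ j ih =>
      have hcj : g * c ^ j * g⁻¹ = c ^ j := by
        rw [(hcomm.pow_right j).eq, mul_inv_cancel_right]
      calc g ^ (j + 1) * x * (g ^ (j + 1))⁻¹
          = g * (g ^ j * x * (g ^ j)⁻¹) * g⁻¹ := by
            rw [pow_succ']; group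
        _ = g * (x * c ^ j) * g⁻¹ := by rw [ih]
        _ = (g * x * g⁻¹) * (g * c ^ j * g⁻¹) := by group
        _ = x * c * c ^ j := by rw [h1, hcj]
        _ = x * c ^ (j + 1) := by rw [pow_succ', mul_assoc]
  have h2 := hind (orderOf g)
  rw [pow_orderOf_eq_one, one_mul, inv_one, mul_one] at h2
  have hcj : c ^ orderOf g = 1 := by
    have : x * c ^ orderOf g = x * 1 := by rw [mul_one]; exact h2.symm
    exact mul_left_cancel this
  have hcop : Nat.Coprime (orderOf g) 4 := by
    have := Nat.Coprime.pow_right 2 hgo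
    simpa using this
  have hc1 : c ^ (Nat.gcd (orderOf g) 4) = 1 := pow_gcd_eq_one.2 ⟨hcj, hc4⟩
  rw [hcop.gcd_eq_one, pow_one] at hc1
  rw [h1, hc1, mul_one]

/-- (C5a) -/
theorem frobD8 {J : Type u} [Group J] [Finite J] (a w : J) (ha : orderOf a = 4) (hw : orderOf w = 2)
    (hwa : w * a * w⁻¹ = a⁻¹) (hz : ∀ x : J, x * a ^ 2 = a ^ 2 * x) (P : Sylow 2 J)
    (hP : Nat.card (P : Subgroup J) = 8) (haP : a ∈ (P : Subgroup J)) (hwP : w ∈ (P : Subgroup J)) :
    ∃ N : Subgroup J, N.Normal ∧ N.IsComplement' (P : Subgroup J) := by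
  have ha4 : a ^ 4 = 1 := by rw [← ha]; exact pow_orderOf_eq_one a
  have ha2 : a ^ 2 ≠ 1 := by
    intro h
    have := orderOf_dvd_of_pow_eq_one h
    rw [ha] at this
    omega
  have hww : w * w = 1 := by
    have := pow_orderOf_eq_one w
    rw [hw, pow_two] at this
    exact this
  have hwinv : w⁻¹ = w := inv_eq_of_mul_eq_one_left hww
  -- the elements of `Z4 = ⟨a⟩`
  have hZ4 : ∀ v ∈ Subgroup.zpowers a, v = 1 ∨ v = a ∨ v = a ^ 2 ∨ v = a ^ 3 := by
    intro v hv
    obtain ⟨k, rfl⟩ := Subgroup.mem_zpowers_iff.1 hv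
    have h0 := zpow_mod_orderOf a k
    rw [ha] at h0
    have h1 := Int.emod_nonneg k (by norm_num : ((4 : ℕ) : ℤ) ≠ 0)
    have h2 := Int.emod_lt_of_pos k (by norm_num : (0 : ℤ) < ((4 : ℕ) : ℤ))
    obtain ⟨n, hn⟩ : ∃ n : ℕ, k % ((4 : ℕ) : ℤ) = n := ⟨(k % ((4 : ℕ) : ℤ)).toNat, (Int.toNat_of_nonneg h1).symm⟩
    rw [← h0, hn, zpow_natCast]
    have hn4 : n < 4 := by
      have : (n : ℤ) < 4 := by rw [← hn]; exact_mod_cast h2
      exact_mod_cast this
    interval_cases n
    · left; simp
    · right; left; simp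
    · right; right; left; rfl
    · right; right; right; rfl
  have hZ4pow : ∀ v ∈ Subgroup.zpowers a, v ^ 4 = 1 := by
    intro v hv
    obtain ⟨k, rfl⟩ := Subgroup.mem_zpowers_iff.1 hv
    rw [← zpow_natCast, ← zpow_mul, mul_comm, zpow_mul, zpow_natCast, ha4, one_zpow]
  -- `w` inverts `Z4`
  have hinv : ∀ v ∈ Subgroup.zpowers a, w * v * w⁻¹ = v⁻¹ := by
    intro v hv
    obtain ⟨k, rfl⟩ := Subgroup.mem_zpowers_iff.1 hv
    rw [← conj_zpow, hwa, inv_zpow]
  have hsq : ∀ v ∈ Subgroup.zpowers a, (w * v) * (w * v) = 1 := by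
    intro v hv
    have h := hinv v hv
    rw [hwinv] at h
    calc (w * v) * (w * v) = (w * v * w) * v := by group
      _ = v⁻¹ * v := by rw [h]
      _ = 1 := inv_mul_cancel v
  have hZP : Subgroup.zpowers a ≤ (P : Subgroup J) := (Subgroup.zpowers_le).2 haP
  have hwZ : w ∉ Subgroup.zpowers a := by
    intro hwz
    have h := hinv a (Subgroup.mem_zpowers a)
    obtain ⟨k, hk⟩ := Subgroup.mem_zpowers_iff.1 hwz
    have hcomm : w * a = a * w := by
      rw [← hk, ← zpow_add_one, ← zpow_one_add]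
      rw [add_comm]
    have h2 : w * a * w⁻¹ = a := by rw [hcomm, mul_inv_cancel_right]
    rw [h2] at h
    apply ha2
    calc a ^ 2 = a * a := pow_two a
      _ = a * a⁻¹ := by rw [← h]
      _ = 1 := mul_inv_cancel a
  -- `Z4` has index 2 in `P`
  have hidx : ((Subgroup.zpowers a).subgroupOf (P : Subgroup J)).index = 2 := by
    have h1 : Nat.card ((Subgroup.zpowers a).subgroupOf (P : Subgroup J)) = 4 := by
      rw [Nat.card_congr (Subgroup.subgroupOfEquivOfLe hZP).toEquiv, Nat.card_zpowers, ha]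
    have h2 := Subgroup.card_mul_index ((Subgroup.zpowers a).subgroupOf (P : Subgroup J))
    rw [h1, hP] at h2
    omega
  have hcoset : ∀ x ∈ (P : Subgroup J), x ∉ Subgroup.zpowers a →
      ∃ v ∈ Subgroup.zpowers a, x = w * v := by
    intro x hx hxZ
    refine ⟨w⁻¹ * x, ?_, by group⟩
    have h := Subgroup.mul_mem_iff_of_index_two hidx
      (a := (⟨w⁻¹, (P : Subgroup J).inv_mem hwP⟩ : (P : Subgroup J))) (b := ⟨x, hx⟩)
    rw [Subgroup.mem_subgroupOf, Subgroup.mem_subgroupOf, Subgroup.mem_subgroupOf] at h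
    have h3 : (w⁻¹ ∈ Subgroup.zpowers a ↔ x ∈ Subgroup.zpowers a) := by
      constructor
      · intro h4
        exact absurd ((Subgroup.zpowers a).inv_mem_iff.1 h4) hwZ
      · intro h4
        exact absurd h4 hxZ
    exact h.2 h3
  have hsqP : ∀ x ∈ (P : Subgroup J), x ∉ Subgroup.zpowers a → x * x = 1 := by
    intro x hx hxZ
    obtain ⟨v, hv, rfl⟩ := hcoset x hx hxZ
    exact hsq v hv
  have ha3sq : (a ^ 3) * (a ^ 3) = a ^ 2 := by
    calc (a ^ 3) * (a ^ 3) = a ^ 4 * a ^ 2 := by group
      _ = a ^ 2 := by rw [ha4, one_mul]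
  -- Frobenius criterion
  apply (Cfsg.Agent.S0071.result P).mpr
  intro Q hQP g hg hgo
  rw [Subgroup.mem_normalizer_iff] at hg
  have hzg : g * a ^ 2 * g⁻¹ = a ^ 2 := by rw [hz g, mul_inv_cancel_right]
  have ha24 : (a ^ 2) ^ 4 = 1 := by
    rw [← pow_mul, show 2 * 4 = 4 * 2 from rfl, pow_mul, ha4, one_pow]
  -- Lemma A: elements of order 4
  have hA : ∀ x ∈ Q, (x = a ∨ x = a ^ 3) → g * x * g⁻¹ = x := by
    intro x hx hxa
    have hxx : x * x = a ^ 2 := by
      rcases hxa with rfl | rfl
      · exact (pow_two _).symm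
      · exact ha3sq
    have hyQ : g * x * g⁻¹ ∈ Q := (hg x).1 hx
    have hyP := hQP hyQ
    have hyy : (g * x * g⁻¹) * (g * x * g⁻¹) = a ^ 2 := by
      calc (g * x * g⁻¹) * (g * x * g⁻¹) = g * (x * x) * g⁻¹ := by group
        _ = a ^ 2 := by rw [hxx, hzg]
    have hyZ : g * x * g⁻¹ ∈ Subgroup.zpowers a := by
      by_contra hcon
      exact ha2 (hyy ▸ hsqP _ hyP hcon)
    have hcases : g * x * g⁻¹ = x ∨ g * x * g⁻¹ = x * a ^ 2 := by
      rcases hZ4 _ hyZ with h | h | h | h
      · exfalso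
        rw [h, one_mul] at hyy
        exact ha2 hyy.symm
      · rcases hxa with rfl | rfl
        · left; exact h
        · right
          rw [h]
          calc a = a ^ 4 * a := by rw [ha4, one_mul]
            _ = a ^ 3 * a ^ 2 := by group
      · exfalso
        rw [h] at hyy
        apply ha2
        rw [← hyy]
        calc a ^ 2 * a ^ 2 = a ^ 4 := by group
          _ = 1 := ha4
      · rcases hxa with rfl | rfl
        · right
          rw [h]
          group
        · left; exact h
    rcases hcases with h | h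
    · exact h
    · exact h66_gen g x (a ^ 2) hgo h (hz g) ha24
  -- the main statement
  rw [Subgroup.mem_centralizer_iff]
  intro x hx
  have hgoal : g * x * g⁻¹ = x → x * g = g * x := by
    intro h
    calc x * g = (g * x * g⁻¹) * g := by rw [h]
      _ = g * x := by group
  apply hgoal
  by_cases hxZ : x ∈ Subgroup.zpowers a
  · rcases hZ4 x hxZ with h | h | h | h
    · rw [h]; group
    · exact hA x hx (Or.inl h)
    · rw [h]; exact hzg
    · exact hA x hx (Or.inr h)
  · have hxP := hQP hx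
    have hxx : x * x = 1 := hsqP x hxP hxZ
    have hyQ : g * x * g⁻¹ ∈ Q := (hg x).1 hx
    have hyP := hQP hyQ
    have hyy : (g * x * g⁻¹) * (g * x * g⁻¹) = 1 := by
      calc (g * x * g⁻¹) * (g * x * g⁻¹) = g * (x * x) * g⁻¹ := by group
        _ = 1 := by rw [hxx]; group
    have hyZ : g * x * g⁻¹ ∉ Subgroup.zpowers a := by
      intro hcon
      have hcentral : g * x * g⁻¹ = 1 ∨ g * x * g⁻¹ = a ^ 2 := by
        rcases hZ4 _ hcon with h | h | h | h
        · left; exact h
        · exfalso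
          rw [h] at hyy
          exact ha2 ((pow_two a).trans hyy)
        · right; exact h
        · exfalso
          rw [h, ha3sq] at hyy
          exact ha2 hyy
      have hxeq : x = g⁻¹ * (g * x * g⁻¹) * g := by group
      rcases hcentral with h | h
      · apply hxZ
        rw [hxeq, h]
        simp
      · apply hxZ
        rw [hxeq, h]
        have : g⁻¹ * a ^ 2 * g = a ^ 2 := by
          rw [mul_assoc, ← hz g, ← mul_assoc, inv_mul_cancel, one_mul]
        rw [this]
        exact Subgroup.pow_mem _ (Subgroup.mem_zpowers a) 2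
    obtain ⟨v, hv, hxv⟩ := hcoset x hxP hxZ
    obtain ⟨v', hv', hyv⟩ := hcoset _ hyP hyZ
    set c := x⁻¹ * (g * x * g⁻¹) with hcdef
    have hcQ : c ∈ Q := Q.mul_mem (Q.inv_mem hx) hyQ
    have hcZ : c ∈ Subgroup.zpowers a := by
      have : c = v⁻¹ * v' := by
        rw [hcdef, hyv, hxv]
        group
      rw [this]
      exact (Subgroup.zpowers a).mul_mem ((Subgroup.zpowers a).inv_mem hv) hv'
    have hxc : g * x * g⁻¹ = x * c := by
      rw [hcdef]; group
    have hc4 : c ^ 4 = 1 := hZ4pow c hcZ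
    have hgc : g * c = c * g := by
      have hconj : g * c * g⁻¹ = c := by
        rcases hZ4 c hcZ with h | h | h | h
        · rw [h]; group
        · exact hA c hcQ (Or.inl h)
        · rw [h]; exact hzg
        · exact hA c hcQ (Or.inr h)
      calc g * c = (g * c * g⁻¹) * g := by group
        _ = c * g := by rw [hconj]
    exact h66_gen g x c hgo hxc hgc hc4

end Cfsg.Agent.Helper66.O2520
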