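import Mathlib
import Cfsg.Agent.Lib.Helper62.SUO0

/-!
# SUO block A (S2282): generic facts about `Orb`, `MM`, `QQ`.
-/

set_option autoImplicit false
set_option linter.unusedSectionVars false
set_option linter.unusedVariables false
set_option quotPrecheck false

namespace Cfsg.Agent.Helper66.SUO

open Matrix Cfsg Cfsg.Agent.Helper13 Cfsg.Agent.Helper87.PsuA Cfsg.Agent.Helper62.SUO

section A
variable {F : Type*} [Field F] [Fintype F] {q n : ℕ} (hF : Fintype.card F = q ^ 2)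
  {Hs : Subgroup ↥(Cfsg.SU n F q)} {e0 : Fin n → F}

local notation "V" => Fin n → F
local notation "G" => ↥(Cfsg.SU n F q)
local notation "H" => Cfsg.hermForm n F q

include hF

theorem h66_cond0 (c : F) (hc : c + c ^ q = 0) : c + c ^ q + H (0 : V) 0 = 0 := by
  rw [H_zero_right hF, add_zero, hc]

/-- (A3) `eich_conj` with `w = 0` (`actv h 0 = 0`) -/
theorem tv_of_orb (h00 : H e0 e0 = 0) {x : V} (hx : x ∈ Orb Hs e0) {c : F}
    (hc : c ∈ MM hF Hs e0) : eich hF x 0 c ∈ Hs := by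
  obtain ⟨h, hh, rfl⟩ := hx
  obtain ⟨hc0, hcm⟩ := hc
  have := eich_conj hF h00 (H_zero_right hF e0) (h66_cond0 hF c hc0) h
  rw [actv_zero] at this
  rw [← this]
  exact Hs.mul_mem (Hs.mul_mem hh hcm) (Hs.inv_mem hh)

/-- (A4) `eich_mul`, `eich_one`, `eich_inv` with `w = 0` (`c ^ q = -c`) -/
theorem MM_addsub (h00 : H e0 e0 = 0) :
    ∃ S : AddSubgroup F, (S : Set F) = MM hF Hs e0 := by
  have hzero : (0 : F) ∈ MM hF Hs e0 := by
    refine ⟨by rw [frob_zero hF, add_zero], ?_⟩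
    rw [eich_one hF h00]
    exact Hs.one_mem
  have hadd : ∀ {c c' : F}, c ∈ MM hF Hs e0 → c' ∈ MM hF Hs e0 → c + c' ∈ MM hF Hs e0 := by
    rintro c c' ⟨hc, hm⟩ ⟨hc', hm'⟩
    refine ⟨by rw [frob_add hF]; linear_combination hc + hc', ?_⟩
    have := eich_mul hF h00 (H_zero_right hF e0) (h66_cond0 hF c hc) (H_zero_right hF e0)
      (h66_cond0 hF c' hc')
    rw [add_zero, H_zero_right hF, sub_zero] at this
    rw [← this]
    exact Hs.mul_mem hm hm'
  have hneg : ∀ {c : F}, c ∈ MM hF Hs e0 → -c ∈ MM hF Hs e0 := by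
    rintro c ⟨hc, hm⟩
    refine ⟨by rw [frob_neg hF]; linear_combination -hc, ?_⟩
    have := eich_inv hF h00 (H_zero_right hF e0) (h66_cond0 hF c hc)
    rw [neg_zero] at this
    have hcq : c ^ q = -c := by linear_combination hc
    rw [hcq] at this
    rw [← this]
    exact Hs.inv_mem hm
  exact ⟨{ carrier := MM hF Hs e0, zero_mem' := hzero, add_mem' := hadd, neg_mem' := hneg }, rfl⟩

/-- (A5) `eich_mul`, `eich_one`, `eich_inv` -/
theorem QQ_addsub (h00 : H e0 e0 = 0) :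
    ∃ S : AddSubgroup V, (S : Set V) = QQ hF Hs e0 := by
  have hzero : (0 : V) ∈ QQ hF Hs e0 := by
    refine ⟨H_zero_right hF e0, 0, ?_, ?_⟩
    · rw [frob_zero hF, H_zero_right hF]; ring
    · rw [eich_one hF h00]
      exact Hs.one_mem
  have hadd : ∀ {w w' : V}, w ∈ QQ hF Hs e0 → w' ∈ QQ hF Hs e0 → w + w' ∈ QQ hF Hs e0 := by
    rintro w w' ⟨hw, a, ha, hm⟩ ⟨hw', a', ha', hm'⟩
    refine ⟨by rw [hermForm_add_right hF, hw, hw', add_zero], a + a' - H w' w, ?_, ?_⟩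
    · rw [frob_sub hF, frob_add hF, hermForm_conj hF, hermForm_add_left, hermForm_add_right hF,
        hermForm_add_right hF]
      linear_combination ha + ha'
    · rw [← eich_mul hF h00 hw ha hw' ha']
      exact Hs.mul_mem hm hm'
  have hneg : ∀ {w : V}, w ∈ QQ hF Hs e0 → -w ∈ QQ hF Hs e0 := by
    rintro w ⟨hw, a, ha, hm⟩
    refine ⟨by rw [H_neg_right hF, hw, neg_zero], a ^ q, ?_, ?_⟩
    · rw [frob_frob hF, H_neg_left hF, H_neg_right hF]
      linear_combination ha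
    · rw [← eich_inv hF h00 hw ha]
      exact Hs.inv_mem hm
  exact ⟨{ carrier := QQ hF Hs e0, zero_mem' := hzero, add_mem' := hadd, neg_mem' := hneg }, rfl⟩

/-- (A6) `eich_conj` -/
theorem QQ_stab (h00 : H e0 e0 = 0) {w : V} (hw : w ∈ QQ hF Hs e0) {h : G} (hh : h ∈ Hs)
    (hfix : actv h e0 = e0) : actv h w ∈ QQ hF Hs e0 := by
  obtain ⟨hw0, a, ha, hm⟩ := hw
  have h1 : H e0 (actv h w) = 0 := by
    have := H_actv h e0 w
    rw [hfix] at this
    rw [this, hw0]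
  refine ⟨h1, a, by rw [H_actv]; exact ha, ?_⟩
  have := eich_conj hF h00 hw0 ha h
  rw [hfix] at this
  rw [← this]
  exact Hs.mul_mem (Hs.mul_mem hh hm) (Hs.inv_mem hh)

/-- (A7) `t = eich y 0 c ∈ Hs` (A3) fixes `e0`; `t w - w = (c * H w y) • y`; A5 A6 -/
theorem QQ_tv (h00 : H e0 e0 = 0) {w y : V} (hw : w ∈ QQ hF Hs e0) (hy : y ∈ Orb Hs e0)
    (hy0 : H e0 y = 0) {c : F} (hc : c ∈ MM hF Hs e0) :
    (c * H w y) • y ∈ QQ hF Hs e0 := by
  have ht : eich hF y 0 c ∈ Hs := tv_of_orb hF h00 hy hc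
  have hyy : H y y = 0 := by
    obtain ⟨h, -, rfl⟩ := hy
    rw [H_actv]; exact h00
  have hcond := h66_cond0 hF (n := n) c hc.1
  have hact : ∀ x : V, actv (eich hF y 0 c) x = x + (c * H x y) • y := by
    intro x
    rw [eich_act hF hyy (H_zero_right hF y) hcond, H_zero_right hF]
    module
  have hfix : actv (eich hF y 0 c) e0 = e0 := by
    rw [hact, hy0, mul_zero, zero_smul, add_zero]
  have h1 := QQ_stab hF h00 hw ht hfix
  rw [hact] at h1
  obtain ⟨S, hS⟩ := QQ_addsub hF (Hs := Hs) h00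
  have h2 : w + (c * H w y) • y ∈ S := by
    show w + (c * H w y) • y ∈ (S : Set V)
    rw [hS]; exact h1
  have h3 : w ∈ S := by
    show w ∈ (S : Set V)
    rw [hS]; exact hw
  have h4 : (c * H w y) • y ∈ S := by
    have := S.sub_mem h2 h3
    rwa [add_sub_cancel_left] at this
  have h5 : (c * H w y) • y ∈ (S : Set V) := h4
  rw [hS] at h5
  exact h5

/-- (A8) `eich e0 (μ • e0) (-(μ - μ^q))` acts trivially (`eich_act`, `G_ext`), so it is `1 ∈ Hs` -/
theorem QQ_e0 (h00 : H e0 e0 = 0) (μ : F) : μ • e0 ∈ QQ hF Hs e0 := by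
  have h1 : H e0 (μ • e0) = 0 := by rw [hermForm_smul_right, h00, mul_zero]
  have hcond : -(μ - μ ^ q) + (-(μ - μ ^ q)) ^ q + H (μ • e0) (μ • e0) = 0 := by
    rw [hermForm_smul_left, hermForm_smul_right, h00, frob_neg hF, frob_sub hF, frob_frob hF]
    ring
  refine ⟨h1, -(μ - μ ^ q), hcond, ?_⟩
  have hc0 : -(μ - μ ^ q) + (-(μ - μ ^ q)) ^ q + H (0 : V) 0 = 0 := by
    rw [H_zero_right hF, frob_neg hF, frob_sub hF, frob_frob hF]
    ring
  have := eich_add_smul hF (u := e0) (w := 0) (a := -(μ - μ ^ q)) (c := μ) h00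
    (H_zero_right hF e0) hc0
  rw [zero_add] at this
  rw [this]
  have h0 : -(μ - μ ^ q) + μ - μ ^ q = 0 := by ring
  rw [h0, eich_one hF h00]
  exact Hs.one_mem

end A

end Cfsg.Agent.Helper66.SUO
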