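import Mathlib
import Cfsg.Agent.Lib.Helper62.SLN0
import Cfsg.Agent.Lib.Helper5.SL

/-!
# SLN piece G10 (S2332): `SL κ` is perfect for `|κ| ≥ 3`.
-/

set_option autoImplicit false
set_option linter.unusedSectionVars false

namespace Cfsg.Agent.Helper66.SLN

open Matrix Module Cfsg.Agent.Helper93.U2 Cfsg.Agent.Helper62.SLN

section GRP

variable {F : Type*} [Field F] {κ : Type} [Fintype κ] [DecidableEq κ]

/-- piece G10 : `SL κ` is perfect for `|κ| ≥ 3` -/
theorem sl_perfect (hκ : 3 ≤ Fintype.card κ) : commutator (SpecialLinearGroup κ F) = ⊤ :=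
  Cfsg.Agent.Helper5.commutator_SL_eq_top hκ

end GRP

end Cfsg.Agent.Helper66.SLN
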