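import Mathlib
import Cfsg.Agent.Lib.Helper98.SPE0

/-! # SPE server (helper98, S2333), piece Q1: `qv_smul` -/

set_option autoImplicit false

namespace Cfsg.Agent.Helper66.SPE

open Matrix Cfsg.Agent.Helper93.U2 Cfsg.Agent.Helper98.SPE

variable {F : Type*} [Field F] {n : ℕ}

theorem qv_smul (S : Matrix (Fin n) (Fin n) F) (c : F) (x : Fin n → F) :
    qv S (c • x) = c ^ 2 * qv S x := by
  unfold qv
  rw [Finset.mul_sum]
  apply Finset.sum_congr rfl
  intro i _
  rw [Finset.mul_sum]
  apply Finset.sum_congr rfl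
  intro j _
  split_ifs
  · simp only [Pi.smul_apply, smul_eq_mul]
    ring
  · rw [mul_zero]

end Cfsg.Agent.Helper66.SPE
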