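import Mathlib
import Cfsg.Agent.Lib.Helper98.SPE0

/-! # SPE server (helper98, S2333), piece Q4: `bv_eq_sum` -/

set_option autoImplicit false

namespace Cfsg.Agent.Helper66.SPE

open Matrix Cfsg.Agent.Helper93.U2 Cfsg.Agent.Helper98.SPE

variable {F : Type*} [Field F] {n : ℕ}

theorem bv_eq_sum (S : Matrix (Fin n) (Fin n) F) (x y : Fin n → F) :
    bv S x y = ∑ i, ∑ j, if i ≤ j then S i j * (x i * y j + y i * x j) else 0 := by
  unfold bv qv
  rw [← Finset.sum_sub_distrib, ← Finset.sum_sub_distrib]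
  apply Finset.sum_congr rfl
  intro i _
  rw [← Finset.sum_sub_distrib, ← Finset.sum_sub_distrib]
  apply Finset.sum_congr rfl
  intro j _
  split_ifs
  · simp only [Pi.add_apply]
    ring
  · ring

end Cfsg.Agent.Helper66.SPE
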