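import Mathlib
import Cfsg.Agent.Lib.Helper98.SPE0
import Cfsg.Agent.Lib.Helper66.SPEQ4

/-! # SPE server (helper98, S2333), piece Q2: bilinearity of `bv` -/

set_option autoImplicit false

namespace Cfsg.Agent.Helper66.SPE

open Matrix Cfsg.Agent.Helper93.U2 Cfsg.Agent.Helper98.SPE

variable {F : Type*} [Field F] {n : ℕ}

theorem bv_add_left (S : Matrix (Fin n) (Fin n) F) (x x' y : Fin n → F) :
    bv S (x + x') y = bv S x y + bv S x' y := by
  rw [bv_eq_sum, bv_eq_sum, bv_eq_sum, ← Finset.sum_add_distrib]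
  apply Finset.sum_congr rfl
  intro i _
  rw [← Finset.sum_add_distrib]
  apply Finset.sum_congr rfl
  intro j _
  split_ifs
  · simp only [Pi.add_apply]
    ring
  · rw [add_zero]

theorem bv_smul_left (S : Matrix (Fin n) (Fin n) F) (c : F) (x y : Fin n → F) :
    bv S (c • x) y = c * bv S x y := by
  rw [bv_eq_sum, bv_eq_sum, Finset.mul_sum]
  apply Finset.sum_congr rfl
  intro i _
  rw [Finset.mul_sum]
  apply Finset.sum_congr rfl
  intro j _
  split_ifs
  · simp only [Pi.smul_apply, smul_eq_mul]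
    ring
  · rw [mul_zero]

theorem bv_add_right (S : Matrix (Fin n) (Fin n) F) (x y y' : Fin n → F) :
    bv S x (y + y') = bv S x y + bv S x y' := by
  rw [bv_symm, bv_add_left, bv_symm S y x, bv_symm S y' x]

theorem bv_smul_right (S : Matrix (Fin n) (Fin n) F) (c : F) (x y : Fin n → F) :
    bv S x (c • y) = c * bv S x y := by
  rw [bv_symm, bv_smul_left, bv_symm]

end Cfsg.Agent.Helper66.SPE
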