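import Mathlib
import Cfsg.Agent.Lib.Helper32.N9Defs
import Cfsg.Agent.Lib.Helper12.N5SpDataOfSpecial
import Cfsg.Agent.Lib.Helper47.N5CardNe16

/-!
# N9 server (helper32, S4409), piece (II4a) `special_case`
-/

set_option autoImplicit false
set_option linter.style.haveILetI false

namespace Cfsg.Agent.Helper66.N9

open Cfsg Cfsg.Agent.Helper32.N9
open scoped commutatorElement

universe u

/-- an elementary abelian central subgroup of order divisible by 8 violates `NA8` -/
theorem ii4a_not_na8 {X : Type u} [Group X] [Finite X] (Z : Subgroup X)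
    (hZc : Z ≤ Subgroup.center X) (hel : ∀ z ∈ Z, z ^ 2 = 1) (h8 : 8 ∣ Nat.card Z) : ¬ NA8 Z := by
  intro hna
  haveI : Fact (Nat.Prime 2) := ⟨Nat.prime_two⟩
  obtain ⟨B', hB'⟩ := Sylow.exists_subgroup_card_pow_prime (G := Z) 2 (n := 3) (by simpa using h8)
  -- map to `X`
  set B : Subgroup X := B'.map Z.subtype with hB
  have hBZ : B ≤ Z := by
    rintro _ ⟨b, -, rfl⟩
    exact b.2
  have hcardB : Nat.card B = 8 := by
    rw [hB, Nat.card_congr (Subgroup.equivMapOfInjective B' Z.subtype Z.subtype_injective).symm.toEquiv, hB']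
    norm_num
  have hcomm : IsMulCommutative ↥B := by
    refine ⟨⟨fun a b => ?_⟩⟩
    apply Subtype.ext
    have := Subgroup.mem_center_iff.mp (hZc (hBZ a.2)) b.1
    exact this.symm
  have hncyc : ¬ IsCyclic ↥B := by
    intro hcyc
    obtain ⟨g, hg⟩ := hcyc.exists_generator
    have hord : orderOf g = Nat.card B := orderOf_eq_card_of_forall_mem_zpowers hg
    have hg2 : g ^ 2 = 1 := by
      apply Subtype.ext
      have := hel g.1 (hBZ g.2)
      simpa using this
    have : orderOf g ∣ 2 := orderOf_dvd_of_pow_eq_one hg2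
    rw [hord, hcardB] at this
    omega
  exact hna ⟨B, hBZ, hcomm, hncyc, hcardB⟩

theorem special_case {X : Type u} [Group X] [Finite X] (hS : Cfsg.IsSpecial 2 X)
    (hna : ¬ ∀ a b : X, a * b = b * a) (hZ : NA8 (Subgroup.center X))
    (h8 : ¬ NA8 (⊤ : Subgroup X)) :
    (Cfsg.IsExtraspecial 2 X ∧ 32 ≤ Nat.card X) ∨ Nat.card (Subgroup.center X) = 4 := by
  haveI : Fact (Nat.Prime 2) := ⟨Nat.prime_two⟩
  have hd := Cfsg.Agent.Helper12.N5.spData_of_special hS
  obtain ⟨hP, hfr, hco⟩ := hS
  -- the centre has order 2 or 4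
  obtain ⟨k, hk⟩ := (IsPGroup.iff_card (p := 2) (G := Subgroup.center X)).mp
    (hP.to_subgroup (Subgroup.center X))
  have hk0 : k ≠ 0 := by
    intro h0
    rw [h0, pow_zero] at hk
    have hbot : Subgroup.center X = ⊥ := Subgroup.card_eq_one.mp hk
    apply hna
    intro a b
    have h1 : ⁅a, b⁆ ∈ commutator X :=
      Subgroup.commutator_mem_commutator (Subgroup.mem_top a) (Subgroup.mem_top b)
    rw [hco, hbot, Subgroup.mem_bot] at h1
    exact commutatorElement_eq_one_iff_mul_comm.mp h1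
  have hk3 : k < 3 := by
    by_contra hge
    have h8' : 8 ∣ Nat.card (Subgroup.center X) := by
      rw [hk]
      have : (8 : ℕ) = 2 ^ 3 := by norm_num
      rw [this]
      exact pow_dvd_pow 2 (by omega)
    exact ii4a_not_na8 (Subgroup.center X) le_rfl hd.el h8' hZ
  have hk12 : k = 1 ∨ k = 2 := by omega
  rcases hk12 with h1 | h2
  · left
    rw [h1, pow_one] at hk
    refine ⟨⟨⟨hP, hfr, hco⟩, hk⟩, ?_⟩
    -- order of `X`
    obtain ⟨m, hm⟩ := (IsPGroup.iff_card (p := 2) (G := X)).mp hP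
    have h8X : ∃ B : Subgroup X, B ≤ ⊤ ∧ IsMulCommutative ↥B ∧ ¬ IsCyclic ↥B ∧ Nat.card ↥B = 8 := by
      by_contra h
      exact h8 h
    obtain ⟨B, -, hBc, -, hB8⟩ := h8X
    have hdvd : 8 ∣ Nat.card X := by
      rw [← hB8]; exact Subgroup.card_subgroup_dvd_card B
    have hne8 : Nat.card X ≠ 8 := by
      intro h
      apply hna
      have htop : B = ⊤ := Subgroup.eq_top_of_card_eq B (by rw [hB8, h])
      intro a b
      have ha : a ∈ B := htop ▸ Subgroup.mem_top a
      have hb : b ∈ B := htop ▸ Subgroup.mem_top b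
      have := hBc.is_comm.comm ⟨a, ha⟩ ⟨b, hb⟩
      exact congrArg Subtype.val this
    have hne16 := Cfsg.Agent.Helper47.N5.card_ne_16_of_center_two (Subgroup.center X) hd hk
    rw [hm] at hdvd hne8 hne16 ⊢
    have hm3 : 3 ≤ m := by
      have : (8 : ℕ) = 2 ^ 3 := by norm_num
      rw [this] at hdvd
      exact (Nat.pow_dvd_pow_iff_le_right (by norm_num)).mp hdvd
    have hm5 : 5 ≤ m := by
      by_contra hlt
      have : m = 3 ∨ m = 4 := by omega
      rcases this with h | h
      · apply hne8; rw [h]; norm_num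
      · apply hne16; rw [h]; norm_num
    calc 32 = 2 ^ 5 := by norm_num
      _ ≤ 2 ^ m := Nat.pow_le_pow_right (by norm_num) hm5
  · right
    rw [h2] at hk
    rw [hk]; norm_num

end Cfsg.Agent.Helper66.N9
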