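import Mathlib
import Cfsg.Agent.Lib.Helper32.N9Defs
import Cfsg.Agent.Lib.Helper51.RuSylFrat
import Cfsg.Agent.Lib.Helper99.N9G1
import Cfsg.Agent.Lib.Helper99.N9G2
import Cfsg.Agent.Lib.Helper58.N9V1

/-!
# N9 server (helper32, S4409), piece (II4b) `special_of_central_v4`
-/

set_option autoImplicit false
set_option linter.style.haveILetI false

namespace Cfsg.Agent.Helper66.N9

open Cfsg Cfsg.Agent.Helper32.N9
open scoped commutatorElement

universe u

/-- characteristic subgroups are invariant under every automorphism -/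
theorem ii4b_char_inv {X : Type u} [Group X] (H : Subgroup X) [hH : H.Characteristic]
    (φ : MulAut X) (x : X) (hx : x ∈ H) : φ x ∈ H := by
  have := hH.fixed φ
  have h2 : x ∈ H.comap φ.toMonoidHom := by rw [this]; exact hx
  exact h2

/-- in a finite 2-group the commutator subgroup lies in the Frattini subgroup -/
theorem ii4b_commutator_le_frattini {X : Type u} [Group X] [Finite X] (hX : IsPGroup 2 X) :
    commutator X ≤ frattini X := by
  rw [commutator_eq_closure, Subgroup.closure_le]
  rintro _ ⟨a, b, rfl⟩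
  have e : ⁅a, b⁆ = (a * a) * ((a⁻¹ * b) * (a⁻¹ * b)) * (b * b)⁻¹ := by
    rw [commutatorElement_def]; group
  rw [e]
  exact Subgroup.mul_mem _ (Subgroup.mul_mem _
    (Cfsg.Agent.Helper51.RuSyl.sq_mem_frattini hX a)
    (Cfsg.Agent.Helper51.RuSyl.sq_mem_frattini hX (a⁻¹ * b)))
    (Subgroup.inv_mem _ (Cfsg.Agent.Helper51.RuSyl.sq_mem_frattini hX b))

/-- (E1), proved locally: a central four-group `Y` inside `R` with `NA8 R` is all of `R`. -/
theorem ii4b_eq_of_central_v4 {X : Type u} [Group X] [Finite X] (hX : IsPGroup 2 X) (Y : Subgroup X)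
    (hYc : Y ≤ Subgroup.center X) (hY : IsV4 Y) (R : Subgroup X) (hYR : Y ≤ R) (hR : NA8 R) :
    R = Y := by
  by_contra hne
  have hex : ∃ x ∈ R, x ∉ Y := by
    by_contra hall
    apply hne
    apply le_antisymm _ hYR
    intro x hx
    by_contra hxY
    exact hall ⟨x, hx, hxY⟩
  obtain ⟨x, hxR, hxY⟩ := hex
  obtain ⟨m, hdY, hd2⟩ := Cfsg.Agent.Helper99.N9.exists_sq_mem_not_mem hX Y x hxY
  set d := x ^ 2 ^ m with hd
  have hdR : d ∈ R := Subgroup.pow_mem _ hxR _
  haveI hYn : Y.Normal := by
    refine ⟨fun y hy g => ?_⟩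
    have := Subgroup.mem_center_iff.mp (hYc hy) g
    have e : g * y * g⁻¹ = y := by rw [this]; group
    rw [e]; exact hy
  set B : Subgroup X := Y ⊔ Subgroup.zpowers d with hB
  have hBR : B ≤ R := sup_le hYR (by rw [Subgroup.zpowers_le]; exact hdR)
  have hYB : Y ≤ B := le_sup_left
  have hrel : Y.relIndex B = 2 := by
    rw [hB, Subgroup.relIndex_sup_left]
    exact Cfsg.Agent.Helper99.N9.g1_relIndex_zpowers Y d hdY hd2
  have hcardB : Nat.card B = 8 := by
    have h1 := Subgroup.relIndex_mul_relIndex (⊥ : Subgroup X) Y B bot_le hYB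
    rw [Subgroup.relIndex_bot_left, Subgroup.relIndex_bot_left, hrel, hY.1] at h1
    omega
  -- `B` is abelian
  have hBd : B ≤ Subgroup.centralizer {d} := by
    apply sup_le
    · intro y hy
      rw [Subgroup.mem_centralizer_iff]
      intro h hh
      rw [Set.mem_singleton_iff] at hh
      rw [hh]
      exact (Subgroup.mem_center_iff.mp (hYc hy) d)
    · rw [Subgroup.zpowers_le, Subgroup.mem_centralizer_iff]
      intro h hh
      rw [Set.mem_singleton_iff] at hh
      rw [hh]
  have hBcomm : ∀ b ∈ B, ∀ b' ∈ B, b * b' = b' * b := by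
    intro b hb b' hb'
    have hb'c : B ≤ Subgroup.centralizer {b} := by
      apply sup_le
      · intro y hy
        rw [Subgroup.mem_centralizer_iff]
        intro h hh
        rw [Set.mem_singleton_iff] at hh
        rw [hh]
        exact (Subgroup.mem_center_iff.mp (hYc hy) b)
      · rw [Subgroup.zpowers_le, Subgroup.mem_centralizer_iff]
        intro h hh
        rw [Set.mem_singleton_iff] at hh
        rw [hh]
        have := (Subgroup.mem_centralizer_iff.mp (hBd hb)) d rfl
        exact this.symm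
    exact (Subgroup.mem_centralizer_iff.mp (hb'c hb')) b rfl
  have hcomm : IsMulCommutative ↥B :=
    ⟨⟨fun a b => Subtype.ext (hBcomm a.1 a.2 b.1 b.2)⟩⟩
  -- `B` is not cyclic
  have hncyc : ¬ IsCyclic ↥B := by
    intro hcyc
    have hcycY : IsCyclic ↥(Y.subgroupOf B) := Subgroup.isCyclic _
    obtain ⟨g, hg⟩ := hcycY.exists_generator
    have hord : orderOf g = Nat.card (Y.subgroupOf B) := orderOf_eq_card_of_forall_mem_zpowers hg
    have hcardY' : Nat.card (Y.subgroupOf B) = 4 := by
      rw [Nat.card_congr (Subgroup.subgroupOfEquivOfLe hYB).toEquiv]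
      exact hY.1
    have hg2 : g ^ 2 = 1 := by
      apply Subtype.ext
      apply Subtype.ext
      have hgY : ((g : ↥B) : X) ∈ Y := g.2
      have := hY.2 _ hgY
      simpa using this
    have : orderOf g ∣ 2 := orderOf_dvd_of_pow_eq_one hg2
    rw [hord, hcardY'] at this
    omega
  exact hR ⟨B, hBR, hcomm, hncyc, hcardB⟩

theorem special_of_central_v4 {X : Type u} [Group X] [Finite X] (hX : IsPGroup 2 X)
    (A : Subgroup (MulAut X)) (hmin : MinH A) (V : Subgroup X) (hV : IsV4 V)
    (hVc : V ≤ Subgroup.center X) (hVinv : AInv A V) (φ : MulAut X) (hφ : φ ∈ A)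
    (hodd : Odd (orderOf φ)) (hne : ∃ v ∈ V, φ v ≠ v) (hna : ¬ ∀ a b : X, a * b = b * a) :
    Cfsg.IsSpecial 2 X ∧ Nat.card (Subgroup.center X) = 4 := by
  -- `V` is abelian, so `V ≠ ⊤`
  have hVtop : V ≠ ⊤ := by
    intro h
    apply hna
    intro a b
    have ha : a ∈ Subgroup.center X := hVc (h ▸ Subgroup.mem_top a)
    exact (Subgroup.mem_center_iff.mp ha b).symm
  -- every proper `A`-invariant subgroup containing `V` equals `V`
  have hE1 : ∀ R : Subgroup X, R ≠ ⊤ → AInv A R → V ≤ R → R = V := fun R hR1 hR2 hVR =>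
    ii4b_eq_of_central_v4 hX V hVc hV R hVR (hmin R hR1 hR2)
  -- the centre
  have hZne : Subgroup.center X ≠ ⊤ := by
    intro h
    apply hna
    intro a b
    have ha : a ∈ Subgroup.center X := h ▸ Subgroup.mem_top a
    exact (Subgroup.mem_center_iff.mp ha b).symm
  have hZinv : AInv A (Subgroup.center X) := fun ψ _ x hx => ii4b_char_inv _ ψ x hx
  have hZV : Subgroup.center X = V := hE1 _ hZne hZinv hVc
  -- the Frattini subgroup
  have hFinv : AInv A (frattini X ⊔ V) := by
    intro ψ hψ x hx
    have h1 : (frattini X ⊔ V).map ψ.toMonoidHom ≤ frattini X ⊔ V := by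
      rw [Subgroup.map_sup]
      apply sup_le_sup
      · rintro _ ⟨u, hu, rfl⟩
        exact ii4b_char_inv _ ψ u hu
      · rintro _ ⟨u, hu, rfl⟩
        exact hVinv ψ hψ u hu
    exact h1 ⟨x, hx, rfl⟩
  have hFne : frattini X ⊔ V ≠ ⊤ := by
    intro h
    apply hVtop
    rw [sup_comm] at h
    exact frattini_nongenerating h
  have hFV : frattini X ⊔ V = V := hE1 _ hFne hFinv le_sup_right
  have hFle : frattini X ≤ V := by rw [← hFV]; exact le_sup_left
  -- the commutator subgroup
  have hC1 : commutator X ≤ V := (ii4b_commutator_le_frattini hX).trans hFle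
  have hCne : commutator X ≠ ⊥ := by
    intro h
    apply hna
    intro a b
    have h1 : ⁅a, b⁆ ∈ commutator X :=
      Subgroup.commutator_mem_commutator (Subgroup.mem_top a) (Subgroup.mem_top b)
    rw [h, Subgroup.mem_bot] at h1
    exact commutatorElement_eq_one_iff_mul_comm.mp h1
  have hCV : commutator X = V := by
    rcases Cfsg.Agent.Helper58.N9.v4_invariant_sub V hV φ hodd (fun y hy => hVinv φ hφ y hy) hne
      (commutator X) hC1 (fun w hw => ii4b_char_inv _ φ w hw) with h | h
    · exact absurd h hCne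
    · exact h
  have hFeq : frattini X = V := by
    apply le_antisymm hFle
    rw [← hCV]
    exact ii4b_commutator_le_frattini hX
  refine ⟨⟨hX, by rw [hFeq, hZV], by rw [hCV, hZV]⟩, ?_⟩
  rw [hZV]
  exact hV.1

end Cfsg.Agent.Helper66.N9
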