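import Mathlib
import Cfsg.Agent.Lib.Helper98.SPE0
import Cfsg.Agent.Lib.Helper66.SPEQ1

/-! # SPE server (helper98, S2333), piece Q3: `bv_self`, `qv_add` -/

set_option autoImplicit false

namespace Cfsg.Agent.Helper66.SPE

open Matrix Cfsg.Agent.Helper93.U2 Cfsg.Agent.Helper98.SPE

variable {F : Type*} [Field F] {n : ℕ}

theorem bv_self (S : Matrix (Fin n) (Fin n) F) (x : Fin n → F) :
    bv S x x = 2 * qv S x := by
  unfold bv
  rw [← two_smul F x, qv_smul]
  ring

theorem qv_add (S : Matrix (Fin n) (Fin n) F) (x y : Fin n → F) :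
    qv S (x + y) = qv S x + qv S y + bv S x y := by
  unfold bv
  ring

end Cfsg.Agent.Helper66.SPE
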