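import Mathlib
import Cfsg.Agent.Lib.Helper43.Tri.Rel

/-!
# TRI server (helper43, S0817), piece (RB): `rel_refl_mul`

The product of two reflections in vectors of equal norm is the first component of a related triple
(`g₁ x = n⁻¹ • a(b̄ x)`, `g₂ y = n⁻¹ • (y b̄) a`).
-/

set_option autoImplicit false

namespace Cfsg.Agent.Helper66.Tri

open Matrix QuadraticMap Cfsg.Agent.Helper13 Cfsg.Agent.Helper43 Cfsg.Agent.Helper5.OAut Module
open Cfsg.Agent.Helper43.Tri

variable {F : Type*} [Field F]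

/-- the reflection in `a` is `z ↦ -(N a)⁻¹ • a z̄ a` -/
theorem rb_refl_smul (a : OV F) (ha : stdPlus F 4 a ≠ 0) (z : OV F) :
    reflIso (stdPlus F 4) ha • z = (-(stdPlus F 4 a)⁻¹) • omul (omul a (oconj z)) a := by
  have hn : (stdPlus F 4 a)⁻¹ * stdPlus F 4 a = 1 := inv_mul_cancel₀ ha
  have h0 : reflIso (stdPlus F 4) ha • z = reflLin (stdPlus F 4) a z :=
    (O_smul_def (stdPlus F 4) (reflIso (stdPlus F 4) ha) z).trans
      (reflectionMatrix_mulVec_eq (stdPlus F 4) a z)
  rw [h0, reflLin_apply, omul_oconj_omul,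
    polar_comm (⇑(stdPlus F 4)) a z, smul_sub, smul_smul, smul_smul, neg_mul, neg_mul, hn,
    neg_smul, neg_smul, one_smul]
  abel

theorem rb_L (a b x : OV F) :
    omul a (omul (oconj b) (omul b (omul (oconj a) x))) =
      (stdPlus F 4 b * stdPlus F 4 a) • x := by
  rw [oconj_omul_omul, omul_smul_right, omul_oconj_omul', smul_smul]

theorem rb_R (a b y : OV F) :
    omul (omul (omul (omul y (oconj a)) b) (oconj b)) a =
      (stdPlus F 4 b * stdPlus F 4 a) • y := by
  rw [omul_omul_oconj, omul_smul_left, omul_oconj_omul_right, smul_smul]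

/-- `x ↦ n⁻¹ • a(b̄ x)` as an isometry -/
noncomputable def rbG1 (a b : OV F) (ha : stdPlus F 4 a ≠ 0)
    (hab : stdPlus F 4 b = stdPlus F 4 a) : O8 F :=
  mkIso (stdPlus F 4) ((stdPlus F 4 a)⁻¹ • (Lm a ∘ₗ Lm (oconj b)))
    ((stdPlus F 4 a)⁻¹ • (Lm b ∘ₗ Lm (oconj a)))
    (by
      apply LinearMap.ext
      intro x
      simp only [LinearMap.comp_apply, LinearMap.smul_apply, Lm_apply, LinearMap.id_apply,
        omul_smul_right]
      rw [rb_L, smul_smul, smul_smul, hab]
      have hs : (stdPlus F 4 a)⁻¹ * (stdPlus F 4 a)⁻¹ * (stdPlus F 4 a * stdPlus F 4 a) = 1 := by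
        field_simp
      rw [hs, one_smul])
    (by
      apply LinearMap.ext
      intro x
      simp only [LinearMap.comp_apply, LinearMap.smul_apply, Lm_apply, LinearMap.id_apply,
        omul_smul_right]
      rw [rb_L, smul_smul, smul_smul, hab]
      have hs : (stdPlus F 4 a)⁻¹ * (stdPlus F 4 a)⁻¹ * (stdPlus F 4 a * stdPlus F 4 a) = 1 := by
        field_simp
      rw [hs, one_smul])
    (by
      intro x
      simp only [LinearMap.comp_apply, LinearMap.smul_apply, Lm_apply]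
      rw [QuadraticMap.map_smul, N_omul, N_omul, N_oconj, hab, smul_eq_mul]
      field_simp)

/-- `y ↦ n⁻¹ • (y b̄) a` as an isometry -/
noncomputable def rbG2 (a b : OV F) (ha : stdPlus F 4 a ≠ 0)
    (hab : stdPlus F 4 b = stdPlus F 4 a) : O8 F :=
  mkIso (stdPlus F 4) ((stdPlus F 4 a)⁻¹ • (Rm a ∘ₗ Rm (oconj b)))
    ((stdPlus F 4 a)⁻¹ • (Rm b ∘ₗ Rm (oconj a)))
    (by
      apply LinearMap.ext
      intro x
      simp only [LinearMap.comp_apply, LinearMap.smul_apply, Rm_apply, LinearMap.id_apply,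
        omul_smul_left]
      rw [rb_R, smul_smul, smul_smul, hab]
      have hs : (stdPlus F 4 a)⁻¹ * (stdPlus F 4 a)⁻¹ * (stdPlus F 4 a * stdPlus F 4 a) = 1 := by
        field_simp
      rw [hs, one_smul])
    (by
      apply LinearMap.ext
      intro x
      simp only [LinearMap.comp_apply, LinearMap.smul_apply, Rm_apply, LinearMap.id_apply,
        omul_smul_left]
      rw [rb_R, smul_smul, smul_smul, hab]
      have hs : (stdPlus F 4 a)⁻¹ * (stdPlus F 4 a)⁻¹ * (stdPlus F 4 a * stdPlus F 4 a) = 1 := by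
        field_simp
      rw [hs, one_smul])
    (by
      intro x
      simp only [LinearMap.comp_apply, LinearMap.smul_apply, Rm_apply]
      rw [QuadraticMap.map_smul, N_omul, N_omul, N_oconj, hab, smul_eq_mul]
      field_simp)

theorem rbG1_smul (a b : OV F) (ha : stdPlus F 4 a ≠ 0)
    (hab : stdPlus F 4 b = stdPlus F 4 a) (x : OV F) :
    rbG1 a b ha hab • x = (stdPlus F 4 a)⁻¹ • omul a (omul (oconj b) x) := by
  unfold rbG1
  rw [mkIso_smul]
  rfl

theorem rbG2_smul (a b : OV F) (ha : stdPlus F 4 a ≠ 0)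
    (hab : stdPlus F 4 b = stdPlus F 4 a) (y : OV F) :
    rbG2 a b ha hab • y = (stdPlus F 4 a)⁻¹ • omul (omul y (oconj b)) a := by
  unfold rbG2
  rw [mkIso_smul]
  rfl

theorem rel_refl_mul (a b : OV F) (ha : stdPlus F 4 a ≠ 0) (hb : stdPlus F 4 b ≠ 0)
    (hab : stdPlus F 4 b = stdPlus F 4 a) :
    ∃ g₁ g₂ : O8 F, Rel (reflIso (stdPlus F 4) ha * reflIso (stdPlus F 4) hb) g₁ g₂ := by
  refine ⟨rbG1 a b ha hab, rbG2 a b ha hab, ?_⟩
  intro x y
  rw [mul_smul, rb_refl_smul b hb, rb_refl_smul a ha, rbG1_smul, rbG2_smul, hab]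
  rw [oconj_smul, omul_smul_right, omul_smul_left, smul_smul, omul_smul_left, omul_smul_right,
    smul_smul, neg_mul_neg]
  congr 1
  rw [oconj_omul, oconj_omul, oconj_oconj]
  rw [moufang_mid a (omul (oconj b) x) (omul y (oconj b)), moufang_mid (oconj b) x y, flex (oconj b) (omul x y)]

end Cfsg.Agent.Helper66.Tri
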