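import Mathlib.Algebra.Group.Commute.Basic
import Mathlib.Tactic.Group
import Mathlib.Tactic.Ring
import Mathlib.Data.Nat.Prime.Basic

set_option autoImplicit false

namespace Cfsg.Agent.Helper66

/-- triangular numbers -/
def tri : ℕ → ℕ
  | 0 => 0
  | n + 1 => tri n + n

theorem two_mul_tri (n : ℕ) : 2 * tri n = n * (n - 1) := by
  induction n with
  | zero => rfl
  | succ n ih =>
    rw [tri, mul_add, ih]
    cases n with
    | zero => rfl
    | succ k => simp only [Nat.add_sub_cancel]; ring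

theorem dvd_tri_of_odd_prime (p : ℕ) (hp : p.Prime) (hodd : p ≠ 2) : p ∣ tri p := by
  have h1 : p ∣ 2 * tri p := by rw [two_mul_tri]; exact Dvd.intro _ rfl
  have h2 : Nat.Coprime p 2 := (Nat.coprime_primes hp Nat.prime_two).mpr hodd
  exact h2.dvd_of_dvd_mul_left h1

theorem tri_four : tri 4 = 6 := rfl

section
variable {G : Type*} [Group G]

theorem pow_mul_comm_class_two (x y c : G) (hc : c = y⁻¹ * x⁻¹ * y * x) (hcy : Commute c y) :
    ∀ n : ℕ, y ^ n * x = x * y ^ n * c ^ n := by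
  have hyx : y * x = x * y * c := by rw [hc]; group
  intro n
  induction n with
  | zero => simp
  | succ n ih =>
    calc y ^ (n + 1) * x = y ^ n * (y * x) := by rw [pow_succ, mul_assoc]
      _ = y ^ n * x * (y * c) := by rw [hyx]; simp only [mul_assoc]
      _ = x * y ^ n * (c ^ n * y) * c := by rw [ih]; simp only [mul_assoc]
      _ = x * y ^ n * (y * c ^ n) * c := by rw [(hcy.pow_left n).eq]
      _ = x * y ^ (n + 1) * c ^ (n + 1) := by rw [pow_succ, pow_succ]; simp only [mul_assoc]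

theorem mul_pow_class_two (x y c : G) (hc : c = y⁻¹ * x⁻¹ * y * x) (hcx : Commute c x)
    (hcy : Commute c y) : ∀ n : ℕ, (x * y) ^ n = x ^ n * y ^ n * c ^ tri n := by
  intro n
  induction n with
  | zero => simp [tri]
  | succ n ih =>
    have h1 := pow_mul_comm_class_two x y c hc hcy n
    have hcx' : Commute (c ^ tri n) x := hcx.pow_left _
    have hcy' : Commute (c ^ n) y := hcy.pow_left _
    have hcy'' : Commute (c ^ tri n) y := hcy.pow_left _
    calc (x * y) ^ (n + 1) = x ^ n * y ^ n * c ^ tri n * (x * y) := by rw [pow_succ, ih]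
      _ = x ^ n * y ^ n * (c ^ tri n * x) * y := by simp only [mul_assoc]
      _ = x ^ n * y ^ n * (x * c ^ tri n) * y := by rw [hcx'.eq]
      _ = x ^ n * (y ^ n * x) * (c ^ tri n * y) := by simp only [mul_assoc]
      _ = x ^ n * (x * y ^ n * c ^ n) * (y * c ^ tri n) := by rw [h1, hcy''.eq]
      _ = x ^ n * x * y ^ n * (c ^ n * y) * c ^ tri n := by simp only [mul_assoc]
      _ = x ^ n * x * y ^ n * (y * c ^ n) * c ^ tri n := by rw [hcy'.eq]
      _ = x ^ (n + 1) * y ^ (n + 1) * c ^ tri (n + 1) := by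
          rw [pow_succ, pow_succ, tri, add_comm (tri n) n, pow_add]; simp only [mul_assoc]

/-- `(y ^ n)⁻¹ * x⁻¹ * y ^ n * x = c ^ n` -/
theorem comm_pow_class_two (x y c : G) (hc : c = y⁻¹ * x⁻¹ * y * x) (hcy : Commute c y)
    (n : ℕ) : (y ^ n)⁻¹ * x⁻¹ * y ^ n * x = c ^ n := by
  have h1 := pow_mul_comm_class_two x y c hc hcy n
  calc (y ^ n)⁻¹ * x⁻¹ * y ^ n * x = (y ^ n)⁻¹ * x⁻¹ * (y ^ n * x) := by simp only [mul_assoc]
    _ = (y ^ n)⁻¹ * x⁻¹ * (x * y ^ n * c ^ n) := by rw [h1]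
    _ = c ^ n := by group

end

end Cfsg.Agent.Helper66
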