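import Mathlib
import Cfsg.Agent.Lib.Helper62.SUO0
import Cfsg.Agent.Lib.Helper90.SUOE1

/-!
# SUO pieces E2a, E2b, E2c (S2282): the set `WW` of full centres is stable under `Hs` and under scaling.
-/

set_option autoImplicit false
set_option linter.unusedSectionVars false
set_option linter.unusedVariables false
set_option quotPrecheck false

namespace Cfsg.Agent.Helper66.SUO

open Matrix Cfsg Cfsg.Agent.Helper13 Cfsg.Agent.Helper87.PsuA Cfsg.Agent.Helper62.SUO

section E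
variable {F : Type*} [Field F] [Fintype F] {q n : ℕ} (hF : Fintype.card F = q ^ 2)
  {Hs : Subgroup ↥(Cfsg.SU n F q)}

local notation "V" => Fin n → F
local notation "G" => ↥(Cfsg.SU n F q)
local notation "H" => Cfsg.hermForm n F q

include hF

/-- (E2a) `eich_conj` -/
theorem WW_act {v : V} (hv : v ∈ WW hF Hs) {h : G} (hh : h ∈ Hs) : actv h v ∈ WW hF Hs := by
  obtain ⟨hvv, hall⟩ := hv
  refine ⟨by rw [H_actv]; exact hvv, ?_⟩
  intro w a hw ha
  have h1 : H v (actv h⁻¹ w) = 0 := by rw [H_actv_inv']; exact hw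
  have h2 : a + a ^ q + H (actv h⁻¹ w) (actv h⁻¹ w) = 0 := by rw [H_actv]; exact ha
  have h3 := eich_conj hF hvv h1 h2 h
  rw [actv_actv_inv] at h3
  rw [← h3]
  exact Hs.mul_mem (Hs.mul_mem hh (hall _ a h1 h2)) (Hs.inv_mem hh)

/-- (E2b) `eich_smul` -/
theorem WW_smul {v : V} {lam : F} (hlam : lam ≠ 0) (hv : lam • v ∈ WW hF Hs) :
    v ∈ WW hF Hs := by
  obtain ⟨hvv, hall⟩ := hv
  have hlq : lam ^ q ≠ 0 := pow_ne_zero _ hlam
  have hvv' : H v v = 0 := by
    rw [hermForm_smul_left, hermForm_smul_right] at hvv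
    rcases mul_eq_zero.1 hvv with h | h
    · exact absurd h hlam
    · rcases mul_eq_zero.1 h with h | h
      · exact absurd h hlq
      · exact h
  refine ⟨hvv', ?_⟩
  intro w a hw ha
  have hN : lam * lam ^ q ≠ 0 := mul_ne_zero hlam hlq
  have h1 : H v ((lam ^ q)⁻¹ • w) = 0 := by rw [hermForm_smul_right, hw, mul_zero]
  have h1' : H (lam • v) ((lam ^ q)⁻¹ • w) = 0 := by rw [hermForm_smul_left, h1, mul_zero]
  have h2 : a / (lam * lam ^ q) + (a / (lam * lam ^ q)) ^ q +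
      H ((lam ^ q)⁻¹ • w) ((lam ^ q)⁻¹ • w) = 0 := by
    rw [hermForm_smul_left, hermForm_smul_right, div_pow, mul_pow, inv_pow, frob_frob hF]
    field_simp
    linear_combination ha
  have h3 := hall _ _ h1' h2
  rw [eich_smul hF hvv' h1 h2, smul_smul, mul_inv_cancel₀ hlq, one_smul] at h3
  have h4 : lam * lam ^ q * (a / (lam * lam ^ q)) = a := by field_simp
  rw [h4] at h3
  exact h3

/-- (E2c) E1 E2a E2b -/
theorem WW_step {e v v' : V} (he : e ∈ WW hF Hs) (hv : v ∈ WW hF Hs) (hv'v' : H v' v' = 0)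
    (hve : H v e ≠ 0) (hv'e : H v' e ≠ 0) : v' ∈ WW hF Hs := by
  obtain ⟨w, a, lam, hw, ha, hlam, hact⟩ :=
    Cfsg.Agent.Helper90.SUO.Q_trans hF he.1 hv.1 hv'v' hve hv'e
  have hmem : eich hF e w a ∈ Hs := he.2 w a hw ha
  have h1 := WW_act hF hv hmem
  rw [hact] at h1
  exact WW_smul hF hlam h1

end E

end Cfsg.Agent.Helper66.SUO
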