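import Mathlib
import Cfsg.Agent.Lib.Helper98.SPE0

/-! # SPE server (helper98, S2333), piece K8a: `card_indep_pairs` -/

set_option autoImplicit false

namespace Cfsg.Agent.Helper66.SPE

open Matrix Cfsg.Agent.Helper93.U2 Cfsg.Agent.Helper98.SPE

variable {F : Type*} [Field F] [Fintype F] {q : ℕ} (hq : Fintype.card F = q) {n : ℕ}

include hq in
theorem card_indep_pairs (hn : 2 ≤ n) :
    {xy : (Fin n → F) × (Fin n → F) | LinearIndependent F ![xy.1, xy.2]}.ncard
      = (q ^ n - 1) * (q ^ n - q) := by
  have hfr : Module.finrank F (Fin n → F) = n := Module.finrank_fin_fun F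
  have h := card_linearIndependent (K := F) (V := Fin n → F) (k := 2) (by rw [hfr]; exact hn)
  rw [Fin.prod_univ_two, hfr, hq] at h
  simp only [Fin.val_zero, Fin.val_one, pow_zero, pow_one] at h
  rw [← h, ← Nat.card_coe_set_eq]
  apply Nat.card_congr
  refine (Equiv.subtypeEquiv (piFinTwoEquiv (fun _ => Fin n → F)) ?_).symm
  intro s
  have hs : s = ![s 0, s 1] := by
    funext i
    fin_cases i <;> rfl
  show LinearIndependent F s ↔ LinearIndependent F ![s 0, s 1]
  rw [← hs]

end Cfsg.Agent.Helper66.SPE
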