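import Cfsg.Agent.Lib.Helper66.FpfOrderThree

set_option autoImplicit false

namespace Cfsg.Agent.Helper66

open scoped commutatorElement

section SymThree

/-- A group of order 6 without elements of order 6 is isomorphic to `S₃`. -/
theorem nonempty_mulEquiv_perm_fin_three {Q : Type*} [Group Q] (hcard : Nat.card Q = 6)
    (h6 : ∀ q : Q, orderOf q ≠ 6) : Nonempty (Q ≃* Equiv.Perm (Fin 3)) := by
  have hfin : Finite Q := Nat.finite_of_card_ne_zero (by omega)
  have hp2 : Fact (Nat.Prime 2) := ⟨Nat.prime_two⟩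
  have hp3 : Fact (Nat.Prime 3) := ⟨Nat.prime_three⟩
  obtain ⟨t, ht⟩ := exists_prime_orderOf_dvd_card' (G := Q) 2 (by rw [hcard]; norm_num)
  obtain ⟨c, hc⟩ := exists_prime_orderOf_dvd_card' (G := Q) 3 (by rw [hcard]; norm_num)
  have hT : Nat.card (Subgroup.zpowers t) = 2 := by rw [Nat.card_zpowers, ht]
  have hidx : (Subgroup.zpowers t).index = 3 := by
    have := (Subgroup.zpowers t).card_mul_index
    rw [hT, hcard] at this
    omega
  have ht1 : t ≠ 1 := by
    intro h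
    rw [h, orderOf_one] at ht
    omega
  -- elements of `⟨t⟩`
  have hmem : ∀ x ∈ Subgroup.zpowers t, x = 1 ∨ x = t := by
    intro x hx
    by_contra hne
    rw [not_or] at hne
    obtain ⟨y, hy1, hy2⟩ := (Nat.card_eq_two_iff' (1 : Subgroup.zpowers t)).mp hT
    have h1 : (⟨x, hx⟩ : Subgroup.zpowers t) = y := hy2 _ (fun h => hne.1 (congrArg Subtype.val h))
    have h2 : (⟨t, Subgroup.mem_zpowers t⟩ : Subgroup.zpowers t) = y :=
      hy2 _ (fun h => ht1 (congrArg Subtype.val h))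
    exact hne.2 (congrArg Subtype.val (h1.trans h2.symm))
  have hcore : (Subgroup.zpowers t).normalCore = ⊥ := by
    rw [eq_bot_iff]
    intro x hx
    rw [Subgroup.mem_bot]
    by_contra hx1
    have hxt : x = t := by
      rcases hmem x (Subgroup.normalCore_le _ hx) with h | h
      · exact absurd h hx1
      · exact h
    rw [hxt] at hx
    have hconj : c * t * c⁻¹ ∈ (Subgroup.zpowers t).normalCore :=
      (Subgroup.normalCore_normal _).conj_mem t hx c
    have hct : c * t * c⁻¹ = t := by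
      rcases hmem _ (Subgroup.normalCore_le _ hconj) with h | h
      · exfalso
        apply ht1
        calc t = c⁻¹ * (c * t * c⁻¹) * c := by group
          _ = 1 := by rw [h]; group
      · exact h
    have hcomm : Commute c t := by
      have : c * t = t * c := by
        calc c * t = c * t * c⁻¹ * c := by group
          _ = t * c := by rw [hct]
      exact this
    have := hcomm.orderOf_mul_eq_mul_orderOf_of_coprime (by rw [hc, ht]; norm_num)
    rw [hc, ht] at this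
    exact h6 _ this
  have hker : (MulAction.toPermHom Q (Q ⧸ Subgroup.zpowers t)).ker = ⊥ := by
    rw [← Subgroup.normalCore_eq_ker, hcore]
  have hinj : Function.Injective (MulAction.toPermHom Q (Q ⧸ Subgroup.zpowers t)) :=
    (MonoidHom.ker_eq_bot_iff _).mp hker
  have hcq : Nat.card (Q ⧸ Subgroup.zpowers t) = 3 := by
    rw [← Subgroup.index_eq_card, hidx]
  have hcardP : Nat.card (Equiv.Perm (Q ⧸ Subgroup.zpowers t)) = 6 := by
    rw [Nat.card_perm, hcq]
    rfl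
  have hbij : Function.Bijective (MulAction.toPermHom Q (Q ⧸ Subgroup.zpowers t)) :=
    (Nat.bijective_iff_injective_and_card _).mpr ⟨hinj, by rw [hcard, hcardP]⟩
  have hfinq : Finite (Q ⧸ Subgroup.zpowers t) := Nat.finite_of_card_ne_zero (by omega)
  have e : (Q ⧸ Subgroup.zpowers t) ≃ Fin 3 := Finite.equivFinOfCardEq hcq
  exact ⟨(MulEquiv.ofBijective _ hbij).trans (Equiv.permCongrHom e)⟩

end SymThree


section Words
variable {G : Type*} [Group G]

/-- A word lemma: if `y0 y1 y2 = 1` with the `y`s commuting, `(y_j x)^2 = 1`, `x^4 = 1` and `x^2`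
commutes with `y1`, then `x^2 = 1`. -/
theorem sq_eq_one_of_three (x y0 y1 y2 : G) (hx4 : x * x * (x * x) = 1) (hprod : y0 * y1 * y2 = 1)
    (hc01 : Commute y0 y1) (hc02 : Commute y0 y2) (hc12 : Commute y1 y2)
    (h0 : y0 * x * (y0 * x) = 1) (h1 : y1 * x * (y1 * x) = 1) (h2 : y2 * x * (y2 * x) = 1)
    (hcx : Commute (x * x) y1) : x * x = 1 := by
  have k : ∀ y : G, y * x * (y * x) = 1 → x * y * x = y⁻¹ := by
    intro y hy
    calc x * y * x = y⁻¹ * (y * x * (y * x)) := by group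
      _ = y⁻¹ := by rw [hy, mul_one]
  have hcx' : Commute (x * x)⁻¹ y1⁻¹ := hcx.inv_inv
  have hinv : (x * x)⁻¹ * (x * x)⁻¹ = 1 := by
    rw [← mul_inv_rev, hx4, inv_one]
  have hprod' : y0⁻¹ * y1⁻¹ * y2⁻¹ = 1 := by
    have : y2 * y1 * y0 = 1 := by
      calc y2 * y1 * y0 = y0 * (y2 * y1) := by
            rw [mul_assoc, (hc02.symm.mul_left hc01.symm).eq.symm, mul_assoc]
        _ = y0 * (y1 * y2) := by rw [hc12.eq]
        _ = 1 := by rw [← mul_assoc, hprod]
    calc y0⁻¹ * y1⁻¹ * y2⁻¹ = (y2 * y1 * y0)⁻¹ := by group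
      _ = 1 := by rw [this, inv_one]
  calc x * x = x * (y0 * y1 * y2) * x := by rw [hprod, mul_one]
    _ = (x * y0 * x) * (x * x)⁻¹ * (x * y1 * x) * (x * x)⁻¹ * (x * y2 * x) := by group
    _ = y0⁻¹ * (x * x)⁻¹ * y1⁻¹ * (x * x)⁻¹ * y2⁻¹ := by rw [k y0 h0, k y1 h1, k y2 h2]
    _ = y0⁻¹ * (y1⁻¹ * (x * x)⁻¹) * (x * x)⁻¹ * y2⁻¹ := by rw [← hcx'.eq]; group
    _ = y0⁻¹ * y1⁻¹ * ((x * x)⁻¹ * (x * x)⁻¹) * y2⁻¹ := by group
    _ = 1 := by rw [hinv, mul_one, hprod']

end Words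


section SymThreeAction
variable {G : Type*} [Group G]

/-- If `⟨a, u⟩ ≅ S₃` acts on the finite normal 2-subgroup `N` so that the elements of `N a`, `N a⁻¹`
have order dividing 3 and those of `u N`, `u a N`, `u a⁻¹ N` have order dividing 4, then `N` has
exponent 2. -/
theorem sq_eq_one_of_symThree (N : Subgroup G) [hN : N.Normal] [Finite N] (hN2 : IsPGroup 2 N)
    (a u : G) (hu : u * u = 1) (hua : u * a * u = a⁻¹)
    (hx4 : ∀ x ∈ N, x * x * (x * x) = 1)
    (H1 : ∀ x ∈ N, (x * a) ^ 3 = 1) (H2 : ∀ x ∈ N, (x * a⁻¹) ^ 3 = 1)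
    (K0 : ∀ x ∈ N, (u * x) ^ 4 = 1) (K1 : ∀ x ∈ N, (u * a * x) ^ 4 = 1)
    (K2 : ∀ x ∈ N, (u * a⁻¹ * x) ^ 4 = 1) :
    ∀ x ∈ N, x * x = 1 := by
  have ha3 : a ^ 3 = 1 := by
    have := H1 1 N.one_mem
    rwa [one_mul] at this
  have huinv : u⁻¹ = u := inv_eq_of_mul_eq_one_right hu
  have hua' : u * a = a⁻¹ * u := by
    calc u * a = u * a * u * u⁻¹ := by group
      _ = a⁻¹ * u := by rw [hua, huinv]
  have hua'' : u * a⁻¹ = a * u := by
    calc u * a⁻¹ = a * (a⁻¹ * u) * a⁻¹ := by group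
      _ = a * (u * a) * a⁻¹ := by rw [hua']
      _ = a * u := by group
  have pow4 : ∀ v x : G, (v * x) ^ 4 = (v * x * v) * x * ((v * x * v) * x) := by
    intro v x
    simp only [pow_succ, pow_zero, one_mul, mul_assoc]
  have core : ∀ x ∈ N, (∀ z ∈ N, Commute (x * x) z) → x * x = 1 := by
    intro x hx hcen
    obtain ⟨w, hw⟩ : ∃ w, w = u * x * u := ⟨_, rfl⟩
    have hwN : w ∈ N := by
      have := hN.conj_mem x hx u
      rw [huinv] at this
      rwa [hw]
    have hy1N : a * w * a⁻¹ ∈ N := hN.conj_mem w hwN a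
    have c01 : Commute w (a * w * a⁻¹) := commute_conj_of_cube N a H1 H2 w hwN
    have H2' : ∀ x ∈ N, (x * a⁻¹⁻¹) ^ 3 = 1 := by
      intro y hy; rw [inv_inv]; exact H1 y hy
    have c02 : Commute w (a⁻¹ * w * a) := by
      have := commute_conj_of_cube N a⁻¹ H2 H2' w hwN
      rwa [inv_inv] at this
    have c12 : Commute (a * w * a⁻¹) (a⁻¹ * w * a) := by
      have := commute_conj_of_cube N a H1 H2 _ hy1N
      have e : a * (a * w * a⁻¹) * a⁻¹ = a⁻¹ * w * a := by
        calc a * (a * w * a⁻¹) * a⁻¹ = (a * a) * w * (a⁻¹ * a⁻¹) := by group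
          _ = a⁻¹ * w * a := by rw [mul_self_of_cube a ha3, inv_mul_inv_of_cube a ha3]
      rwa [e] at this
    have hprod : w * (a * w * a⁻¹) * (a⁻¹ * w * a) = 1 := prod_conj_of_cube a w ha3 (H1 w hwN)
    have h0 : w * x * (w * x) = 1 := by
      have := K0 x hx
      rw [pow4] at this
      rwa [hw]
    have h1 : a * w * a⁻¹ * x * (a * w * a⁻¹ * x) = 1 := by
      have := K2 x hx
      rw [pow4 (u * a⁻¹) x] at this
      have e : u * a⁻¹ * x * (u * a⁻¹) = a * w * a⁻¹ := by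
        rw [hw]
        calc u * a⁻¹ * x * (u * a⁻¹) = (u * a⁻¹) * x * u * a⁻¹ := by group
          _ = (a * u) * x * u * a⁻¹ := by rw [hua'']
          _ = a * (u * x * u) * a⁻¹ := by group
      rwa [e] at this
    have h2 : a⁻¹ * w * a * x * (a⁻¹ * w * a * x) = 1 := by
      have := K1 x hx
      rw [pow4 (u * a) x] at this
      have e : u * a * x * (u * a) = a⁻¹ * w * a := by
        rw [hw]
        calc u * a * x * (u * a) = (u * a) * x * u * a := by group
          _ = (a⁻¹ * u) * x * u * a := by rw [hua']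
          _ = a⁻¹ * (u * x * u) * a := by group
      rwa [e] at this
    exact sq_eq_one_of_three x w (a * w * a⁻¹) (a⁻¹ * w * a) (hx4 x hx) hprod c01 c02 c12 h0 h1 h2
      (hcen _ hy1N)
  have hT := triple_comm_eq_one_of_cube N hN2 a H1 H2
  have hTG : ∀ x ∈ N, ∀ y ∈ N, ∀ z ∈ N, Commute (x * y * x⁻¹ * y⁻¹) z := by
    intro x hx y hy z hz
    have h := congrArg Subtype.val (hT ⟨x, hx⟩ ⟨y, hy⟩ ⟨z, hz⟩)
    rw [commutatorElement_def, commutatorElement_def] at h
    simp only [Subgroup.coe_mul, Subgroup.coe_inv, Subgroup.coe_one] at h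
    have : (x * y * x⁻¹ * y⁻¹) * z = z * (x * y * x⁻¹ * y⁻¹) := by
      calc (x * y * x⁻¹ * y⁻¹) * z
          = ((x * y * x⁻¹ * y⁻¹) * z * (x * y * x⁻¹ * y⁻¹)⁻¹ * z⁻¹) * z * (x * y * x⁻¹ * y⁻¹) := by
            group
        _ = z * (x * y * x⁻¹ * y⁻¹) := by rw [h, one_mul]
    exact this
  have comm_sq : ∀ x ∈ N, ∀ y ∈ N, (x * y * x⁻¹ * y⁻¹) * (x * y * x⁻¹ * y⁻¹) = 1 := by
    intro x hx y hy
    have hcN : x * y * x⁻¹ * y⁻¹ ∈ N :=
      N.mul_mem (N.mul_mem (N.mul_mem hx hy) (N.inv_mem hx)) (N.inv_mem hy)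
    apply core _ hcN
    intro z hz
    exact (hTG x hx y hy z hz).mul_left (hTG x hx y hy z hz)
  have sq_cen : ∀ x ∈ N, ∀ z ∈ N, Commute (x * x) z := by
    intro x hx z hz
    have key : ∀ c : G, c = x * z * x⁻¹ * z⁻¹ → Commute c x → c * c = 1 →
        x * x * z = z * (x * x) := by
      intro c hc h1 h2
      have e1 : x * z = c * z * x := by rw [hc]; group
      calc x * x * z = x * (x * z) := by group
        _ = x * (c * z * x) := by rw [e1]
        _ = (x * c) * z * x := by group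
        _ = (c * x) * z * x := by rw [← h1.eq]
        _ = c * (x * z) * x := by group
        _ = c * (c * z * x) * x := by rw [e1]
        _ = (c * c) * z * (x * x) := by group
        _ = z * (x * x) := by rw [h2, one_mul]
    exact key _ rfl (hTG x hx z hz x hx) (comm_sq x hx z hz)
  intro x hx
  exact core x hx (sq_cen x hx)

end SymThreeAction


section NoThree
variable {G : Type*} [Group G]

/-- If `e` acts fixed-point-freely on the normal subgroup `N` and all elements of `N e`, `N e⁻¹` have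
order dividing 3, then `N` has no elements of order 3. -/
theorem eq_one_of_cube_of_fpf (N : Subgroup G) [hN : N.Normal] (e : G)
    (H1 : ∀ x ∈ N, (x * e) ^ 3 = 1) (H2 : ∀ x ∈ N, (x * e⁻¹) ^ 3 = 1)
    (H3 : ∀ x ∈ N, x * e = e * x → x = 1) (x : G) (hx : x ∈ N) (hx3 : x ^ 3 = 1) : x = 1 := by
  have he3 : e ^ 3 = 1 := by
    have := H1 1 N.one_mem
    rwa [one_mul] at this
  have hBN : e * x * e⁻¹ ∈ N := hN.conj_mem x hx e
  have c01 : Commute x (e * x * e⁻¹) := commute_conj_of_cube N e H1 H2 x hx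
  have hprod : x * (e * x * e⁻¹) * (e⁻¹ * x * e) = 1 := prod_conj_of_cube e x he3 (H1 x hx)
  have hB3 : (e * x * e⁻¹) * (e * x * e⁻¹) * (e * x * e⁻¹) = 1 := by
    calc (e * x * e⁻¹) * (e * x * e⁻¹) * (e * x * e⁻¹) = e * (x * x * x) * e⁻¹ := by group
      _ = e * x ^ 3 * e⁻¹ := by rw [pow_succ, pow_succ, pow_one]
      _ = 1 := by rw [hx3]; group
  -- abstract: A = x, B = e x e⁻¹, C = e⁻¹ x e
  have key : ∀ A B C : G, Commute A B → A * B * C = 1 → B * B * B = 1 → C * B⁻¹ = B * A⁻¹ := by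
    intro A B C hAB hABC hB
    have hC : C = B⁻¹ * A⁻¹ := by
      calc C = (A * B)⁻¹ * (A * B * C) := by group
        _ = B⁻¹ * A⁻¹ := by rw [hABC, mul_one, mul_inv_rev]
    have hAB' : Commute A⁻¹ B⁻¹ := hAB.inv_inv
    calc C * B⁻¹ = B⁻¹ * (A⁻¹ * B⁻¹) := by rw [hC]; group
      _ = B⁻¹ * (B⁻¹ * A⁻¹) := by rw [hAB'.eq]
      _ = (B * B * B) * B⁻¹ * B⁻¹ * A⁻¹ := by rw [hB]; group
      _ = B * A⁻¹ := by group
  have h1 := key x (e * x * e⁻¹) (e⁻¹ * x * e) c01 hprod hB3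
  -- `z = B A⁻¹` is fixed by `e`
  have hzN : e * x * e⁻¹ * x⁻¹ ∈ N := N.mul_mem hBN (N.inv_mem hx)
  have hfix : (e * x * e⁻¹ * x⁻¹) * e = e * (e * x * e⁻¹ * x⁻¹) := by
    have e1 : e * (e * x * e⁻¹ * x⁻¹) * e⁻¹ = (e⁻¹ * x * e) * (e * x * e⁻¹)⁻¹ := by
      calc e * (e * x * e⁻¹ * x⁻¹) * e⁻¹ = (e * e) * x * (e⁻¹ * e⁻¹) * (e * x * e⁻¹)⁻¹ := by group
        _ = (e⁻¹ * x * e) * (e * x * e⁻¹)⁻¹ := by
          rw [mul_self_of_cube e he3, inv_mul_inv_of_cube e he3]
    calc (e * x * e⁻¹ * x⁻¹) * e = ((e⁻¹ * x * e) * (e * x * e⁻¹)⁻¹) * e := by rw [h1]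
      _ = (e * (e * x * e⁻¹ * x⁻¹) * e⁻¹) * e := by rw [e1]
      _ = e * (e * x * e⁻¹ * x⁻¹) := by group
  have hz := H3 _ hzN hfix
  have hxe : x * e = e * x := by
    calc x * e = (e * x * e⁻¹ * x⁻¹)⁻¹ * e * x := by group
      _ = e * x := by rw [hz]; group
  exact H3 x hx hxe

end NoThree

end Cfsg.Agent.Helper66
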