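import Mathlib
import Cfsg.Agent.Lib.Helper62.SLN0

/-!
# SLNC pieces CARD1, CARD2 (S2332, piece TOP-C): counting weights with prescribed zero coordinates.
-/

set_option autoImplicit false
set_option linter.unusedSectionVars false

namespace Cfsg.Agent.Helper66.SLNC

open Matrix Module Cfsg.Agent.Helper93.U2 Cfsg.Agent.Helper62.SLN

section GRP

variable {F : Type*} [Field F] {κ : Type} [Fintype κ] [DecidableEq κ]

/-- the number of vectors vanishing on a given set `S` of coordinates -/
theorem h66_card_vanish [Fintype F] [DecidableEq F] (S : Finset κ) :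
    (Finset.univ.filter (fun w : κ → F => ∀ k ∈ S, w k = 0)).card =
      Fintype.card F ^ (Fintype.card κ - S.card) := by
  have hset : Finset.univ.filter (fun w : κ → F => ∀ k ∈ S, w k = 0) =
      Fintype.piFinset (fun k : κ => if k ∈ S then ({0} : Finset F) else Finset.univ) := by
    ext w
    simp only [Finset.mem_filter, Finset.mem_univ, true_and, Fintype.mem_piFinset]
    constructor
    · intro h k
      by_cases hk : k ∈ S
      · simp [hk, h k hk]
      · simp [hk]
    · intro h k hk
      have := h k
      simpa [hk] using this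
  rw [hset, Fintype.card_piFinset]
  have hterm : ∀ k : κ, (if k ∈ S then ({0} : Finset F) else Finset.univ).card =
      if k ∈ S then 1 else Fintype.card F := by
    intro k
    by_cases hk : k ∈ S
    · simp [hk]
    · simp [hk]
  rw [Finset.prod_congr rfl (fun k _ => hterm k), Finset.prod_ite, Finset.prod_const_one, one_mul,
    Finset.prod_const]
  congr 1
  have h1 : (Finset.univ.filter (fun k : κ => k ∉ S)).card + S.card = Fintype.card κ := by
    have h2 : Finset.univ.filter (fun k : κ => k ∉ S) = Finset.univ \ S := by
      ext k; simp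
    rw [h2, Finset.card_sdiff_add_card_eq_card (Finset.subset_univ S), Finset.card_univ]
  omega

/-- removing the zero vector -/
theorem h66_card_vanish_ne [Fintype F] [DecidableEq F] (S : Finset κ) :
    (Finset.univ.filter (fun w : κ → F => (∀ k ∈ S, w k = 0) ∧ w ≠ 0)).card =
      Fintype.card F ^ (Fintype.card κ - S.card) - 1 := by
  have hset : Finset.univ.filter (fun w : κ → F => (∀ k ∈ S, w k = 0) ∧ w ≠ 0) =
      (Finset.univ.filter (fun w : κ → F => ∀ k ∈ S, w k = 0)).erase 0 := by
    ext w
    simp only [Finset.mem_filter, Finset.mem_univ, true_and, Finset.mem_erase]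
    tauto
  rw [hset, Finset.card_erase_of_mem, h66_card_vanish]
  simp

/-- piece CARD1 [S-M] -/
theorem card_weights_one [Fintype F] [DecidableEq F] (j : κ) :
    (Finset.univ.filter (fun w : κ → F => w j = 0 ∧ w ≠ 0)).card =
      Fintype.card F ^ (Fintype.card κ - 1) - 1 := by
  have h := h66_card_vanish_ne (F := F) ({j} : Finset κ)
  rw [Finset.card_singleton] at h
  rw [← h]
  congr 1
  ext w
  simp

/-- piece CARD2 [S-M] -/
theorem card_weights_two [Fintype F] [DecidableEq F] (j jn : κ) (h : j ≠ jn) :
    (Finset.univ.filter (fun w : κ → F => w j = 0 ∧ w jn = 0 ∧ w ≠ 0)).card =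
      Fintype.card F ^ (Fintype.card κ - 2) - 1 := by
  have h' := h66_card_vanish_ne (F := F) ({j, jn} : Finset κ)
  rw [Finset.card_pair h] at h'
  rw [← h']
  congr 1
  ext w
  simp [and_assoc]

end GRP

end Cfsg.Agent.Helper66.SLNC
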