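import Mathlib
import Cfsg.Agent.Lib.Helper62.SLN0

/-!
# SLNC pieces LIN, UP, THREE (S2332, piece TOP-C)
-/

set_option autoImplicit false
set_option linter.unusedSectionVars false

namespace Cfsg.Agent.Helper66.SLNC

open Matrix Module Cfsg.Agent.Helper93.U2 Cfsg.Agent.Helper62.SLN

section GRP

variable {F : Type*} [Field F] {κ : Type} [Fintype κ] [DecidableEq κ]

/-- piece THREE [S] -/
theorem eq_smul_single_of_card_three (hκ : Fintype.card κ = 3) (j jn i : κ) (h1 : i ≠ j) (h2 : i ≠ jn)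
    (h3 : j ≠ jn) (w : κ → F) (hwj : w j = 0) (hwn : w jn = 0) :
    w = w i • (Pi.single i 1 : κ → F) := by
  have huniv : ∀ k : κ, k = i ∨ k = j ∨ k = jn := by
    intro k
    by_contra hk
    push_neg at hk
    obtain ⟨hki, hkj, hkn⟩ := hk
    have hcard : ({k, i, j, jn} : Finset κ).card = 4 := by
      rw [Finset.card_insert_of_notMem, Finset.card_insert_of_notMem, Finset.card_insert_of_notMem,
        Finset.card_singleton]
      · simpa using h3
      · simp [h1, h2]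
      · simp [hki, hkj, hkn]
    have hle := Finset.card_le_univ ({k, i, j, jn} : Finset κ)
    omega
  ext k
  rcases huniv k with rfl | rfl | rfl
  · simp
  · simp [hwj, Pi.single_apply, Ne.symm h1]
  · simp [hwn, Pi.single_apply, Ne.symm h2]

end GRP

section REPgen

variable {G : Type*} [Group G] {𝓐 : Type*} [AddCommGroup 𝓐] [Fintype 𝓐]
  {V : Type*} [AddCommGroup V] [Module ℂ V] [FiniteDimensional ℂ V]
  (pr : Pairing 𝓐) (el : 𝓐 → G) (ρ : Representation ℂ G V)

omit [Fintype 𝓐] in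
/-- piece LIN [S]: `dim X - dim (X ⊓ W) = dim (X ⊔ W) - dim W ≤ dim Y - dim W`. -/
theorem finrank_le_inf_add (X Y W : Submodule ℂ V) (hXY : X ≤ Y) (hWY : W ≤ Y) :
    finrank ℂ X + finrank ℂ W ≤ finrank ℂ (X ⊓ W : Submodule ℂ V) + finrank ℂ Y := by
  have h1 := Submodule.finrank_sup_add_finrank_inf_eq X W
  have h2 : finrank ℂ (X ⊔ W : Submodule ℂ V) ≤ finrank ℂ Y :=
    Submodule.finrank_mono (sup_le hXY hWY)
  omega

end REPgen

section SLN

variable {F : Type*} [Field F] [Fintype F] [DecidableEq F] {κ : Type} [Fintype κ] [DecidableEq κ]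
  {V : Type*} [AddCommGroup V] [Module ℂ V] [FiniteDimensional ℂ V]
  (ψ : AddChar F ℂ) (pr : Pairing (κ → F)) (hpr : ∀ w u, pr.β w u = ψ (w ⬝ᵥ u))
  (ρ : Representation ℂ (SpecialLinearGroup (Unit ⊕ κ) F) V)

include hpr

omit [DecidableEq F] in
/-- piece UP [M]: the upper bound.  LIN (passed as `hlin`) with `X = fixSp (U₀ ∪ Q)`, `Y = fixSp U₀`, `W = wt 0`
(`wt 0 ≤ fixSp U₀` by `Pairing_zero_left`; `X ⊓ W ≤ fixSp Q ⊓ W`); S7 passed as `hS7`. -/
theorem upper_bound (j : κ)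
    (hlin : ∀ X Y W : Submodule ℂ V, X ≤ Y → W ≤ Y →
      finrank ℂ X + finrank ℂ W ≤ finrank ℂ (X ⊓ W : Submodule ℂ V) + finrank ℂ Y)
    (hS7 : finrank ℂ (fixSp ρ (U0set (F := F) j)) =
      finrank ℂ (wt pr ρ 0) + (Fintype.card F - 1) * 1) :
    finrank ℂ (fixSp ρ (U0set (F := F) j ∪ Qset (F := F) j)) ≤
      finrank ℂ (fixSp ρ (Qset (F := F) j) ⊓ wt pr ρ 0 : Submodule ℂ V) + (Fintype.card F - 1) := by
  have hXY : fixSp ρ (U0set (F := F) j ∪ Qset (F := F) j) ≤ fixSp ρ (U0set (F := F) j) := by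
    intro v hv g hg
    exact hv g (Or.inl hg)
  have hWY : wt pr ρ 0 ≤ fixSp ρ (U0set (F := F) j) := by
    intro v hv g hg
    obtain ⟨u, -, rfl⟩ := hg
    have := hv u
    rw [this, hpr, zero_dotProduct, AddChar.map_zero_eq_one, one_smul]
  have hle : (fixSp ρ (U0set (F := F) j ∪ Qset (F := F) j) ⊓ wt pr ρ 0 : Submodule ℂ V) ≤
      (fixSp ρ (Qset (F := F) j) ⊓ wt pr ρ 0 : Submodule ℂ V) := by
    refine inf_le_inf_right _ ?_
    intro v hv g hg
    exact hv g (Or.inr hg)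
  have h1 := hlin _ _ _ hXY hWY
  have h2 := Submodule.finrank_mono hle
  rw [hS7] at h1
  omega

end SLN

end Cfsg.Agent.Helper66.SLNC
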