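import Mathlib
import Cfsg.Agent.Lib.Helper62.SLN0
import Cfsg.Agent.Lib.Helper81.SLPermChar

/-!
# SLN piece G5 (S2332): `SL κ` is transitive on non-zero vectors.
-/

set_option autoImplicit false
set_option linter.unusedSectionVars false

namespace Cfsg.Agent.Helper66.SLN

open Matrix Module Cfsg.Agent.Helper93.U2 Cfsg.Agent.Helper62.SLN

section GRP

variable {F : Type*} [Field F] {κ : Type} [Fintype κ] [DecidableEq κ]

/-- piece G5 : `SL κ` is transitive on non-zero vectors (`|κ| ≥ 2`);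
see `Cfsg.Agent.Helper81.exists_sl_smul_single` -/
theorem exists_sl_mulVec (hκ : 2 ≤ Fintype.card κ) (w w' : κ → F) (hw : w ≠ 0) (hw' : w' ≠ 0) :
    ∃ A : SpecialLinearGroup κ F, A.1 *ᵥ w = w' := by
  have h1 : 1 < Fintype.card κ := by omega
  obtain ⟨i0, i1, h01⟩ := Fintype.exists_pair_of_one_lt_card h1
  obtain ⟨A, hA⟩ := Cfsg.Agent.Helper81.exists_sl_smul_single i0 i1 h01 w hw
  obtain ⟨B, hB⟩ := Cfsg.Agent.Helper81.exists_sl_smul_single i0 i1 h01 w' hw'
  rw [Cfsg.Agent.Helper81.sl_smul_eq] at hA hB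
  refine ⟨B * A⁻¹, ?_⟩
  have hAA : (A⁻¹ : SpecialLinearGroup κ F).1 * A.1 = 1 := by
    have := congrArg Subtype.val (inv_mul_cancel A)
    exact this
  show ((B : Matrix κ κ F) * ((A⁻¹ : SpecialLinearGroup κ F) : Matrix κ κ F)) *ᵥ w = w'
  rw [← hA, Matrix.mulVec_mulVec, Matrix.mul_assoc]
  have hAA2 : ((A⁻¹ : SpecialLinearGroup κ F) : Matrix κ κ F) * (A : Matrix κ κ F) = 1 := hAA
  rw [hAA2, Matrix.mul_one]
  exact hB

end GRP

end Cfsg.Agent.Helper66.SLN
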