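import Mathlib.GroupTheory.Schreier
import Mathlib.GroupTheory.PGroup
import Mathlib.GroupTheory.Sylow
import Mathlib.GroupTheory.Transfer
import Mathlib.GroupTheory.Rank

set_option autoImplicit false

namespace Cfsg.Agent.Helper66

section AL
variable {A : Type*} [CommGroup A]

/-- the subgroup of elements of order dividing `p` -/
def omegaOne (A : Type*) [CommGroup A] (p : ℕ) : Subgroup A := (powMonoidHom p : A →* A).ker

theorem mem_omegaOne (p : ℕ) (x : A) : x ∈ omegaOne A p ↔ x ^ p = 1 := by
  simp [omegaOne, MonoidHom.mem_ker, powMonoidHom_apply]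

/-- `|Ω₁(A)|` divides `p ^ rank A`. -/
theorem card_omegaOne_dvd [Finite A] (p : ℕ) : Nat.card (omegaOne A p) ∣ p ^ Group.rank A := by
  set f : A →* A := powMonoidHom p with hf
  have h1 : Nat.card (omegaOne A p) = f.range.index := by
    have h2 : Nat.card f.ker * Nat.card f.range = Nat.card A := by
      rw [← Nat.card_congr (QuotientGroup.quotientKerEquivRange f).toEquiv,
        ← Subgroup.index_eq_card, mul_comm]
      exact f.ker.index_mul_card
    have h3 := f.range.index_mul_card
    have hpos : 0 < Nat.card f.range := Nat.card_pos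
    have : Nat.card f.ker * Nat.card f.range = f.range.index * Nat.card f.range := by
      rw [h2, h3]
    exact Nat.eq_of_mul_eq_mul_right hpos this
  rw [h1, Subgroup.index_eq_card]
  have h4 : ∀ b : A ⧸ f.range, b ^ p = 1 := by
    intro b
    induction b using QuotientGroup.induction_on with
    | H a =>
      rw [← QuotientGroup.mk_pow, QuotientGroup.eq_one_iff]
      exact ⟨a, rfl⟩
  have h5 := card_dvd_exponent_pow_rank' (A ⧸ f.range) h4
  have h6 : Group.rank (A ⧸ f.range) ≤ Group.rank A :=
    Group.rank_le_of_surjective (QuotientGroup.mk' f.range) (QuotientGroup.mk'_surjective _)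
  exact h5.trans (pow_dvd_pow p h6)

/-- an automorphism of coprime order fixing `Ω₁` pointwise is trivial -/
theorem eq_one_of_fix_omegaOne (p q : ℕ) (hpq : Nat.Coprime p q) (hA : IsPGroup p A)
    (α : MulAut A) (hα : α ^ q = 1) (hfix : ∀ x ∈ omegaOne A p, α x = x) : α = 1 := by
  have key : ∀ k : ℕ, ∀ x : A, x ^ p ^ k = 1 → α x = x := by
    intro k
    induction k with
    | zero => intro x hx; simp at hx; subst hx; simp
    | succ k ih =>
      intro x hx
      have h1 : α (x ^ p) = x ^ p := by
        apply ih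
        rw [← pow_mul, ← pow_succ']
        exact hx
      obtain ⟨z, hz⟩ : ∃ z, z = α x * x⁻¹ := ⟨_, rfl⟩
      have hz1 : z ^ p = 1 := by
        rw [hz, mul_pow, ← map_pow, h1, inv_pow, mul_inv_cancel]
      have hz2 : α z = z := hfix z ((mem_omegaOne p z).mpr hz1)
      have hαx : α x = z * x := by rw [hz, inv_mul_cancel_right]
      have hpow : ∀ j : ℕ, (α ^ j) x = z ^ j * x := by
        intro j
        induction j with
        | zero => simp
        | succ j ihj =>
          rw [pow_succ', MulAut.mul_apply, ihj, map_mul, map_pow, hz2, hαx, pow_succ, mul_assoc]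
      have h2 := hpow q
      rw [hα, MulAut.one_apply] at h2
      have hzq : z ^ q = 1 := by
        have : z ^ q * x = 1 * x := by rw [one_mul]; exact h2.symm
        exact mul_right_cancel this
      have hz3 : z = 1 := by
        have h3 : orderOf z ∣ p := orderOf_dvd_of_pow_eq_one hz1
        have h4 : orderOf z ∣ q := orderOf_dvd_of_pow_eq_one hzq
        have h5 : orderOf z ∣ Nat.gcd p q := Nat.dvd_gcd h3 h4
        rw [hpq.gcd_eq_one, Nat.dvd_one, orderOf_eq_one_iff] at h5
        exact h5
      rw [hαx, hz3, one_mul]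
  ext x
  obtain ⟨k, hk⟩ := hA x
  rw [MulAut.one_apply]
  exact key k x hk


/-- `Ω₁(A)` as a set acted on by a group of automorphisms -/
def omegaAct (A : Type*) [CommGroup A] (p : ℕ) (Z : Subgroup (MulAut A)) : SubMulAction Z A where
  carrier := omegaOne A p
  smul_mem' β x hx := by
    have hx' : x ^ p = 1 := (mem_omegaOne p x).mp hx
    change (β : MulAut A) x ∈ omegaOne A p
    rw [mem_omegaOne, ← map_pow, hx', map_one]

theorem exists_dvd_pow_sub_one [Finite A] (p q : ℕ) [hp : Fact p.Prime] (hq : q.Prime) (hpq : q ≠ p)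
    (hA : IsPGroup p A) (α : MulAut A) (hα : orderOf α = q) :
    ∃ i, 1 ≤ i ∧ i ≤ Group.rank A ∧ q ∣ p ^ i - 1 := by
  have hcop : Nat.Coprime p q := (Nat.coprime_primes hp.out hq).mpr hpq.symm
  have hαq : α ^ q = 1 := hα ▸ pow_orderOf_eq_one α
  set Z := Subgroup.zpowers α with hZ
  have hZcard : Nat.card Z = q := by rw [Nat.card_zpowers, hα]
  have : Fact q.Prime := ⟨hq⟩
  have hZp : IsPGroup q Z := IsPGroup.of_card (n := 1) (by rw [hZcard, pow_one])
  have hmod := hZp.card_modEq_card_fixedPoints (omegaAct A p Z)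
  -- the fixed subgroup
  set F : Subgroup A := omegaOne A p ⊓ MonoidHom.eqLocus α.toMonoidHom (MonoidHom.id A) with hF
  have hFmem : ∀ x, x ∈ F ↔ x ∈ omegaOne A p ∧ α x = x := by
    intro x
    rw [hF, Subgroup.mem_inf]
    rfl
  have hfixcard : Nat.card (MulAction.fixedPoints Z (omegaAct A p Z)) = Nat.card F := by
    apply Nat.card_congr
    refine ⟨fun x => ⟨x.1.1, ?_⟩, fun y => ⟨⟨y.1, ((hFmem y.1).mp y.2).1⟩, ?_⟩, ?_, ?_⟩
    · rw [hFmem]
      refine ⟨x.1.2, ?_⟩
      have := x.2 ⟨α, Subgroup.mem_zpowers α⟩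
      exact congrArg Subtype.val this
    · rintro ⟨β, hβ⟩
      apply Subtype.ext
      change β y.1 = y.1
      have hy : α y.1 = y.1 := ((hFmem y.1).mp y.2).2
      have hy' : α.symm y.1 = y.1 := by
        conv_lhs => rw [← hy]
        simp
      have hall : ∀ k : ℤ, (α ^ k) y.1 = y.1 := by
        intro k
        induction k using Int.induction_on with
        | zero => simp
        | succ k ih =>
          rw [zpow_add, zpow_one, MulAut.mul_apply, hy, ih]
        | pred k ih =>
          rw [zpow_sub, zpow_one, MulAut.mul_apply, MulAut.inv_apply, hy', ih]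
      obtain ⟨k, rfl⟩ := Subgroup.mem_zpowers_iff.mp hβ
      exact hall k
    · intro x; rfl
    · intro y; rfl
  have hΩcard : Nat.card (omegaAct A p Z) = Nat.card (omegaOne A p) := rfl
  rw [hfixcard, hΩcard] at hmod
  obtain ⟨e, he⟩ := (hA.to_subgroup (omegaOne A p)).exists_card_eq
  obtain ⟨f, hf⟩ := (hA.to_subgroup F).exists_card_eq
  have hFle : F ≤ omegaOne A p := inf_le_left
  have hFne : F ≠ omegaOne A p := by
    intro h
    have : α = 1 := by
      apply eq_one_of_fix_omegaOne p q hcop hA α hαq
      intro x hx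
      rw [← h] at hx
      exact ((hFmem x).mp hx).2
    rw [this, orderOf_one] at hα
    exact hq.one_lt.ne hα
  have hlt : Nat.card F < Nat.card (omegaOne A p) := by
    refine lt_of_le_of_ne (Subgroup.card_le_of_le hFle) ?_
    intro h
    exact hFne (Subgroup.eq_of_le_of_card_ge hFle h.ge)
  rw [he, hf] at hlt hmod
  have hfe : f < e := (Nat.pow_lt_pow_iff_right hp.out.one_lt).mp hlt
  have herank : e ≤ Group.rank A := by
    have := card_omegaOne_dvd (A := A) p
    rw [he] at this
    exact (Nat.pow_dvd_pow_iff_le_right hp.out.one_lt).mp this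
  refine ⟨e - f, by omega, by omega, ?_⟩
  have h1 : q ∣ p ^ e - p ^ f := (Nat.modEq_iff_dvd' (Nat.pow_le_pow_right hp.out.pos hfe.le)).mp hmod.symm
  have h2 : p ^ e - p ^ f = p ^ f * (p ^ (e - f) - 1) := by
    rw [Nat.mul_sub, mul_one, ← pow_add]
    congr 2
    omega
  rw [h2] at h1
  have h3 : Nat.Coprime q (p ^ f) := Nat.Coprime.pow_right f hcop.symm
  exact h3.dvd_of_dvd_mul_left h1

end AL


section GL
open Subgroup
open scoped IsMulCommutative

variable {G : Type*} [Group G] [Finite G]

/-- If an abelian Sylow `p`-subgroup is not central in its normalizer, some prime `q ≠ p`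
dividing `|G|` divides `p ^ i - 1` with `1 ≤ i ≤ rank P`. -/
theorem exists_prime_dvd_of_not_normalizer_le_centralizer (p : ℕ) [hp : Fact p.Prime]
    (P : Sylow p G) (hab : IsMulCommutative (P : Subgroup G))
    (h : ¬ normalizer ((P : Subgroup G) : Set G) ≤ centralizer ((P : Subgroup G) : Set G)) :
    ∃ q : ℕ, q.Prime ∧ q ≠ p ∧ q ∣ Nat.card G ∧
      ∃ i, 1 ≤ i ∧ i ≤ Group.rank (P : Subgroup G) ∧ q ∣ p ^ i - 1 := by
  set φ := (P : Subgroup G).normalizerMonoidHom with hφ
  set r := (centralizer ((P : Subgroup G) : Set G)).relIndex (normalizer ((P : Subgroup G) : Set G))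
    with hr
  have hcard : Nat.card φ.range = r := by
    rw [← Nat.card_congr (QuotientGroup.quotientKerEquivRange φ).toEquiv,
      ← Subgroup.index_eq_card, hφ, normalizerMonoidHom_ker]
    rfl
  have hr1 : r ≠ 1 := by
    intro h1
    exact h (relIndex_eq_one.mp h1)
  obtain ⟨q, hq, hqr⟩ := Nat.exists_prime_and_dvd hr1
  have : Fact q.Prime := ⟨hq⟩
  obtain ⟨β, hβ⟩ := exists_prime_orderOf_dvd_card' q (hcard ▸ hqr)
  have hrN : r ∣ Nat.card (normalizer ((P : Subgroup G) : Set G)) := relIndex_dvd_card _ _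
  have hqG : q ∣ Nat.card G := hqr.trans (hrN.trans (card_subgroup_dvd_card _))
  have hPle : (P : Subgroup G) ≤ centralizer ((P : Subgroup G) : Set G) := le_centralizer _
  have hrP : r ∣ (P : Subgroup G).index :=
    (relIndex_dvd_of_le_left _ hPle).trans (relIndex_dvd_index_of_le le_normalizer)
  have hqp : q ≠ p := by
    rintro rfl
    exact P.not_dvd_index (hqr.trans hrP)
  refine ⟨q, hq, hqp, hqG, ?_⟩
  have hα : orderOf (β : MulAut (P : Subgroup G)) = q := by
    rw [Subgroup.orderOf_coe]; exact hβ
  exact exists_dvd_pow_sub_one p q hq hqp P.isPGroup' (β : MulAut (P : Subgroup G)) hα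

end GL

end Cfsg.Agent.Helper66
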