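import Mathlib

set_option autoImplicit false

namespace Cfsg.Agent.Helper66.BGrp

open scoped commutatorElement

section MinSupp
variable {X : Type*} [Group X] [Finite X] (K : Subgroup X)

omit [Finite X] in
theorem normal_of_commutator_le {L : Subgroup X} (h : commutator X ≤ L) : L.Normal := by
  constructor
  intro l hl g
  have e : g * l * g⁻¹ = ⁅g, l⁆ * l := by rw [commutatorElement_def]; group
  rw [e]
  apply L.mul_mem (h _) hl
  rw [commutator_def]
  exact Subgroup.commutator_mem_commutator (Subgroup.mem_top g) (Subgroup.mem_top l)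

theorem sylow_normal_of_minimal (hab : commutator X ≤ K)
    (hmin : ∀ Y : Subgroup X, Y ⊔ K = ⊤ → Y = ⊤)
    (p : ℕ) [Fact p.Prime] (S : Sylow p X) : (S : Subgroup X).Normal := by
  have hL : (K ⊔ (S : Subgroup X)).Normal := normal_of_commutator_le (hab.trans le_sup_left)
  have h1 := Sylow.normalizer_sup_eq_top' S (le_sup_right : (S : Subgroup X) ≤ K ⊔ S)
  have h2 : Subgroup.normalizer ((S : Subgroup X) : Set X) ⊔ K = ⊤ := by
    rw [eq_top_iff, ← h1]
    exact sup_le le_sup_left (sup_le le_sup_right (le_trans Subgroup.le_normalizer le_sup_left))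
  exact Subgroup.normalizer_eq_top_iff.mp (hmin _ h2)

theorem sylow_eq_bot_of_le (hab : commutator X ≤ K)
    (hmin : ∀ Y : Subgroup X, Y ⊔ K = ⊤ → Y = ⊤)
    (p : ℕ) [Fact p.Prime] (S : Sylow p X) (hSK : (S : Subgroup X) ≤ K) :
    (S : Subgroup X) = ⊥ := by
  have hSn := sylow_normal_of_minimal K hab hmin p S
  obtain ⟨T, hT⟩ := Subgroup.exists_right_complement'_of_coprime (N := (S : Subgroup X))
    S.card_coprime_index
  have h1 : T ⊔ K = ⊤ := by
    rw [eq_top_iff, ← hT.sup_eq_top]
    exact sup_le (hSK.trans le_sup_right) le_sup_left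
  have h2 := hmin T h1
  have h3 := hT.disjoint.eq_bot
  rw [h2, inf_top_eq] at h3
  exact h3

theorem comm_of_sylow_comm (hab : commutator X ≤ K)
    (hmin : ∀ Y : Subgroup X, Y ⊔ K = ⊤ → Y = ⊤)
    (hS : ∀ (p : ℕ) [Fact p.Prime] (S : Sylow p X), ∀ a ∈ (S : Subgroup X),
      ∀ b ∈ (S : Subgroup X), a * b = b * a) : ∀ a b : X, a * b = b * a := by
  have h3 : ∀ (p : ℕ) (_hp : Fact p.Prime) (P : Sylow p X), (↑P : Subgroup X).Normal :=
    fun p _ P => sylow_normal_of_minimal K hab hmin p P
  obtain ⟨e⟩ := ((Group.isNilpotent_of_finite_tfae (G := X)).out 3 4).mp h3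
  intro a b
  have h : e.symm a * e.symm b = e.symm b * e.symm a := by
    funext p
    funext P
    have hp : Fact (p : ℕ).Prime := ⟨Nat.prime_of_mem_primeFactors p.2⟩
    apply Subtype.ext
    simp only [Pi.mul_apply, Subgroup.coe_mul]
    exact hS p P _ (Subtype.property _) _ (Subtype.property _)
  calc a * b = e (e.symm a * e.symm b) := by simp
    _ = e (e.symm b * e.symm a) := by rw [h]
    _ = b * a := by simp

end MinSupp

end Cfsg.Agent.Helper66.BGrp
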