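import Cfsg.Agent.Lib.Helper66.AbelianConjA
import Cfsg.Agent.S3909
import Cfsg.Agent.S0636

set_option autoImplicit false

namespace Cfsg.Agent.Helper66.BGrp

section Cyc
variable {G : Type*} [Group G] [Finite G]

/-- In a B-group with an odd normal subgroup `M` of order divisible by `p`, a `p`-subgroup not
contained in `M` is cyclic. -/
theorem cyclic_of_not_le
    (hB : ∀ A B : Subgroup G, IsMulCommutative ↥A → IsMulCommutative ↥B →
      Nat.card ↥A = Nat.card ↥B → ∃ g : G, B = A.map (MulAut.conj g).toMonoidHom)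
    (M : Subgroup G) [M.Normal] (hM : Odd (Nat.card M)) (p : ℕ) [hp : Fact p.Prime]
    (hpM : p ∣ Nat.card M) (S : Subgroup G) (hS : IsPGroup p S) (hSM : ¬ S ≤ M) :
    IsCyclic S := by
  have hpp : p.Prime := hp.out
  have hp2 : p ≠ 2 := by
    rintro rfl
    exact (Nat.not_even_iff_odd.mpr hM) (even_iff_two_dvd.mpr hpM)
  by_contra hnc
  -- an element of order p in M
  obtain ⟨m, hm⟩ := exists_prime_orderOf_dvd_card' (G := ↥M) p hpM
  have hm' : orderOf (m : G) = p := by rw [Subgroup.orderOf_coe, hm]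
  -- an element of order p^2 in S
  obtain ⟨y, hyS, hyM⟩ := SetLike.not_le_iff_exists.mp hSM
  obtain ⟨k, hk⟩ := (IsPGroup.iff_orderOf.mp hS) ⟨y, hyS⟩
  rw [Subgroup.orderOf_mk] at hk
  have hk2 : 2 ≤ k := by
    by_contra hlt
    have : k = 0 ∨ k = 1 := by omega
    rcases this with rfl | rfl
    · rw [pow_zero, orderOf_eq_one_iff] at hk
      exact hyM (hk ▸ M.one_mem)
    · rw [pow_one] at hk
      exact hyM (Cfsg.Agent.S3909.part_a hB M y ⟨m, m.2, by rw [hm', hk]⟩)
  obtain ⟨z, hzS, hz⟩ : ∃ z ∈ S, orderOf z = p ^ 2 := by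
    refine ⟨y ^ p ^ (k - 2), S.pow_mem hyS _, ?_⟩
    rw [orderOf_pow_of_dvd (pow_ne_zero _ hpp.ne_zero) (by rw [hk]; exact pow_dvd_pow p (by omega)),
      hk, Nat.pow_div (by omega) hpp.pos]
    congr 1
    omega
  -- an elementary abelian subgroup of order p^2 in S
  have hnc' : ¬ IsCyclic (⊤ : Subgroup ↥S) := by
    intro h
    exact hnc (isCyclic_of_surjective (Subgroup.topEquiv : (⊤ : Subgroup ↥S) ≃* ↥S)
      Subgroup.topEquiv.surjective)
  obtain ⟨E, -, -, hEc, hEp, hEcard⟩ := Cfsg.Agent.S0636.main (R := ↥S) hp2 hS ⊤ hnc'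
  have hE'card : Nat.card (E.map S.subtype) = p ^ 2 := by
    rw [Subgroup.card_map_of_injective S.subtype_injective, hEcard]
  have hE'c : IsMulCommutative ↥(E.map S.subtype) := by
    refine ⟨⟨fun a b => ?_⟩⟩
    obtain ⟨a', ha', haa⟩ := a.2
    obtain ⟨b', hb', hbb⟩ := b.2
    apply Subtype.ext
    rw [Subgroup.coe_mul, Subgroup.coe_mul, ← haa, ← hbb, ← map_mul, ← map_mul, hEc a' ha' b' hb']
  obtain ⟨g, hg⟩ := hB (E.map S.subtype) (Subgroup.zpowers z) hE'c
    (Cfsg.Agent.S3909.zpowers_comm z) (by rw [hE'card, Nat.card_zpowers, hz])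
  have hzmem : z ∈ (E.map S.subtype).map (MulAut.conj g).toMonoidHom := by
    rw [← hg]; exact Subgroup.mem_zpowers z
  obtain ⟨e, ⟨e', he', rfl⟩, rfl⟩ := hzmem
  have hzp : ((MulAut.conj g).toMonoidHom (S.subtype e')) ^ p = 1 := by
    rw [← map_pow, ← map_pow, hEp e' he', map_one, map_one]
  have := orderOf_dvd_of_pow_eq_one hzp
  rw [hz] at this
  have h2 : p ^ 2 ≤ p := Nat.le_of_dvd hpp.pos this
  have h3 : p < p ^ 2 := by
    calc p = p ^ 1 := (pow_one p).symm
      _ < p ^ 2 := Nat.pow_lt_pow_right hpp.one_lt (by norm_num)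
  omega


/-- If moreover `p` divides the index of `M`, every `p`-subgroup is cyclic. -/
theorem cyclic_of_dvd_index
    (hB : ∀ A B : Subgroup G, IsMulCommutative ↥A → IsMulCommutative ↥B →
      Nat.card ↥A = Nat.card ↥B → ∃ g : G, B = A.map (MulAut.conj g).toMonoidHom)
    (M : Subgroup G) [M.Normal] (hM : Odd (Nat.card M)) (p : ℕ) [hp : Fact p.Prime]
    (hpM : p ∣ Nat.card M) (hidx : p ∣ M.index) (S : Subgroup G) (hS : IsPGroup p S) :
    IsCyclic S := by
  have hpp : p.Prime := hp.out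
  obtain ⟨P, hSP⟩ := hS.exists_le_sylow
  have hPM : ¬ (P : Subgroup G) ≤ M := by
    intro hle
    have h1 : Nat.card (P : Subgroup G) ∣ Nat.card M := Subgroup.card_dvd_of_le hle
    rw [P.card_eq_multiplicity] at h1
    have h2 : Nat.card G = Nat.card M * M.index := (M.card_mul_index).symm
    have h3 : p ^ ((Nat.card M).factorization p + 1) ∣ Nat.card G := by
      rw [h2, pow_succ]
      exact Nat.mul_dvd_mul (Nat.ordProj_dvd _ _) hidx
    have h4 : p ^ ((Nat.card M).factorization p + 1) ∣ p ^ (Nat.card G).factorization p :=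
      (hpp.pow_dvd_iff_dvd_ordProj Nat.card_pos.ne').mp h3
    have h5 := Nat.pow_dvd_pow_iff_le_right hpp.one_lt |>.mp h4
    have h6 : (Nat.card G).factorization p ≤ (Nat.card M).factorization p :=
      (hpp.pow_dvd_iff_le_factorization Nat.card_pos.ne').mp h1
    omega
  have hPc : IsCyclic (P : Subgroup G) := cyclic_of_not_le hB M hM p hpM P P.2 hPM
  have : IsCyclic (S.subgroupOf (P : Subgroup G)) := Subgroup.isCyclic _
  exact isCyclic_of_surjective (Subgroup.subgroupOfEquivOfLe hSP)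
    (Subgroup.subgroupOfEquivOfLe hSP).surjective

/-- `M` contains an element of order the full `p`-part of `#M`. -/
theorem exists_orderOf_eq_pow_factorization
    (hB : ∀ A B : Subgroup G, IsMulCommutative ↥A → IsMulCommutative ↥B →
      Nat.card ↥A = Nat.card ↥B → ∃ g : G, B = A.map (MulAut.conj g).toMonoidHom)
    (M : Subgroup G) [M.Normal] (hM : Odd (Nat.card M)) (p : ℕ) [hp : Fact p.Prime]
    (hpM : p ∣ Nat.card M) (hidx : p ∣ M.index) :
    ∃ d ∈ M, orderOf d = p ^ (Nat.card M).factorization p := by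
  obtain ⟨Q⟩ : Nonempty (Sylow p ↥M) := inferInstance
  have hQcard : Nat.card ((Q : Subgroup ↥M).map M.subtype) = p ^ (Nat.card M).factorization p := by
    rw [Subgroup.card_map_of_injective M.subtype_injective, Q.card_eq_multiplicity]
  have hQp : IsPGroup p ((Q : Subgroup ↥M).map M.subtype) := IsPGroup.of_card hQcard
  have hc := cyclic_of_dvd_index hB M hM p hpM hidx _ hQp
  obtain ⟨d, hd⟩ := hc.exists_generator
  refine ⟨(d : G), ?_, ?_⟩
  · obtain ⟨d', -, hd'⟩ := d.2
    rw [← hd']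
    exact d'.2
  · rw [Subgroup.orderOf_coe, orderOf_eq_card_of_forall_mem_zpowers hd, hQcard]


/-- A `p`-subgroup `S` not contained in `M` meets `M` in a subgroup of order divisible by the full
`p`-part of `#M`. -/
theorem pow_factorization_dvd_card_inf
    (hB : ∀ A B : Subgroup G, IsMulCommutative ↥A → IsMulCommutative ↥B →
      Nat.card ↥A = Nat.card ↥B → ∃ g : G, B = A.map (MulAut.conj g).toMonoidHom)
    (M : Subgroup G) [M.Normal] (hM : Odd (Nat.card M)) (p : ℕ) [hp : Fact p.Prime]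
    (hpM : p ∣ Nat.card M) (S : Subgroup G) (hS : IsPGroup p S) (hSM : ¬ S ≤ M) :
    p ^ (Nat.card M).factorization p ∣ Nat.card (S ⊓ M : Subgroup G) := by
  have hpp : p.Prime := hp.out
  obtain ⟨y, hyS, hyM⟩ := SetLike.not_le_iff_exists.mp hSM
  -- p divides the index of M
  have hidx : p ∣ M.index := by
    obtain ⟨k, hk⟩ := (IsPGroup.iff_orderOf.mp hS) ⟨y, hyS⟩
    rw [Subgroup.orderOf_mk] at hk
    have hq1 : QuotientGroup.mk' M y ≠ 1 := by
      intro h
      rw [QuotientGroup.mk'_apply, QuotientGroup.eq_one_iff] at h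
      exact hyM h
    have hd : orderOf (QuotientGroup.mk' M y) ∣ p ^ k := hk ▸ orderOf_map_dvd _ y
    obtain ⟨j, -, hj⟩ := (Nat.dvd_prime_pow hpp).mp hd
    have hj0 : j ≠ 0 := by
      intro h0
      rw [h0, pow_zero, orderOf_eq_one_iff] at hj
      exact hq1 hj
    have h1 : p ∣ orderOf (QuotientGroup.mk' M y) := hj ▸ dvd_pow_self p hj0
    have h2 : orderOf (QuotientGroup.mk' M y) ∣ Nat.card (G ⧸ M) := orderOf_dvd_natCard _
    rw [Subgroup.index_eq_card]
    exact h1.trans h2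
  obtain ⟨d, hdM, hd⟩ := exists_orderOf_eq_pow_factorization hB M hM p hpM hidx
  have hc := cyclic_of_not_le hB M hM p hpM S hS hSM
  obtain ⟨c, hcgen⟩ := hc.exists_generator
  obtain ⟨t, ht⟩ := IsPGroup.iff_card.mp hS
  have hc' : orderOf (c : G) = p ^ t := by
    rw [Subgroup.orderOf_coe, orderOf_eq_card_of_forall_mem_zpowers hcgen, ht]
  obtain ⟨m, hm⟩ : ∃ m, m = (Nat.card M).factorization p := ⟨_, rfl⟩
  rw [← hm] at hd ⊢
  have htm : m < t := by
    by_contra hle
    have hle' : t ≤ m := by omega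
    apply hSM
    have hdo : orderOf (d ^ p ^ (m - t)) = orderOf (c : G) := by
      rw [orderOf_pow_of_dvd (pow_ne_zero _ hpp.ne_zero)
        (by rw [hd]; exact pow_dvd_pow p (by omega)), hd, hc',
        Nat.pow_div (by omega) hpp.pos]
      congr 1
      omega
    have hcM : (c : G) ∈ M := Cfsg.Agent.S3909.part_a hB M _ ⟨_, M.pow_mem hdM _, hdo⟩
    intro x hx
    obtain ⟨k, hk⟩ := Subgroup.mem_zpowers_iff.mp (hcgen ⟨x, hx⟩)
    have : x = (c : G) ^ k := by
      have := congrArg Subtype.val hk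
      rw [Subgroup.coe_zpow] at this
      exact this.symm
    rw [this]
    exact M.zpow_mem hcM k
  have heo : orderOf ((c : G) ^ p ^ (t - m)) = p ^ m := by
    rw [orderOf_pow_of_dvd (pow_ne_zero _ hpp.ne_zero)
      (by rw [hc']; exact pow_dvd_pow p (by omega)), hc', Nat.pow_div (by omega) hpp.pos]
    congr 1
    omega
  have heM : (c : G) ^ p ^ (t - m) ∈ M :=
    Cfsg.Agent.S3909.part_a hB M _ ⟨d, hdM, by rw [hd, heo]⟩
  have heS : (c : G) ^ p ^ (t - m) ∈ S := S.pow_mem c.2 _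
  have hle : Subgroup.zpowers ((c : G) ^ p ^ (t - m)) ≤ S ⊓ M := by
    rw [Subgroup.zpowers_le]
    exact ⟨heS, heM⟩
  have := Subgroup.card_dvd_of_le hle
  rwa [Nat.card_zpowers, heo] at this

end Cyc

end Cfsg.Agent.Helper66.BGrp
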