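import Cfsg.Agent.Lib.Helper66.AbelianConjB

set_option autoImplicit false

namespace Cfsg.Agent.Helper66.BGrp

open scoped commutatorElement

section Supp
variable {G : Type*} [Group G]

theorem minsupp_hab (M A X : Subgroup G) (hXA : X ⊔ M = A)
    (hA : ∀ x ∈ A, ∀ y ∈ A, x * y * x⁻¹ * y⁻¹ ∈ M) : commutator ↥X ≤ M.subgroupOf X := by
  rw [commutator_def, Subgroup.commutator_le]
  intro a _ b _
  rw [Subgroup.mem_subgroupOf, commutatorElement_def]
  simp only [Subgroup.coe_mul, Subgroup.coe_inv]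
  have hX : X ≤ A := hXA ▸ le_sup_left
  exact hA _ (hX a.2) _ (hX b.2)

theorem minsupp_hmin (M A X : Subgroup G) (hXA : X ⊔ M = A)
    (hmin : ∀ X' : Subgroup G, X' ≤ X → X' ⊔ M = A → X' = X) :
    ∀ Y : Subgroup ↥X, Y ⊔ M.subgroupOf X = ⊤ → Y = ⊤ := by
  intro Y hY
  have h1 : (Y ⊔ M.subgroupOf X).map X.subtype = Y.map X.subtype ⊔ (M ⊓ X) := by
    rw [Subgroup.map_sup, Subgroup.subgroupOf_map_subtype]
  rw [hY, ← MonoidHom.range_eq_map, Subgroup.range_subtype] at h1
  have h2 : Y.map X.subtype ⊔ M = A := by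
    apply le_antisymm
    · rw [← hXA]
      exact sup_le ((Subgroup.map_subtype_le Y).trans le_sup_left) le_sup_right
    · rw [← hXA]
      apply sup_le _ le_sup_right
      calc X = Y.map X.subtype ⊔ (M ⊓ X) := h1
        _ ≤ Y.map X.subtype ⊔ M := sup_le_sup_left inf_le_left _
  have h3 := hmin _ (Subgroup.map_subtype_le Y) h2
  apply Subgroup.map_injective X.subtype_injective
  rw [h3, ← MonoidHom.range_eq_map, Subgroup.range_subtype]

theorem card_eq_relIndex_mul (M A X : Subgroup G) [M.Normal] (hXA : X ⊔ M = A) :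
    Nat.card X = M.relIndex A * Nat.card (X ⊓ M : Subgroup G) := by
  have h1 : M.relIndex A = M.relIndex X := by rw [← hXA, Subgroup.relIndex_sup_right]
  rw [h1, ← Subgroup.inf_relIndex_right, inf_comm]
  have h2 := Subgroup.relIndex_mul_relIndex ⊥ (X ⊓ M) X bot_le inf_le_left
  rw [Subgroup.relIndex_bot_left, Subgroup.relIndex_bot_left] at h2
  rw [← h2, mul_comm]

end Supp


section Main
variable {G : Type*} [Group G] [Finite G]

omit [Finite G] in
theorem sylow_map_le_iff (M X : Subgroup G) (p : ℕ) (S : Sylow p ↥X) :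
    (S : Subgroup ↥X) ≤ M.subgroupOf X ↔ (S : Subgroup ↥X).map X.subtype ≤ M := by
  constructor
  · rintro h x ⟨s, hs, rfl⟩
    exact Subgroup.mem_subgroupOf.mp (h hs)
  · intro h s hs
    rw [Subgroup.mem_subgroupOf]
    exact h (Subgroup.mem_map_of_mem _ hs)

theorem sylow_ne_bot_of_dvd (X : Subgroup G) (p : ℕ) [hp : Fact p.Prime] (hdvd : p ∣ Nat.card X)
    (S : Sylow p ↥X) : (S : Subgroup ↥X) ≠ ⊥ := by
  intro h
  have h1 := S.card_eq_multiplicity
  rw [h, Subgroup.card_bot] at h1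
  have h2 : 0 < (Nat.card ↥X).factorization p :=
    hp.out.factorization_pos_of_dvd Nat.card_pos.ne' hdvd
  have h3 : 1 < p ^ (Nat.card ↥X).factorization p := Nat.one_lt_pow h2.ne' hp.out.one_lt
  omega

/-- A minimal supplement of `M` in `A` (with `A/M` abelian) is abelian. -/
theorem minsupp_comm
    (hB : ∀ A B : Subgroup G, IsMulCommutative ↥A → IsMulCommutative ↥B →
      Nat.card ↥A = Nat.card ↥B → ∃ g : G, B = A.map (MulAut.conj g).toMonoidHom)
    (M : Subgroup G) [M.Normal] (hM : Odd (Nat.card M)) (A X : Subgroup G) (hXA : X ⊔ M = A)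
    (hA : ∀ x ∈ A, ∀ y ∈ A, x * y * x⁻¹ * y⁻¹ ∈ M)
    (hmin : ∀ X' : Subgroup G, X' ≤ X → X' ⊔ M = A → X' = X) :
    ∀ x ∈ X, ∀ y ∈ X, x * y = y * x := by
  have hab := minsupp_hab M A X hXA hA
  have hmin' := minsupp_hmin M A X hXA hmin
  have hX : X ≤ A := hXA ▸ le_sup_left
  have h := comm_of_sylow_comm (M.subgroupOf X) hab hmin' (by
    intro p _ S a ha b hb
    by_cases hle : (S : Subgroup ↥X) ≤ M.subgroupOf X
    · have hbot := sylow_eq_bot_of_le (M.subgroupOf X) hab hmin' p S hle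
      rw [hbot, Subgroup.mem_bot] at ha hb
      rw [ha, hb]
    · have hS'M : ¬ (S : Subgroup ↥X).map X.subtype ≤ M :=
        fun h => hle ((sylow_map_le_iff M X p S).mpr h)
      have hS'p : IsPGroup p ((S : Subgroup ↥X).map X.subtype) := S.2.map _
      by_cases hpM : p ∣ Nat.card M
      · have hc := cyclic_of_not_le hB M hM p hpM _ hS'p hS'M
        have hcomm := (IsCyclic.isMulCommutative
          (α := ↥((S : Subgroup ↥X).map X.subtype))).is_comm.comm
          ⟨X.subtype a, Subgroup.mem_map_of_mem _ ha⟩ ⟨X.subtype b, Subgroup.mem_map_of_mem _ hb⟩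
        have h1 := congrArg Subtype.val hcomm
        simp only [Subgroup.coe_mul, Subgroup.subtype_apply] at h1
        exact Subtype.ext h1
      · -- the commutator lies in S ⊓ M, of coprime orders
        have hcS : a * b * a⁻¹ * b⁻¹ ∈ (S : Subgroup ↥X) :=
          Subgroup.mul_mem _ (Subgroup.mul_mem _ (Subgroup.mul_mem _ ha hb)
            (Subgroup.inv_mem _ ha)) (Subgroup.inv_mem _ hb)
        have hcM : ((a * b * a⁻¹ * b⁻¹ : ↥X) : G) ∈ M := by
          simp only [Subgroup.coe_mul, Subgroup.coe_inv]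
          exact hA _ (hX a.2) _ (hX b.2)
        obtain ⟨k, hk⟩ := (IsPGroup.iff_orderOf.mp S.2) ⟨_, hcS⟩
        rw [Subgroup.orderOf_mk] at hk
        have hd1 : orderOf ((a * b * a⁻¹ * b⁻¹ : ↥X) : G) ∣ Nat.card M :=
          Subgroup.orderOf_dvd_natCard M hcM
        rw [Subgroup.orderOf_coe, hk] at hd1
        have hk0 : k = 0 := by
          by_contra hk0
          exact hpM ((dvd_pow_self p hk0).trans hd1)
        rw [hk0, pow_zero, orderOf_eq_one_iff] at hk
        calc a * b = (a * b * a⁻¹ * b⁻¹) * b * a := by group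
          _ = b * a := by rw [hk, one_mul])
  intro x hx y hy
  exact congrArg Subtype.val (h ⟨x, hx⟩ ⟨y, hy⟩)


/-- The `p`-part of `#(X ∩ M)` for a minimal supplement `X`. -/
theorem minsupp_factorization
    (hB : ∀ A B : Subgroup G, IsMulCommutative ↥A → IsMulCommutative ↥B →
      Nat.card ↥A = Nat.card ↥B → ∃ g : G, B = A.map (MulAut.conj g).toMonoidHom)
    (M : Subgroup G) [M.Normal] (hM : Odd (Nat.card M)) (A X : Subgroup G) (hXA : X ⊔ M = A)
    (hA : ∀ x ∈ A, ∀ y ∈ A, x * y * x⁻¹ * y⁻¹ ∈ M)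
    (hmin : ∀ X' : Subgroup G, X' ≤ X → X' ⊔ M = A → X' = X) (p : ℕ) [hp : Fact p.Prime] :
    (Nat.card (X ⊓ M : Subgroup G)).factorization p =
      if p ∣ M.relIndex A then (Nat.card M).factorization p else 0 := by
  have hab := minsupp_hab M A X hXA hA
  have hmin' := minsupp_hmin M A X hXA hmin
  have hcard := card_eq_relIndex_mul M A X hXA
  have hdvdM : Nat.card (X ⊓ M : Subgroup G) ∣ Nat.card M := Subgroup.card_dvd_of_le inf_le_right
  have hrelX : M.relIndex A = M.relIndex X := by rw [← hXA, Subgroup.relIndex_sup_right]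
  obtain ⟨S⟩ : Nonempty (Sylow p ↥X) := inferInstance
  split_ifs with hrel
  · by_cases hpM : p ∣ Nat.card M
    · apply le_antisymm
      · exact (Nat.factorization_le_iff_dvd Nat.card_pos.ne' Nat.card_pos.ne').mpr hdvdM p
      · have hpX : p ∣ Nat.card X := by
          rw [hcard]
          exact Dvd.dvd.mul_right hrel _
        have hSne := sylow_ne_bot_of_dvd X p hpX S
        have hS'M : ¬ (S : Subgroup ↥X).map X.subtype ≤ M := fun h =>
          hSne (sylow_eq_bot_of_le _ hab hmin' p S ((sylow_map_le_iff M X p S).mpr h))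
        have h1 := pow_factorization_dvd_card_inf hB M hM p hpM _ (S.2.map _) hS'M
        have h2 : Nat.card ((S : Subgroup ↥X).map X.subtype ⊓ M : Subgroup G) ∣
            Nat.card (X ⊓ M : Subgroup G) :=
          Subgroup.card_dvd_of_le (inf_le_inf_right M (Subgroup.map_subtype_le _))
        exact (hp.out.pow_dvd_iff_le_factorization Nat.card_pos.ne').mp (h1.trans h2)
    · rw [Nat.factorization_eq_zero_of_not_dvd hpM,
        Nat.factorization_eq_zero_of_not_dvd (fun h => hpM (h.trans hdvdM))]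
  · apply Nat.factorization_eq_zero_of_not_dvd
    intro hpK
    have hpX : p ∣ Nat.card X := by
      rw [hcard]
      exact Dvd.dvd.mul_left hpK _
    have hSne := sylow_ne_bot_of_dvd X p hpX S
    apply hSne
    apply sylow_eq_bot_of_le _ hab hmin' p S
    intro s hs
    have hKn : (M.subgroupOf X).Normal := inferInstance
    obtain ⟨k, hk⟩ := (IsPGroup.iff_orderOf.mp S.2) ⟨s, hs⟩
    rw [Subgroup.orderOf_mk] at hk
    have hd1 : orderOf (QuotientGroup.mk' (M.subgroupOf X) s) ∣ p ^ k :=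
      hk ▸ orderOf_map_dvd _ s
    have hd2 : orderOf (QuotientGroup.mk' (M.subgroupOf X) s) ∣ M.relIndex A := by
      rw [hrelX]
      have := orderOf_dvd_natCard (QuotientGroup.mk' (M.subgroupOf X) s)
      rwa [← Subgroup.index_eq_card] at this
    have hcop : Nat.Coprime (p ^ k) (M.relIndex A) :=
      Nat.Coprime.pow_left k ((Nat.Prime.coprime_iff_not_dvd hp.out).mpr hrel)
    have h1 := Nat.eq_one_of_dvd_coprimes hcop hd1 hd2
    rw [orderOf_eq_one_iff, QuotientGroup.mk'_apply, QuotientGroup.eq_one_iff] at h1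
    exact h1


theorem exists_minsupp (M A : Subgroup G) (hMA : M ≤ A) :
    ∃ X : Subgroup G, X ⊔ M = A ∧ ∀ X' : Subgroup G, X' ≤ X → X' ⊔ M = A → X' = X := by
  have hne : ({X : Subgroup G | X ⊔ M = A}).Nonempty := ⟨A, sup_eq_left.mpr hMA⟩
  obtain ⟨X, hX⟩ := (Set.toFinite {X : Subgroup G | X ⊔ M = A}).exists_minimal hne
  refine ⟨X, hX.prop, fun X' hle h => ?_⟩
  exact le_antisymm hle (hX.le_of_le h hle)

omit [Finite G] in
theorem map_conj_eq_of_normal (M : Subgroup G) [hM : M.Normal] (g : G) :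
    M.map (MulAut.conj g).toMonoidHom = M := by
  apply le_antisymm
  · rintro x ⟨m, hm, rfl⟩
    change MulAut.conj g m ∈ M
    rw [MulAut.conj_apply]
    exact hM.conj_mem m hm g
  · intro x hx
    refine ⟨g⁻¹ * x * g, ?_, ?_⟩
    · have := hM.conj_mem x hx g⁻¹
      rwa [inv_inv] at this
    · change MulAut.conj g (g⁻¹ * x * g) = x
      rw [MulAut.conj_apply]
      group

omit [Finite G] in
theorem card_eq_card_mul_relIndex (M A : Subgroup G) (hMA : M ≤ A) :
    Nat.card A = Nat.card M * M.relIndex A := by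
  have h2 := Subgroup.relIndex_mul_relIndex ⊥ M A bot_le hMA
  rw [Subgroup.relIndex_bot_left, Subgroup.relIndex_bot_left] at h2
  exact h2.symm

/-- In a B-group with odd normal subgroup `M`, two subgroups `A, B ≥ M` of the same order with
`A/M`, `B/M` abelian are conjugate. -/
theorem conj_of_abelian_mod
    (hB : ∀ A B : Subgroup G, IsMulCommutative ↥A → IsMulCommutative ↥B →
      Nat.card ↥A = Nat.card ↥B → ∃ g : G, B = A.map (MulAut.conj g).toMonoidHom)
    (M : Subgroup G) [M.Normal] (hM : Odd (Nat.card M)) (A B : Subgroup G)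
    (hMA : M ≤ A) (hMB : M ≤ B)
    (hA : ∀ x ∈ A, ∀ y ∈ A, x * y * x⁻¹ * y⁻¹ ∈ M)
    (hB' : ∀ x ∈ B, ∀ y ∈ B, x * y * x⁻¹ * y⁻¹ ∈ M)
    (hcard : Nat.card A = Nat.card B) :
    ∃ g : G, B = A.map (MulAut.conj g).toMonoidHom := by
  obtain ⟨X, hXA, hXmin⟩ := exists_minsupp M A hMA
  obtain ⟨Y, hYB, hYmin⟩ := exists_minsupp M B hMB
  have hXc : IsMulCommutative ↥X :=
    ⟨⟨fun a b => Subtype.ext (minsupp_comm hB M hM A X hXA hA hXmin a a.2 b b.2)⟩⟩
  have hYc : IsMulCommutative ↥Y :=
    ⟨⟨fun a b => Subtype.ext (minsupp_comm hB M hM B Y hYB hB' hYmin a a.2 b b.2)⟩⟩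
  have hrel : M.relIndex A = M.relIndex B := by
    have h1 := card_eq_card_mul_relIndex M A hMA
    have h2 := card_eq_card_mul_relIndex M B hMB
    rw [hcard, h2] at h1
    exact (Nat.eq_of_mul_eq_mul_left Nat.card_pos h1).symm
  have hK : Nat.card (X ⊓ M : Subgroup G) = Nat.card (Y ⊓ M : Subgroup G) := by
    apply Nat.eq_of_factorization_eq Nat.card_pos.ne' Nat.card_pos.ne'
    intro p
    by_cases hp : p.Prime
    · have := Fact.mk hp
      rw [minsupp_factorization hB M hM A X hXA hA hXmin p,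
        minsupp_factorization hB M hM B Y hYB hB' hYmin p, hrel]
    · rw [Nat.factorization_eq_zero_of_not_prime _ hp, Nat.factorization_eq_zero_of_not_prime _ hp]
  have hXY : Nat.card X = Nat.card Y := by
    rw [card_eq_relIndex_mul M A X hXA, card_eq_relIndex_mul M B Y hYB, hrel, hK]
  obtain ⟨g, hg⟩ := hB X Y hXc hYc hXY
  refine ⟨g, ?_⟩
  rw [← hYB, ← hXA, Subgroup.map_sup, map_conj_eq_of_normal M g, hg]

end Main

end Cfsg.Agent.Helper66.BGrp
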