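import Mathlib
import Cfsg.Agent.Lib.Helper66.AbelianConjC

set_option autoImplicit false

/-!
# B-groups (abelian subgroups of equal order are conjugate): quotient tools

General lemmas used for the statement "quotients of solvable B-groups are B-groups".
-/

namespace Cfsg.Agent.Helper66.BQ

open Cfsg.Agent.Helper66.BGrp

/-- The B-property: abelian subgroups of the same order are conjugate. -/
def BProp (G : Type*) [Group G] : Prop :=
  ∀ A B : Subgroup G, IsMulCommutative ↥A → IsMulCommutative ↥B → Nat.card ↥A = Nat.card ↥B →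
    ∃ g : G, B = A.map (MulAut.conj g).toMonoidHom

theorem isMulComm_iff {G : Type*} [Group G] (A : Subgroup G) :
    IsMulCommutative ↥A ↔ ∀ x ∈ A, ∀ y ∈ A, x * y = y * x := by
  constructor
  · intro h x hx y hy
    have := congrArg Subtype.val (h.is_comm.comm ⟨x, hx⟩ ⟨y, hy⟩)
    simpa using this
  · intro h
    exact ⟨⟨fun a b => Subtype.ext (h a a.2 b b.2)⟩⟩

theorem BProp.of_equiv {G H : Type*} [Group G] [Group H] (e : G ≃* H) (hG : BProp G) :
    BProp H := by
  intro A B hA hB hcard
  have key : ∀ C : Subgroup H, IsMulCommutative ↥C →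
      IsMulCommutative ↥(C.map e.symm.toMonoidHom) := by
    intro C hC
    rw [isMulComm_iff] at hC ⊢
    rintro _ ⟨x, hx, rfl⟩ _ ⟨y, hy, rfl⟩
    change e.symm x * e.symm y = e.symm y * e.symm x
    rw [← map_mul, ← map_mul, hC x hx y hy]
  have hc : Nat.card (A.map e.symm.toMonoidHom) = Nat.card (B.map e.symm.toMonoidHom) := by
    rw [Subgroup.card_map_of_injective (f := e.symm.toMonoidHom) e.symm.injective,
      Subgroup.card_map_of_injective (f := e.symm.toMonoidHom) e.symm.injective, hcard]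
  obtain ⟨g, hg⟩ := hG _ _ (key A hA) (key B hB) hc
  refine ⟨e g, ?_⟩
  have h1 : ∀ C : Subgroup H, (C.map e.symm.toMonoidHom).map e.toMonoidHom = C := by
    intro C
    rw [Subgroup.map_map]
    have : e.toMonoidHom.comp e.symm.toMonoidHom = MonoidHom.id H := by
      ext x; simp
    rw [this, Subgroup.map_id]
  have h2 : e.toMonoidHom.comp (MulAut.conj g).toMonoidHom =
      (MulAut.conj (e g)).toMonoidHom.comp e.toMonoidHom := by
    ext x
    simp [MulAut.conj_apply]
  have h3 : ∀ K : Subgroup G, (K.map (MulAut.conj g).toMonoidHom).map e.toMonoidHom =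
      (K.map e.toMonoidHom).map (MulAut.conj (e g)).toMonoidHom := by
    intro K
    rw [Subgroup.map_map, Subgroup.map_map, h2]
  calc B = (B.map e.symm.toMonoidHom).map e.toMonoidHom := (h1 B).symm
    _ = ((A.map e.symm.toMonoidHom).map (MulAut.conj g).toMonoidHom).map e.toMonoidHom := by
        rw [hg]
    _ = ((A.map e.symm.toMonoidHom).map e.toMonoidHom).map (MulAut.conj (e g)).toMonoidHom :=
        h3 _
    _ = A.map (MulAut.conj (e g)).toMonoidHom := by rw [h1 A]

section Quot

variable {G : Type*} [Group G] [Finite G]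

/-- Reduction: if subgroups over `M` that are abelian mod `M` and of equal order are conjugate,
then `G ⧸ M` has the B-property. -/
theorem quot_of_conj_mod (M : Subgroup G) [M.Normal]
    (h : ∀ A B : Subgroup G, M ≤ A → M ≤ B →
      (∀ x ∈ A, ∀ y ∈ A, x * y * x⁻¹ * y⁻¹ ∈ M) → (∀ x ∈ B, ∀ y ∈ B, x * y * x⁻¹ * y⁻¹ ∈ M) →
      Nat.card A = Nat.card B → ∃ g : G, B = A.map (MulAut.conj g).toMonoidHom) :
    BProp (G ⧸ M) := by
  intro A B hA hB' hcard
  have hsurj : Function.Surjective (QuotientGroup.mk' M) := QuotientGroup.mk'_surjective M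
  have hle : ∀ C : Subgroup (G ⧸ M), M ≤ C.comap (QuotientGroup.mk' M) := by
    intro C m hm
    rw [Subgroup.mem_comap]
    have : QuotientGroup.mk' M m = 1 := by
      rw [QuotientGroup.mk'_apply, QuotientGroup.eq_one_iff]
      exact hm
    rw [this]
    exact C.one_mem
  have hcomm : ∀ C : Subgroup (G ⧸ M), IsMulCommutative ↥C →
      ∀ x ∈ C.comap (QuotientGroup.mk' M), ∀ y ∈ C.comap (QuotientGroup.mk' M),
        x * y * x⁻¹ * y⁻¹ ∈ M := by
    intro C hC x hx y hy
    rw [Subgroup.mem_comap] at hx hy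
    have h1 := congrArg Subtype.val (hC.is_comm.comm ⟨_, hx⟩ ⟨_, hy⟩)
    simp only [Subgroup.coe_mul] at h1
    rw [← QuotientGroup.eq_one_iff, ← QuotientGroup.mk'_apply, map_mul, map_mul, map_mul, map_inv,
      map_inv, h1]
    group
  have hidx : ∀ C : Subgroup (G ⧸ M),
      Nat.card (C.comap (QuotientGroup.mk' M)) * C.index = Nat.card G := by
    intro C
    rw [← Subgroup.index_comap_of_surjective C hsurj]
    exact Subgroup.card_mul_index _
  have hAB : A.index = B.index := by
    have h1 := A.card_mul_index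
    have h2 := B.card_mul_index
    rw [hcard, ← h2] at h1
    exact Nat.eq_of_mul_eq_mul_left Nat.card_pos h1
  have hcard' : Nat.card (A.comap (QuotientGroup.mk' M)) =
      Nat.card (B.comap (QuotientGroup.mk' M)) := by
    have h1 := hidx A
    have h2 := hidx B
    rw [hAB, ← h2] at h1
    have hpos : 0 < B.index := Nat.pos_of_ne_zero (Subgroup.index_ne_zero_of_finite)
    exact Nat.eq_of_mul_eq_mul_right hpos h1
  obtain ⟨g, hg⟩ := h _ _ (hle A) (hle B) (hcomm A hA) (hcomm B hB') hcard'
  refine ⟨QuotientGroup.mk' M g, ?_⟩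
  have hhom : (QuotientGroup.mk' M).comp (MulAut.conj g).toMonoidHom =
      (MulAut.conj (QuotientGroup.mk' M g)).toMonoidHom.comp (QuotientGroup.mk' M) := by
    ext x
    simp [MulAut.conj_apply]
  calc B = (B.comap (QuotientGroup.mk' M)).map (QuotientGroup.mk' M) :=
        (Subgroup.map_comap_eq_self_of_surjective hsurj B).symm
    _ = ((A.comap (QuotientGroup.mk' M)).map (MulAut.conj g).toMonoidHom).map
          (QuotientGroup.mk' M) := by rw [hg]
    _ = ((A.comap (QuotientGroup.mk' M)).map (QuotientGroup.mk' M)).map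
          (MulAut.conj (QuotientGroup.mk' M g)).toMonoidHom := by
        rw [Subgroup.map_map, Subgroup.map_map, hhom]
    _ = A.map (MulAut.conj (QuotientGroup.mk' M g)).toMonoidHom := by
        rw [Subgroup.map_comap_eq_self_of_surjective hsurj A]

omit [Finite G] in
/-- A complement (inside `A`) to a normal subgroup `M ≤ A` of order coprime to its index in `A`. -/
theorem exists_compl_in (M A : Subgroup G) [M.Normal] (hMA : M ≤ A)
    (hcop : (Nat.card M).Coprime (M.relIndex A)) :
    ∃ X : Subgroup G, X ≤ A ∧ X ⊔ M = A ∧ X ⊓ M = ⊥ ∧ Nat.card X = M.relIndex A := by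
  have hcard : Nat.card (M.subgroupOf A) = Nat.card M :=
    Nat.card_congr (Subgroup.subgroupOfEquivOfLe hMA).toEquiv
  have hcop' : (Nat.card (M.subgroupOf A)).Coprime (M.subgroupOf A).index := by
    rw [hcard]; exact hcop
  obtain ⟨T, hT⟩ := Subgroup.exists_right_complement'_of_coprime hcop'
  refine ⟨T.map A.subtype, Subgroup.map_subtype_le T, ?_, ?_, ?_⟩
  · have h1 := hT.sup_eq_top
    have h2 : (M.subgroupOf A ⊔ T).map A.subtype = (M ⊓ A) ⊔ T.map A.subtype := by
      rw [Subgroup.map_sup, Subgroup.subgroupOf_map_subtype]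
    rw [h1, ← MonoidHom.range_eq_map, Subgroup.range_subtype, inf_eq_left.mpr hMA] at h2
    rw [sup_comm, ← h2]
  · rw [eq_bot_iff]
    rintro x ⟨⟨t, ht, rfl⟩, hxM⟩
    have h3 : t ∈ M.subgroupOf A ⊓ T := ⟨Subgroup.mem_subgroupOf.mpr hxM, ht⟩
    rw [hT.disjoint.eq_bot, Subgroup.mem_bot] at h3
    rw [Subgroup.mem_bot, h3]
    rfl
  · rw [Subgroup.card_map_of_injective A.subtype_injective]
    have := hT.symm.index_eq_card
    rw [← this]
    rfl

/-- Coprime (Hall) case of the conjugacy statement modulo `M`. -/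
theorem conj_mod_of_coprime (hB : BProp G) (M : Subgroup G) [M.Normal]
    (hcop : (Nat.card M).Coprime M.index) (A B : Subgroup G) (hMA : M ≤ A) (hMB : M ≤ B)
    (hA : ∀ x ∈ A, ∀ y ∈ A, x * y * x⁻¹ * y⁻¹ ∈ M)
    (hB' : ∀ x ∈ B, ∀ y ∈ B, x * y * x⁻¹ * y⁻¹ ∈ M)
    (hcard : Nat.card A = Nat.card B) :
    ∃ g : G, B = A.map (MulAut.conj g).toMonoidHom := by
  have hcopA : (Nat.card M).Coprime (M.relIndex A) :=
    Nat.Coprime.coprime_dvd_right (Subgroup.relIndex_dvd_index_of_normal M A) hcop
  have hcopB : (Nat.card M).Coprime (M.relIndex B) :=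
    Nat.Coprime.coprime_dvd_right (Subgroup.relIndex_dvd_index_of_normal M B) hcop
  obtain ⟨X, hXA, hXs, hXi, hXc⟩ := exists_compl_in M A hMA hcopA
  obtain ⟨Y, hYB, hYs, hYi, hYc⟩ := exists_compl_in M B hMB hcopB
  have hab : ∀ (C Z : Subgroup G), Z ≤ C → Z ⊓ M = ⊥ →
      (∀ x ∈ C, ∀ y ∈ C, x * y * x⁻¹ * y⁻¹ ∈ M) → IsMulCommutative ↥Z := by
    intro C Z hZC hZi hC
    rw [isMulComm_iff]
    intro x hx y hy
    have h1 : x * y * x⁻¹ * y⁻¹ ∈ Z ⊓ M :=
      ⟨Z.mul_mem (Z.mul_mem (Z.mul_mem hx hy) (Z.inv_mem hx)) (Z.inv_mem hy),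
        hC x (hZC hx) y (hZC hy)⟩
    rw [hZi, Subgroup.mem_bot] at h1
    calc x * y = (x * y * x⁻¹ * y⁻¹) * (y * x) := by group
      _ = y * x := by rw [h1, one_mul]
  have hrel : M.relIndex A = M.relIndex B := by
    have h1 := card_eq_card_mul_relIndex M A hMA
    have h2 := card_eq_card_mul_relIndex M B hMB
    rw [hcard, h2] at h1
    exact (Nat.eq_of_mul_eq_mul_left Nat.card_pos h1).symm
  obtain ⟨g, hg⟩ := hB X Y (hab A X hXA hXi hA) (hab B Y hYB hYi hB') (by rw [hXc, hYc, hrel])
  refine ⟨g, ?_⟩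
  rw [← hYs, ← hXs, Subgroup.map_sup, map_conj_eq_of_normal M g, hg]

theorem bprop_quot_of_coprime (hB : BProp G) (M : Subgroup G) [M.Normal]
    (hcop : (Nat.card M).Coprime M.index) : BProp (G ⧸ M) :=
  quot_of_conj_mod M (fun A B hMA hMB hA hB' hcard =>
    conj_mod_of_coprime hB M hcop A B hMA hMB hA hB' hcard)

end Quot

section CardTwo

variable {G : Type*} [Group G]

/-- A normal subgroup of order two is central. -/
theorem central_of_card_two (M : Subgroup G) [hMn : M.Normal] (hM2 : Nat.card M = 2)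
    (m : G) (hm : m ∈ M) (g : G) : g * m * g⁻¹ = m := by
  obtain ⟨x, y, hxy, huniv⟩ := Nat.card_eq_two_iff.mp hM2
  have hmem : ∀ w : M, w = x ∨ w = y := by
    intro w
    have : w ∈ ({x, y} : Set M) := by rw [huniv]; trivial
    simpa using this
  by_cases h1 : m = 1
  · subst h1; simp
  · have hc : g * m * g⁻¹ ∈ M := hMn.conj_mem m hm g
    have hc1 : g * m * g⁻¹ ≠ 1 := by
      intro h
      apply h1
      have : m = g⁻¹ * (g * m * g⁻¹) * g := by group
      rw [this, h]; group
    -- both `m` and its conjugate are the non-identity element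
    have hone : (1 : M) = x ∨ (1 : M) = y := hmem 1
    have hm' := hmem ⟨m, hm⟩
    have hc' := hmem ⟨g * m * g⁻¹, hc⟩
    have hmne : (⟨m, hm⟩ : M) ≠ 1 := fun h => h1 (congrArg Subtype.val h)
    have hcne : (⟨g * m * g⁻¹, hc⟩ : M) ≠ 1 := fun h => hc1 (congrArg Subtype.val h)
    rcases hone with ho | ho
    · have e1 : (⟨m, hm⟩ : M) = y := by
        rcases hm' with h | h
        · exact absurd (h.trans ho.symm) hmne
        · exact h
      have e2 : (⟨g * m * g⁻¹, hc⟩ : M) = y := by
        rcases hc' with h | h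
        · exact absurd (h.trans ho.symm) hcne
        · exact h
      exact congrArg Subtype.val (e2.trans e1.symm)
    · have e1 : (⟨m, hm⟩ : M) = x := by
        rcases hm' with h | h
        · exact h
        · exact absurd (h.trans ho.symm) hmne
      have e2 : (⟨g * m * g⁻¹, hc⟩ : M) = x := by
        rcases hc' with h | h
        · exact h
        · exact absurd (h.trans ho.symm) hcne
      exact congrArg Subtype.val (e2.trans e1.symm)

theorem sq_eq_one_of_card_two (M : Subgroup G) (hM2 : Nat.card M = 2) (m : G) (hm : m ∈ M) :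
    m ^ 2 = 1 := by
  have h := pow_card_eq_one' (G := M) (x := ⟨m, hm⟩)
  rw [hM2] at h
  exact congrArg Subtype.val h

/-- If `[x, y]` lies in a central subgroup of order two and `y` has odd order, then `x, y`
commute. -/
theorem comm_of_odd (M : Subgroup G) [M.Normal] (hM2 : Nat.card M = 2) (x y : G)
    (hc : x * y * x⁻¹ * y⁻¹ ∈ M) (k : ℕ) (hk : Odd k) (hy : y ^ k = 1) : x * y = y * x := by
  set c := x * y * x⁻¹ * y⁻¹ with hcdef
  have hcy : Commute c y := by
    have := central_of_card_two M hM2 c hc y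
    -- y * c * y⁻¹ = c
    have h2 : y * c = c * y := by
      calc y * c = (y * c * y⁻¹) * y := by group
        _ = c * y := by rw [this]
    exact h2.symm
  have e1 : x * y * x⁻¹ = c * y := by rw [hcdef]; group
  have e2 : (x * y * x⁻¹) ^ k = 1 := by rw [conj_pow, hy]; group
  rw [e1, hcy.mul_pow, hy, mul_one] at e2
  have e3 : c ^ 2 = 1 := sq_eq_one_of_card_two M hM2 c hc
  have e4 : c = 1 := by
    obtain ⟨j, rfl⟩ := hk
    rw [pow_succ, pow_mul, e3, one_pow, one_mul] at e2
    exact e2
  calc x * y = c * (y * x) := by rw [hcdef]; group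
    _ = y * x := by rw [e4, one_mul]

end CardTwo

end Cfsg.Agent.Helper66.BQ
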