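import Mathlib
import Cfsg.Agent.Lib.Helper66.BQuotA
import Cfsg.Agent.Lib.Helper9.PrimitiveSolvable
import Cfsg.Agent.S3909
import Cfsg.Agent.S3911

set_option autoImplicit false
set_option linter.style.haveILetI false

/-!
# Solvable B-groups have no generalized quaternion Sylow 2-subgroup of order ≥ 16
(when there is a normal subgroup of order two).
-/

namespace Cfsg.Agent.Helper66.BQ

universe u

section Basic

variable {G : Type*} [Group G]

/-- existence of a minimal normal subgroup. -/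
theorem exists_minNormal' [Finite G] [Nontrivial G] :
    ∃ N : Subgroup G, N.Normal ∧ N ≠ ⊥ ∧ ∀ K : Subgroup G, K.Normal → K ≤ N → K = ⊥ ∨ K = N := by
  have hne : {N : Subgroup G | N.Normal ∧ N ≠ ⊥}.Nonempty := ⟨⊤, inferInstance, top_ne_bot⟩
  obtain ⟨N, hN, hmin⟩ := wellFounded_lt.has_min _ hne
  refine ⟨N, hN.1, hN.2, fun K hKn hKN => ?_⟩
  by_cases hK : K = ⊥
  · exact Or.inl hK
  · right
    rcases eq_or_lt_of_le hKN with h | h
    · exact h
    · exact absurd h (hmin K ⟨hKn, hK⟩)

/-- In a B-group with a normal subgroup `M` of order two, every involution lies in `M`. -/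
theorem involution_mem (hB : BProp G) (M : Subgroup G) [hMn : M.Normal] (hM2 : Nat.card M = 2)
    (x : G) (hx : orderOf x = 2) : x ∈ M := by
  haveI : Fact (Nat.Prime 2) := ⟨Nat.prime_two⟩
  haveI hMc : IsCyclic M := isCyclic_of_prime_card hM2
  have hMcomm : IsMulCommutative ↥M := by
    rw [isMulComm_iff]
    intro a ha b hb
    have := congrArg Subtype.val (IsCyclic.commGroup.mul_comm (⟨a, ha⟩ : M) ⟨b, hb⟩)
    simpa using this
  have hZcomm : IsMulCommutative ↥(Subgroup.zpowers x) := by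
    rw [isMulComm_iff]
    intro a ha b hb
    obtain ⟨i, rfl⟩ := Subgroup.mem_zpowers_iff.mp ha
    obtain ⟨j, rfl⟩ := Subgroup.mem_zpowers_iff.mp hb
    exact (Commute.zpow_zpow_self x i j).eq
  obtain ⟨g, hg⟩ := hB (Subgroup.zpowers x) M hZcomm hMcomm (by rw [Nat.card_zpowers, hx, hM2])
  have h1 : g * x * g⁻¹ ∈ M := by
    rw [hg]
    exact ⟨x, Subgroup.mem_zpowers x, by simp [MulAut.conj_apply]⟩
  have h2 := hMn.conj_mem _ h1 g⁻¹
  have h3 : g⁻¹ * (g * x * g⁻¹) * g⁻¹⁻¹ = x := by group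
  rw [h3] at h2
  exact h2

/-- If `H ⊓ K = ⊥` then `H` maps isomorphically into `G ⧸ K`. -/
noncomputable def mapEquivOfDisjoint (H K : Subgroup G) [K.Normal] (h : H ⊓ K = ⊥) :
    H ≃* H.map (QuotientGroup.mk' K) := by
  have hinj : Function.Injective ((QuotientGroup.mk' K).comp H.subtype) := by
    rw [injective_iff_map_eq_one]
    intro x hx
    rw [MonoidHom.comp_apply, QuotientGroup.mk'_apply, QuotientGroup.eq_one_iff] at hx
    have h1 : (x : G) ∈ H ⊓ K := ⟨x.2, hx⟩
    rw [h, Subgroup.mem_bot] at h1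
    exact Subtype.ext h1
  have hr : ((QuotientGroup.mk' K).comp H.subtype).range = H.map (QuotientGroup.mk' K) := by
    rw [MonoidHom.range_comp, Subgroup.range_subtype]
  exact (MonoidHom.ofInjective hinj).trans (MulEquiv.subgroupCongr hr)

/-- The odd-order normal subgroup obtained from a normal subgroup `N ≥ M` with `N/M` an abelian
`r`-group, `r` odd. -/
theorem exists_odd_normal [Finite G] (M : Subgroup G) [M.Normal] (hM2 : Nat.card M = 2)
    (N : Subgroup G) [hNn : N.Normal]
    (hN : ∀ x ∈ N, ∀ y ∈ N, x * y * x⁻¹ * y⁻¹ ∈ M) (r d : ℕ) (hr : r.Prime) (hr2 : r ≠ 2)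
    (hd : 0 < d) (hcard : Nat.card N = 2 * r ^ d) :
    ∃ K : Subgroup G, K.Normal ∧ Odd (Nat.card K) ∧ K ≠ ⊥ := by
  have hrodd : Odd r := hr.odd_of_ne_two hr2
  have hmodd : Odd (r ^ d) := hrodd.pow
  let K : Subgroup G :=
    { carrier := {x | x ∈ N ∧ x ^ (r ^ d) = 1}
      one_mem' := ⟨N.one_mem, one_pow _⟩
      mul_mem' := by
        rintro a b ⟨ha, ha'⟩ ⟨hb, hb'⟩
        refine ⟨N.mul_mem ha hb, ?_⟩
        have hc : a * b = b * a := comm_of_odd M hM2 a b (hN a ha b hb) _ hmodd hb'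
        rw [(show Commute a b from hc).mul_pow, ha', hb', one_mul]
      inv_mem' := by
        rintro a ⟨ha, ha'⟩
        exact ⟨N.inv_mem ha, by rw [inv_pow, ha', inv_one]⟩ }
  have hKmem : ∀ x, x ∈ K ↔ x ∈ N ∧ x ^ (r ^ d) = 1 := fun x => Iff.rfl
  refine ⟨K, ?_, ?_, ?_⟩
  · constructor
    intro x hx g
    rw [hKmem] at hx ⊢
    exact ⟨hNn.conj_mem x hx.1 g, by rw [conj_pow, hx.2]; group⟩
  · haveI : Fact r.Prime := ⟨hr⟩
    have hp : IsPGroup r K := by
      intro x
      refine ⟨d, ?_⟩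
      have := ((hKmem x).mp x.2).2
      exact Subtype.ext (by simpa using this)
    obtain ⟨j, hj⟩ := hp.exists_card_eq
    rw [hj]
    exact hrodd.pow
  · haveI : Fact r.Prime := ⟨hr⟩
    have hdvd : r ∣ Nat.card N := by
      rw [hcard]
      exact Dvd.dvd.mul_left (dvd_pow_self r hd.ne') 2
    obtain ⟨x, hx⟩ := exists_prime_orderOf_dvd_card' r hdvd
    intro hbot
    have hxK : (x : G) ∈ K := by
      rw [hKmem]
      refine ⟨x.2, ?_⟩
      have h1 : x ^ r = 1 := by rw [← hx]; exact pow_orderOf_eq_one x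
      have h2 : (x : G) ^ r = 1 := by
        have := congrArg Subtype.val h1
        simpa using this
      obtain ⟨c, hc⟩ := dvd_pow_self r hd.ne'
      rw [hc, pow_mul, h2, one_pow]
    rw [hbot, Subgroup.mem_bot] at hxK
    have hx1 : x = 1 := Subtype.ext hxK
    rw [hx1, orderOf_one] at hx
    exact hr.one_lt.ne hx

end Basic

section Core

variable {G : Type u} [Group G] [Finite G]

open QuaternionGroup in
/-- The core case: no nontrivial normal subgroups of odd order. -/
theorem no_quat_core [Group.IsSolvable G] (hB : BProp G)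
    (M : Subgroup G) [hMn : M.Normal] (hM2 : Nat.card M = 2) (P : Sylow 2 G) (k : ℕ) (hk : 2 ≤ k)
    (e : ↥(P : Subgroup G) ≃* QuaternionGroup (2 ^ k))
    (hodd : ∀ K : Subgroup G, K.Normal → Odd (Nat.card K) → K = ⊥) : False := by
  classical
  obtain ⟨k', rfl⟩ : ∃ k', k = k' + 2 := ⟨k - 2, by omega⟩
  set n := 2 ^ (k' + 2) with hn
  have hn4 : n = 4 * 2 ^ k' := by rw [hn, pow_add]; ring
  have hnpos : 0 < n := by rw [hn]; positivity
  haveI : NeZero n := ⟨hnpos.ne'⟩
  have hPcard : Nat.card (P : Subgroup G) = 4 * n := by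
    rw [Nat.card_congr e.toEquiv, Nat.card_eq_fintype_card, QuaternionGroup.card]
  have hGcard : 4 * n ≤ Nat.card G := by
    rw [← hPcard]
    exact Nat.le_of_dvd Nat.card_pos (Subgroup.card_subgroup_dvd_card _)
  -- `G ⧸ M` is nontrivial
  have hidx : 2 * M.index = Nat.card G := by
    rw [← hM2]; exact M.card_mul_index
  haveI hGM : Nontrivial (G ⧸ M) := by
    rw [← Finite.one_lt_card_iff_nontrivial]
    change 1 < M.index
    have : 16 ≤ 4 * n := by rw [hn4]; have : 1 ≤ 2 ^ k' := Nat.one_le_two_pow; omega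
    omega
  obtain ⟨Nb, hNbn, hNb1, hNbmin⟩ := exists_minNormal' (G := G ⧸ M)
  haveI := hNbn
  obtain ⟨r, d, hr, hd, hNbcard⟩ := Cfsg.Agent.Helper9.minNormal_card Nb hNb1 hNbmin
  have hNbcomm := Cfsg.Agent.Helper9.minNormal_comm Nb hNb1 hNbmin
  set N := Nb.comap (QuotientGroup.mk' M) with hNdef
  haveI hNn : N.Normal := hNbn.comap _
  have hsurj : Function.Surjective (QuotientGroup.mk' M) := QuotientGroup.mk'_surjective M
  have hMN : M ≤ N := by
    intro m hm
    rw [hNdef, Subgroup.mem_comap]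
    have : QuotientGroup.mk' M m = 1 := by
      rw [QuotientGroup.mk'_apply, QuotientGroup.eq_one_iff]; exact hm
    rw [this]; exact Nb.one_mem
  have hNcomm : ∀ x ∈ N, ∀ y ∈ N, x * y * x⁻¹ * y⁻¹ ∈ M := by
    intro x hx y hy
    rw [hNdef, Subgroup.mem_comap] at hx hy
    have h1 := hNbcomm _ hx _ hy
    rw [← QuotientGroup.eq_one_iff, ← QuotientGroup.mk'_apply, map_mul, map_mul, map_mul, map_inv,
      map_inv, h1]
    group
  have hNcard : Nat.card N = 2 * r ^ d := by
    have h1 : N.index = Nb.index := Subgroup.index_comap_of_surjective Nb hsurj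
    have h2 := N.card_mul_index
    have h3 := Nb.card_mul_index
    have h4 : Nat.card (G ⧸ M) = M.index := rfl
    rw [h1] at h2
    rw [h4, hNbcard] at h3
    have hpos : 0 < Nb.index := Nat.pos_of_ne_zero (Subgroup.index_ne_zero_of_finite)
    have : Nat.card N * Nb.index = 2 * r ^ d * Nb.index := by
      rw [h2, ← hidx, ← h3]; ring
    exact Nat.eq_of_mul_eq_mul_right hpos this
  by_cases hr2 : r = 2
  swap
  · obtain ⟨K, hKn, hKodd, hK1⟩ := exists_odd_normal M hM2 N hNcomm r d hr hr2 hd hNcard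
    exact hK1 (hodd K hKn hKodd)
  subst hr2
  -- `N` is a normal 2-subgroup of order ≥ 4
  have hNcard' : Nat.card N = 2 ^ (d + 1) := by rw [hNcard, pow_succ]; ring
  have hN2 : IsPGroup 2 N := IsPGroup.of_card hNcard'
  have hN4 : 4 ≤ Nat.card N := by
    rw [hNcard']
    calc 4 = 2 ^ 2 := rfl
      _ ≤ 2 ^ (d + 1) := Nat.pow_le_pow_right (by norm_num) (by omega)
  -- an element of order 4 in `N`
  have hex4 : ∃ y ∈ N, orderOf y = 4 := by
    have hnot : ¬ N ≤ M := by
      intro hle
      have := Subgroup.card_le_of_le hle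
      omega
    obtain ⟨y, hyN, hyM⟩ := SetLike.not_le_iff_exists.mp hnot
    obtain ⟨j, hj⟩ := (IsPGroup.iff_orderOf.mp hN2) ⟨y, hyN⟩
    rw [← Subgroup.orderOf_coe] at hj
    change orderOf y = 2 ^ j at hj
    have hj2 : 2 ≤ j := by
      by_contra hlt
      have hj01 : j = 0 ∨ j = 1 := by omega
      rcases hj01 with rfl | rfl
      · rw [pow_zero, orderOf_eq_one_iff] at hj
        exact hyM (hj ▸ M.one_mem)
      · rw [pow_one] at hj
        exact hyM (involution_mem hB M hM2 y hj)
    refine ⟨y ^ 2 ^ (j - 2), N.pow_mem hyN _, ?_⟩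
    have hdvd : 2 ^ (j - 2) ∣ orderOf y := by
      rw [hj]; exact pow_dvd_pow 2 (by omega)
    rw [orderOf_pow_of_dvd (by positivity) hdvd, hj]
    have : 2 ^ j = 4 * 2 ^ (j - 2) := by
      have : j = (j - 2) + 2 := by omega
      conv_lhs => rw [this, pow_add]
      ring
    rw [this, Nat.mul_div_cancel _ (by positivity)]
  obtain ⟨y4, hy4N, hy4⟩ := hex4
  have hall4 : ∀ a : G, orderOf a = 4 → a ∈ N :=
    fun a ha => (Cfsg.Agent.S3909.result hB N).1 a ⟨y4, hy4N, by rw [hy4, ha]⟩
  -- orders of the quaternion elements inside `G`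
  have hord : ∀ q : QuaternionGroup n, orderOf ((e.symm q : (P : Subgroup G)) : G) = orderOf q := by
    intro q
    rw [Subgroup.orderOf_coe, MulEquiv.orderOf_eq]
  have hxa : ∀ i : ZMod (2 * n), ((e.symm (xa i) : (P : Subgroup G)) : G) ∈ N := by
    intro i
    apply hall4
    rw [hord, QuaternionGroup.orderOf_xa]
  set a1 : G := ((e.symm (a 1) : (P : Subgroup G)) : G) with ha1
  have ha1N : a1 ∈ N := by
    have h1 : (a 1 : QuaternionGroup n) = xa 0 * xa ((n : ZMod (2 * n)) + 1) := by
      rw [QuaternionGroup.xa_mul_xa]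
      congr 1
      have : ((2 * n : ℕ) : ZMod (2 * n)) = 0 := ZMod.natCast_self _
      push_cast at this
      linear_combination -this
    rw [ha1, h1, map_mul, Subgroup.coe_mul]
    exact N.mul_mem (hxa _) (hxa _)
  have hapow : ∀ i : ZMod (2 * n), ((e.symm (a i) : (P : Subgroup G)) : G) = a1 ^ (ZMod.val i) := by
    intro i
    have h1 : (a i : QuaternionGroup n) = (a 1) ^ (ZMod.val i) := by
      rw [QuaternionGroup.a_one_pow, ZMod.natCast_zmod_val]
    rw [h1, map_pow, Subgroup.coe_pow]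
  have hPN : (P : Subgroup G) ≤ N := by
    intro x hx
    have hx' : x = ((e.symm (e ⟨x, hx⟩) : (P : Subgroup G)) : G) := by simp
    rw [hx']
    rcases e ⟨x, hx⟩ with i | i
    · rw [hapow]; exact N.pow_mem ha1N _
    · exact hxa i
  have hNP : N = (P : Subgroup G) := by
    symm
    apply Subgroup.eq_of_le_of_card_ge hPN
    haveI : Fact (Nat.Prime 2) := ⟨Nat.prime_two⟩
    rw [P.card_eq_multiplicity, hNcard']
    apply Nat.pow_le_pow_right (by norm_num)
    have hdvd : 2 ^ (d + 1) ∣ Nat.card G := by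
      rw [← hNcard']; exact Subgroup.card_subgroup_dvd_card N
    exact (Nat.Prime.pow_dvd_iff_le_factorization Nat.prime_two Nat.card_pos.ne').mp hdvd
  have ha1ord : orderOf a1 = 2 * n := by
    rw [ha1, hord, QuaternionGroup.orderOf_a_one]
  -- `⟨a1⟩` is normal
  have hconj : ∀ g : G, g * a1 * g⁻¹ ∈ Subgroup.zpowers a1 := by
    intro g
    have hmem : g * a1 * g⁻¹ ∈ (P : Subgroup G) := by
      rw [← hNP]; exact hNn.conj_mem a1 ha1N g
    have ho : orderOf (g * a1 * g⁻¹) = 2 * n := by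
      have : g * a1 * g⁻¹ = MulAut.conj g a1 := by simp [MulAut.conj_apply]
      rw [this, MulEquiv.orderOf_eq, ha1ord]
    obtain ⟨q, hq⟩ : ∃ q, q = e ⟨_, hmem⟩ := ⟨_, rfl⟩
    have hx' : g * a1 * g⁻¹ = ((e.symm q : (P : Subgroup G)) : G) := by rw [hq]; simp
    rw [hx'] at ho ⊢
    rcases q with i | i
    · rw [hapow]; exact Subgroup.pow_mem _ (Subgroup.mem_zpowers a1) _
    · exfalso
      rw [hord, QuaternionGroup.orderOf_xa] at ho
      omega
  haveI hAn : (Subgroup.zpowers a1).Normal := by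
    constructor
    intro x hx g
    obtain ⟨z, rfl⟩ := Subgroup.mem_zpowers_iff.mp hx
    have : g * a1 ^ z * g⁻¹ = (g * a1 * g⁻¹) ^ z := by
      have h := map_zpow (MulAut.conj g) a1 z
      simp only [MulAut.conj_apply] at h
      exact h
    rw [this]
    exact Subgroup.zpow_mem _ (hconj g) z
  -- an element of order 4 in `⟨a1⟩`
  have hm4 : orderOf (a1 ^ (2 * 2 ^ k')) = 4 := by
    have hdvd : 2 * 2 ^ k' ∣ orderOf a1 := by
      rw [ha1ord, hn4]; exact ⟨4, by ring⟩
    rw [orderOf_pow_of_dvd (by positivity) hdvd, ha1ord, hn4]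
    have : 2 * (4 * 2 ^ k') = 4 * (2 * 2 ^ k') := by ring
    rw [this, Nat.mul_div_cancel _ (by positivity)]
  have hx0ord : orderOf ((e.symm (xa 0) : (P : Subgroup G)) : G) = 4 := by
    rw [hord, QuaternionGroup.orderOf_xa]
  have hx0 : ((e.symm (xa 0) : (P : Subgroup G)) : G) ∈ Subgroup.zpowers a1 :=
    (Cfsg.Agent.S3909.result hB (Subgroup.zpowers a1)).1 _
      ⟨a1 ^ (2 * 2 ^ k'), Subgroup.pow_mem _ (Subgroup.mem_zpowers a1) _, by rw [hm4, hx0ord]⟩
  have hfin : IsOfFinOrder a1 := isOfFinOrder_of_finite a1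
  rw [← hfin.mem_powers_iff_mem_zpowers] at hx0
  obtain ⟨j, hj⟩ := Submonoid.mem_powers_iff _ _ |>.mp hx0
  have h1 : (e.symm ((a 1 : QuaternionGroup n) ^ j) : (P : Subgroup G)) = e.symm (xa 0) := by
    apply Subtype.ext
    rw [map_pow, Subgroup.coe_pow]
    exact hj
  have h2 := e.symm.injective h1
  rw [QuaternionGroup.a_one_pow] at h2
  cases h2

end Core

section Induction

/-- A solvable B-group with a normal subgroup of order two has no Sylow 2-subgroup isomorphic to
a generalized quaternion group of order at least 16. -/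
theorem no_big_quaternion_aux : ∀ N : ℕ, ∀ (G : Type u) [Group G] [Finite G], Nat.card G = N →
    Group.IsSolvable G → BProp G → ∀ (M : Subgroup G) [M.Normal], Nat.card M = 2 →
    ∀ (P : Sylow 2 G) (k : ℕ), 2 ≤ k → (↥(P : Subgroup G) ≃* QuaternionGroup (2 ^ k)) → False := by
  intro N
  induction N using Nat.strong_induction_on with
  | _ N ih =>
  intro G _ _ hcard hsol hB M hMn hM2 P k hk e
  by_cases hodd : ∀ K : Subgroup G, K.Normal → Odd (Nat.card K) → K = ⊥
  · exact no_quat_core hB M hM2 P k hk e hodd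
  · rw [not_forall] at hodd
    obtain ⟨K, hK⟩ := hodd
    rw [Classical.not_imp, Classical.not_imp] at hK
    obtain ⟨hKn, hKodd, hK1⟩ := hK
    haveI := hKn
    haveI : Fact (Nat.Prime 2) := ⟨Nat.prime_two⟩
    have hlt : Nat.card (G ⧸ K) < N := by
      rw [← hcard]
      change K.index < _
      have h1 := K.card_mul_index
      have h2 : 1 < Nat.card K := by
        rw [Finite.one_lt_card_iff_nontrivial]
        exact (Subgroup.nontrivial_iff_ne_bot K).mpr hK1
      have h3 : 0 < K.index := Nat.pos_of_ne_zero (Subgroup.index_ne_zero_of_finite)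
      nlinarith
    have hsurj : Function.Surjective (QuotientGroup.mk' K) := QuotientGroup.mk'_surjective K
    -- image of M
    have hMK : M ⊓ K = ⊥ := by
      apply (Subgroup.disjoint_of_coprime_natCard _).eq_bot
      rw [hM2]
      exact Nat.coprime_two_left.mpr hKodd
    have hPK : (P : Subgroup G) ⊓ K = ⊥ := by
      apply (Subgroup.disjoint_of_coprime_natCard _).eq_bot
      rw [P.card_eq_multiplicity]
      exact Nat.Coprime.pow_left _ (Nat.coprime_two_left.mpr hKodd)
    have hM'n : (M.map (QuotientGroup.mk' K)).Normal := hMn.map _ hsurj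
    have hM'2 : Nat.card (M.map (QuotientGroup.mk' K)) = 2 := by
      rw [← Nat.card_congr (mapEquivOfDisjoint M K hMK).toEquiv]; exact hM2
    let P' : Sylow 2 (G ⧸ K) := P.mapSurjective hsurj
    have e' : ↥(P' : Subgroup (G ⧸ K)) ≃* QuaternionGroup (2 ^ k) :=
      (MulEquiv.subgroupCongr (Sylow.coe_mapSurjective hsurj P)).trans
        ((mapEquivOfDisjoint (P : Subgroup G) K hPK).symm.trans e)
    exact ih _ hlt (G ⧸ K) rfl inferInstance (Cfsg.Agent.S3911.result hB K hKodd)
      (M.map (QuotientGroup.mk' K)) hM'2 P' k hk e'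

/-- A solvable B-group with a normal subgroup of order two has no Sylow 2-subgroup isomorphic to
a generalized quaternion group of order at least 16. -/
theorem no_big_quaternion {G : Type u} [Group G] [Finite G] (hsol : Group.IsSolvable G)
    (hB : BProp G) (M : Subgroup G) [M.Normal] (hM2 : Nat.card M = 2) (P : Sylow 2 G) (k : ℕ)
    (hk : 2 ≤ k) (e : ↥(P : Subgroup G) ≃* QuaternionGroup (2 ^ k)) : False :=
  no_big_quaternion_aux _ G rfl hsol hB M hM2 P k hk e

end Induction

end Cfsg.Agent.Helper66.BQ
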