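import Mathlib
import Cfsg.Agent.Lib.Helper66.BQuotA

set_option autoImplicit false
set_option linter.style.haveILetI false

/-!
# B-groups: quotient by a normal subgroup of order two
when the Sylow 2-subgroups are cyclic or of order 8.
-/

namespace Cfsg.Agent.Helper66.BQ

open Cfsg.Agent.Helper66.BGrp
open scoped Pointwise

section

variable {G : Type*} [Group G] [Finite G]

/-- Two subgroups of full `p`-power order inside `C` are conjugate by an element of `C`. -/
theorem sylow_conj_in {p : ℕ} [hp : Fact p.Prime] (C X Y : Subgroup G) (hX : X ≤ C) (hY : Y ≤ C)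
    (hXc : Nat.card X = p ^ (Nat.card G).factorization p)
    (hYc : Nat.card Y = p ^ (Nat.card G).factorization p) :
    ∃ c ∈ C, Y = X.map (MulAut.conj c).toMonoidHom := by
  have hfac : (Nat.card C).factorization p = (Nat.card G).factorization p := by
    apply le_antisymm
    · exact (Nat.factorization_le_iff_dvd Nat.card_pos.ne' Nat.card_pos.ne').mpr
        (Subgroup.card_subgroup_dvd_card C) p
    · have h1 : p ^ (Nat.card G).factorization p ∣ Nat.card C := by
        rw [← hXc]; exact Subgroup.card_dvd_of_le hX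
      exact (Nat.Prime.pow_dvd_iff_le_factorization hp.out Nat.card_pos.ne').mp h1
  have hX' : Nat.card (X.subgroupOf C) = p ^ (Nat.card C).factorization p := by
    rw [hfac, ← hXc]; exact Nat.card_congr (Subgroup.subgroupOfEquivOfLe hX).toEquiv
  have hY' : Nat.card (Y.subgroupOf C) = p ^ (Nat.card C).factorization p := by
    rw [hfac, ← hYc]; exact Nat.card_congr (Subgroup.subgroupOfEquivOfLe hY).toEquiv
  obtain ⟨c, hc⟩ := MulAction.exists_smul_eq C (Sylow.ofCard (X.subgroupOf C) hX')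
    (Sylow.ofCard (Y.subgroupOf C) hY')
  have hc' : MulAut.conj c • (X.subgroupOf C) = Y.subgroupOf C := by
    have := congrArg (fun Q : Sylow p C => (Q : Subgroup C)) hc
    simpa [Sylow.coe_subgroup_smul, Sylow.coe_ofCard] using this
  refine ⟨c, c.2, ?_⟩
  ext y
  constructor
  · intro hy
    have h1 : (⟨y, hY hy⟩ : C) ∈ Y.subgroupOf C := Subgroup.mem_subgroupOf.mpr hy
    rw [← hc', Subgroup.mem_pointwise_smul_iff_inv_smul_mem] at h1
    rw [Subgroup.mem_subgroupOf] at h1
    refine ⟨_, h1, ?_⟩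
    simp [MulAut.conj_apply, MulAut.smul_def]
    group
  · rintro ⟨x, hx, rfl⟩
    have h1 : (⟨x, hX hx⟩ : C) ∈ X.subgroupOf C := Subgroup.mem_subgroupOf.mpr hx
    have h2 : MulAut.conj c • (⟨x, hX hx⟩ : C) ∈ MulAut.conj c • (X.subgroupOf C) :=
      Subgroup.smul_mem_pointwise_smul _ _ _ h1
    rw [hc', Subgroup.mem_subgroupOf] at h2
    simpa [MulAut.conj_apply, MulAut.smul_def] using h2

/-- Decomposition of a subgroup `A ≥ M` (abelian modulo the central subgroup `M` of order two)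
into its Sylow 2-subgroup and an abelian odd-order complement centralizing it. -/
theorem decomp_two (M : Subgroup G) [M.Normal] (hM2 : Nat.card M = 2) (A : Subgroup G)
    (hMA : M ≤ A) (hA : ∀ x ∈ A, ∀ y ∈ A, x * y * x⁻¹ * y⁻¹ ∈ M) :
    ∃ S D : Subgroup G, S ≤ A ∧ D ≤ A ∧
      Nat.card S = 2 ^ (Nat.card A).factorization 2 ∧
      Nat.card S * Nat.card D = Nat.card A ∧
      (∀ s ∈ S, ∀ d ∈ D, s * d = d * s) ∧ (∀ d ∈ D, ∀ d' ∈ D, d * d' = d' * d) ∧
      (∀ a ∈ A, ∃ s ∈ S, ∃ d ∈ D, a = s * d) := by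
  haveI : Fact (Nat.Prime 2) := ⟨Nat.prime_two⟩
  have hab : commutator ↥A ≤ M.subgroupOf A := minsupp_hab M A A (sup_eq_left.mpr hMA) hA
  have hM'card : Nat.card (M.subgroupOf A) = 2 ^ 1 := by
    rw [pow_one, ← hM2]; exact Nat.card_congr (Subgroup.subgroupOfEquivOfLe hMA).toEquiv
  have hM'p : IsPGroup 2 (M.subgroupOf A) := IsPGroup.of_card hM'card
  obtain ⟨S0, hMS⟩ := hM'p.exists_le_sylow
  haveI hS0n : (S0 : Subgroup ↥A).Normal := normal_of_commutator_le (hab.trans hMS)
  obtain ⟨T, hT⟩ := Subgroup.exists_right_complement'_of_coprime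
    (N := (S0 : Subgroup ↥A)) S0.card_coprime_index
  have hTodd : Odd (Nat.card T) := by
    rw [← hT.symm.index_eq_card, ← Nat.not_even_iff_odd, even_iff_two_dvd]
    exact S0.not_dvd_index
  have hTpow : ∀ d ∈ T.map A.subtype, d ^ Nat.card T = 1 := by
    rintro _ ⟨t, ht, rfl⟩
    have h1 : t ^ Nat.card T = 1 := by
      have := pow_card_eq_one' (G := T) (x := ⟨t, ht⟩)
      exact congrArg Subtype.val this
    change A.subtype t ^ Nat.card T = 1
    rw [← map_pow, h1, map_one]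
  refine ⟨(S0 : Subgroup ↥A).map A.subtype, T.map A.subtype, Subgroup.map_subtype_le _,
    Subgroup.map_subtype_le _, ?_, ?_, ?_, ?_, ?_⟩
  · rw [Subgroup.card_map_of_injective A.subtype_injective, S0.card_eq_multiplicity]
  · rw [Subgroup.card_map_of_injective A.subtype_injective,
      Subgroup.card_map_of_injective A.subtype_injective]
    exact hT.card_mul_card
  · intro s hs d hd
    have hsA : s ∈ A := Subgroup.map_subtype_le _ hs
    have hdA : d ∈ A := Subgroup.map_subtype_le _ hd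
    exact comm_of_odd M hM2 s d (hA s hsA d hdA) _ hTodd (hTpow d hd)
  · intro d hd d' hd'
    have hdA : d ∈ A := Subgroup.map_subtype_le _ hd
    have hdA' : d' ∈ A := Subgroup.map_subtype_le _ hd'
    exact comm_of_odd M hM2 d d' (hA d hdA d' hdA') _ hTodd (hTpow d' hd')
  · intro a ha
    have h1 : (⟨a, ha⟩ : ↥A) ∈ ((S0 : Subgroup ↥A) ⊔ T : Subgroup ↥A) := by
      rw [hT.sup_eq_top]; trivial
    rw [← SetLike.mem_coe, Subgroup.normal_mul] at h1
    obtain ⟨s, hs, t, ht, hst⟩ := Set.mem_mul.mp h1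
    refine ⟨s, ⟨s, hs, rfl⟩, t, ⟨t, ht, rfl⟩, ?_⟩
    have := congrArg Subtype.val hst
    simpa using this.symm

/-- A 2-subgroup is abelian or of full order 8. -/
theorem two_part_dichotomy
    (hP : ∀ P : Sylow 2 G, IsCyclic ↥(P : Subgroup G) ∨ Nat.card ↥(P : Subgroup G) = 8)
    (S : Subgroup G) (j : ℕ) (hS : Nat.card S = 2 ^ j) :
    (∀ s ∈ S, ∀ s' ∈ S, s * s' = s' * s) ∨
      (Nat.card S = 8 ∧ 2 ^ (Nat.card G).factorization 2 = 8) := by
  haveI : Fact (Nat.Prime 2) := ⟨Nat.prime_two⟩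
  have hSp : IsPGroup 2 S := IsPGroup.of_card hS
  obtain ⟨Q, hSQ⟩ := hSp.exists_le_sylow
  rcases hP Q with hcyc | h8
  · left
    intro s hs s' hs'
    haveI := hcyc
    have := congrArg Subtype.val
      (IsCyclic.commGroup.mul_comm (⟨s, hSQ hs⟩ : (Q : Subgroup G)) ⟨s', hSQ hs'⟩)
    simpa using this
  · have hQ8 : 2 ^ (Nat.card G).factorization 2 = 8 := by rw [← Q.card_eq_multiplicity, h8]
    have hdvd : 2 ^ j ∣ 2 ^ 3 := by
      rw [← hS]; norm_num; rw [← h8]; exact Subgroup.card_dvd_of_le hSQ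
    have hj3 : j ≤ 3 := (Nat.pow_dvd_pow_iff_le_right (by norm_num)).mp hdvd
    by_cases hj : j = 3
    · right
      subst hj
      exact ⟨by rw [hS]; norm_num, hQ8⟩
    · left
      have hcomm : ∀ a b : S, a * b = b * a := by
        have hj' : j = 0 ∨ j = 1 ∨ j = 2 := by omega
        rcases hj' with rfl | rfl | rfl
        · intro a b
          haveI : Subsingleton S := by
            rw [← Finite.card_le_one_iff_subsingleton, hS]; norm_num
          exact Subsingleton.elim _ _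
        · intro a b
          haveI : IsCyclic S := isCyclic_of_prime_card (p := 2) (by rw [hS]; norm_num)
          exact IsCyclic.commGroup.mul_comm a b
        · intro a b
          exact (IsPGroup.isMulCommutative_of_card_eq_prime_sq (p := 2) hS).is_comm.comm a b
      intro s hs s' hs'
      have := congrArg Subtype.val (hcomm ⟨s, hs⟩ ⟨s', hs'⟩)
      simpa using this

omit [Finite G] in
theorem map_conj_mul (X : Subgroup G) (c g : G) :
    X.map (MulAut.conj (c * g)).toMonoidHom =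
      (X.map (MulAut.conj g).toMonoidHom).map (MulAut.conj c).toMonoidHom := by
  rw [Subgroup.map_map]
  congr 1
  ext x
  simp [MulAut.conj_apply, mul_assoc]

/-- Conjugating `A = S_A D_A` to `B = S_B D_B` when the 2-parts are full Sylow subgroups. -/
theorem conj_aux (hB : BProp G) (A B SA DA SB DB : Subgroup G) (hSB : SB ≤ B) (hDB : DB ≤ B)
    (hsdA : ∀ s ∈ SA, ∀ d ∈ DA, s * d = d * s) (hddA : ∀ d ∈ DA, ∀ d' ∈ DA, d * d' = d' * d)
    (hdecA : ∀ a ∈ A, ∃ s ∈ SA, ∃ d ∈ DA, a = s * d)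
    (hsdB : ∀ s ∈ SB, ∀ d ∈ DB, s * d = d * s) (hddB : ∀ d ∈ DB, ∀ d' ∈ DB, d * d' = d' * d)
    (hDD : Nat.card DA = Nat.card DB) (hcard : Nat.card A = Nat.card B)
    (hSAc : Nat.card SA = 2 ^ (Nat.card G).factorization 2)
    (hSBc : Nat.card SB = 2 ^ (Nat.card G).factorization 2) :
    ∃ g : G, B = A.map (MulAut.conj g).toMonoidHom := by
  haveI : Fact (Nat.Prime 2) := ⟨Nat.prime_two⟩
  obtain ⟨g1, hg1⟩ := hB DA DB ((isMulComm_iff DA).mpr hddA) ((isMulComm_iff DB).mpr hddB) hDD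
  have hSA'c : Nat.card (SA.map (MulAut.conj g1).toMonoidHom) =
      2 ^ (Nat.card G).factorization 2 := by
    rw [Subgroup.card_map_of_injective (MulAut.conj g1).injective, hSAc]
  have hSA'C : SA.map (MulAut.conj g1).toMonoidHom ≤ Subgroup.centralizer (DB : Set G) := by
    rintro _ ⟨s, hs, rfl⟩
    rw [Subgroup.mem_centralizer_iff]
    intro d' hd'
    rw [SetLike.mem_coe, hg1] at hd'
    obtain ⟨d, hd, rfl⟩ := hd'
    change MulAut.conj g1 d * MulAut.conj g1 s = MulAut.conj g1 s * MulAut.conj g1 d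
    rw [← map_mul, ← map_mul, hsdA s hs d hd]
  have hSBC : SB ≤ Subgroup.centralizer (DB : Set G) := by
    intro s hs
    rw [Subgroup.mem_centralizer_iff]
    intro d hd
    exact (hsdB s hs d hd).symm
  obtain ⟨c, hcC, hc⟩ := sylow_conj_in (p := 2) (Subgroup.centralizer (DB : Set G)) _ SB
    hSA'C hSBC hSA'c hSBc
  refine ⟨c * g1, ?_⟩
  symm
  apply Subgroup.eq_of_le_of_card_ge
  · rintro _ ⟨a, ha, rfl⟩
    obtain ⟨s, hs, d, hd, rfl⟩ := hdecA a ha
    change MulAut.conj (c * g1) (s * d) ∈ B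
    rw [map_mul]
    apply B.mul_mem
    · apply hSB
      rw [hc, ← map_conj_mul]
      exact ⟨s, hs, rfl⟩
    · apply hDB
      have h1 : MulAut.conj g1 d ∈ DB := by rw [hg1]; exact ⟨d, hd, rfl⟩
      have h2 : MulAut.conj (c * g1) d = MulAut.conj g1 d := by
        rw [Subgroup.mem_centralizer_iff] at hcC
        have h3 := hcC _ h1
        simp only [MulAut.conj_apply] at h3 ⊢
        calc c * g1 * d * (c * g1)⁻¹ = (c * (g1 * d * g1⁻¹)) * c⁻¹ := by group
          _ = ((g1 * d * g1⁻¹) * c) * c⁻¹ := by rw [h3]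
          _ = g1 * d * g1⁻¹ := by group
      rw [h2]; exact h1
  · rw [Subgroup.card_map_of_injective (MulAut.conj (c * g1)).injective, hcard]

/-- The conjugacy statement modulo a normal subgroup of order two. -/
theorem conj_mod_two (hB : BProp G) (M : Subgroup G) [M.Normal] (hM2 : Nat.card M = 2)
    (hP : ∀ P : Sylow 2 G, IsCyclic ↥(P : Subgroup G) ∨ Nat.card ↥(P : Subgroup G) = 8)
    (A B : Subgroup G) (hMA : M ≤ A) (hMB : M ≤ B)
    (hA : ∀ x ∈ A, ∀ y ∈ A, x * y * x⁻¹ * y⁻¹ ∈ M)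
    (hB' : ∀ x ∈ B, ∀ y ∈ B, x * y * x⁻¹ * y⁻¹ ∈ M)
    (hcard : Nat.card A = Nat.card B) :
    ∃ g : G, B = A.map (MulAut.conj g).toMonoidHom := by
  haveI : Fact (Nat.Prime 2) := ⟨Nat.prime_two⟩
  obtain ⟨SA, DA, hSA, hDA, hSAc, hmulA, hsdA, hddA, hdecA⟩ := decomp_two M hM2 A hMA hA
  obtain ⟨SB, DB, hSB, hDB, hSBc, hmulB, hsdB, hddB, hdecB⟩ := decomp_two M hM2 B hMB hB'
  have hSS : Nat.card SA = Nat.card SB := by rw [hSAc, hSBc, hcard]
  have hDD : Nat.card DA = Nat.card DB := by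
    have h1 : Nat.card SA * Nat.card DA = Nat.card SA * Nat.card DB := by
      rw [hmulA, hSS, hmulB, hcard]
    exact Nat.eq_of_mul_eq_mul_left Nat.card_pos h1
  -- abelian criterion
  have habel : ∀ (C S D : Subgroup G), (∀ s ∈ S, ∀ s' ∈ S, s * s' = s' * s) →
      (∀ s ∈ S, ∀ d ∈ D, s * d = d * s) → (∀ d ∈ D, ∀ d' ∈ D, d * d' = d' * d) →
      (∀ a ∈ C, ∃ s ∈ S, ∃ d ∈ D, a = s * d) → IsMulCommutative ↥C := by
    intro C S D hss hsd hdd hdec
    rw [isMulComm_iff]
    intro x hx y hy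
    obtain ⟨s, hs, d, hd, rfl⟩ := hdec x hx
    obtain ⟨s', hs', d', hd', rfl⟩ := hdec y hy
    calc s * d * (s' * d') = s * (d * s') * d' := by group
      _ = s * (s' * d) * d' := by rw [hsd s' hs' d hd]
      _ = (s * s') * (d * d') := by group
      _ = (s' * s) * (d' * d) := by rw [hss s hs s' hs', hdd d hd d' hd']
      _ = s' * (s * d') * d := by group
      _ = s' * (d' * s) * d := by rw [hsd s hs d' hd']
      _ = s' * d' * (s * d) := by group
  rcases two_part_dichotomy hP SA _ hSAc with hAab | ⟨hA8, hG8⟩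
  · rcases two_part_dichotomy hP SB _ hSBc with hBab | ⟨hB8, hG8⟩
    · exact hB A B (habel A SA DA hAab hsdA hddA hdecA) (habel B SB DB hBab hsdB hddB hdecB) hcard
    · exact conj_aux hB A B SA DA SB DB hSB hDB hsdA hddA hdecA hsdB hddB hDD hcard
        (by rw [hSS, hB8, hG8]) (by rw [hB8, hG8])
  · exact conj_aux hB A B SA DA SB DB hSB hDB hsdA hddA hdecA hsdB hddB hDD hcard
      (by rw [hA8, hG8]) (by rw [← hSS, hA8, hG8])

end

end Cfsg.Agent.Helper66.BQ
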