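import Mathlib.GroupTheory.Index
import Mathlib.GroupTheory.Coset.Card

set_option autoImplicit false

namespace Cfsg.Agent.Helper66

/-- Subgroups of coprime indices in a finite group factorize it: `G = H K`. -/
theorem exists_mul_of_coprime_index {G : Type*} [Group G] [Finite G] (H K : Subgroup G)
    (hco : Nat.Coprime H.index K.index) (g : G) : ∃ h ∈ H, ∃ k ∈ K, g = h * k := by
  let f : H ⧸ K.subgroupOf H → G ⧸ K := Quotient.map' (fun h : H => (h : G)) (by
    intro a b hab
    rw [QuotientGroup.leftRel_apply] at hab ⊢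
    exact hab)
  have hinj : Function.Injective f := by
    intro x y
    induction x using Quotient.inductionOn' with
    | _ a =>
    induction y using Quotient.inductionOn' with
    | _ b =>
    intro hxy
    apply Quotient.sound'
    have h1 := Quotient.exact' hxy
    rw [QuotientGroup.leftRel_apply] at h1 ⊢
    exact h1
  have hcard : Nat.card (G ⧸ K) ≤ Nat.card (H ⧸ K.subgroupOf H) := by
    have h1 : (H ⊓ K).relIndex H * H.index = (H ⊓ K).index := Subgroup.relIndex_mul_index inf_le_left
    have h2 : (H ⊓ K).relIndex K * K.index = (H ⊓ K).index := Subgroup.relIndex_mul_index inf_le_right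
    rw [Subgroup.inf_relIndex_left] at h1
    have h3 : K.index ∣ K.relIndex H * H.index := by
      rw [h1, ← h2]
      exact dvd_mul_left _ _
    have h4 : K.index ∣ K.relIndex H := Nat.Coprime.dvd_of_dvd_mul_right hco.symm h3
    have h5 : K.relIndex H ≠ 0 := Subgroup.index_ne_zero_of_finite
    exact Nat.le_of_dvd (Nat.pos_of_ne_zero h5) h4
  have hbij := hinj.bijective_of_nat_card_le hcard
  obtain ⟨x, hx⟩ := hbij.2 (g : G ⧸ K)
  induction x using Quotient.inductionOn' with
  | _ a =>
  have h1 : ((a : G) : G ⧸ K) = (g : G ⧸ K) := hx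
  rw [QuotientGroup.eq] at h1
  exact ⟨a, a.2, (a : G)⁻¹ * g, h1, (mul_inv_cancel_left _ _).symm⟩

end Cfsg.Agent.Helper66
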