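import Mathlib
import Cfsg.Prelude.Def_GeometricClasses
import Cfsg.Agent.Lib.Helper97.ESDefs

/-!
# ES server (helper97, S5877), piece (G3): the fixed points of `σ`
-/

set_option autoImplicit false
set_option linter.style.haveILetI false
set_option linter.unusedSectionVars false

namespace Cfsg.Agent.Helper66.ES

open Cfsg Cfsg.Geo Cfsg.Agent.Helper97.ES
open scoped MatrixGroups commutatorElement

section grp

variable {F : Type*} [Field F] [Finite F] {n r : ℕ} {R : Subgroup (GL (Fin n) F)}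

/-- scalars are central -/
theorem g3_scalar_comm {z : GL (Fin n) F} (hz : z ∈ scalars (Fin n) F) (h : GL (Fin n) F) :
    z * h = h * z := by
  obtain ⟨c, hc⟩ := (mem_scalars_iff z).mp hz
  apply Units.ext
  rw [Units.val_mul, Units.val_mul, hc, Matrix.smul_mul, Matrix.mul_smul, Matrix.one_mul,
    Matrix.mul_one]

/-- `n > 0` -/
theorem g3_pos (S : Setup r R) : 0 < n := by
  rcases Nat.eq_zero_or_pos n with h | h
  · exfalso
    subst h
    haveI : Subsingleton (GL (Fin 0) F) := ⟨fun a b => Units.ext (Subsingleton.elim _ _)⟩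
    have h1 : Nat.card (Subgroup.center R) = 1 := Nat.card_eq_one_iff_unique.mpr
      ⟨⟨fun a b => Subtype.ext (Subtype.ext (Subsingleton.elim _ _))⟩, ⟨1⟩⟩
    rw [S.hZ] at h1
    exact S.hr.one_lt.ne' h1
  · exact h

/-- an invertible matrix proportional to `1` is a scalar -/
theorem g3_mem_scalars (hn : 0 < n) (y : GL (Fin n) F) (c : F)
    (h : (y : Matrix (Fin n) (Fin n) F) = c • (1 : Matrix (Fin n) (Fin n) F)) :
    y ∈ scalars (Fin n) F := by
  haveI : Nonempty (Fin n) := ⟨⟨0, hn⟩⟩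
  have hc : c ≠ 0 := by
    intro h0
    rw [h0, zero_smul] at h
    have h1 : (y : Matrix (Fin n) (Fin n) F) * ((y⁻¹ : GL (Fin n) F) : Matrix (Fin n) (Fin n) F) = 1 := by
      rw [← Units.val_mul, mul_inv_cancel, Units.val_one]
    rw [h, zero_mul] at h1
    exact zero_ne_one h1
  exact (mem_scalars_iff y).mpr ⟨Units.mk0 c hc, h⟩

/-- (B1): an element of `R` commuting with `R` is a scalar -/
theorem g3_central_scalar (S : Setup r R) (y : GL (Fin n) F)
    (hy : ∀ s ∈ R, y * s = s * y) : y ∈ scalars (Fin n) F := by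
  have hn := g3_pos S
  obtain ⟨c, hc⟩ := S.hirr.2 (y : Matrix (Fin n) (Fin n) F) (by
    rintro s ⟨s', hs', rfl⟩
    have := hy s' hs'
    have h2 := congrArg (fun u : GL (Fin n) F => (u : Matrix (Fin n) (Fin n) F)) this
    simpa using h2)
  exact g3_mem_scalars hn y c hc

/-- two proportional members of a linearly independent family have the same index -/
theorem g3_li_eq {ι : Type*} {M : Type*} [AddCommGroup M] [Module F M] {x : ι → M}
    (hli : LinearIndependent F x) {s t : ι} {a b : F} (ha : a ≠ 0)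
    (h : a • x s = b • x t) : s = t := by
  by_contra hne
  have hinj : Function.Injective ![s, t] := by
    intro i j hij
    fin_cases i <;> fin_cases j <;> simp_all
  have hpair := hli.comp ![s, t] hinj
  have h2 : LinearIndependent F ![x s, x t] := by
    convert hpair using 1
    ext i
    fin_cases i <;> rfl
  have := (LinearIndependent.pair_iff.mp h2) a (-b) (by rw [neg_smul, h]; abel)
  exact ha this.1

/-- commutators are insensitive to central factors -/
theorem g3_comm_scalar {z w : GL (Fin n) F} (hz : z ∈ scalars (Fin n) F)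
    (hw : w ∈ scalars (Fin n) F) (m u : GL (Fin n) F) :
    (z * m) * (w * u) * (z * m)⁻¹ * (w * u)⁻¹ = m * u * m⁻¹ * u⁻¹ := by
  have hz' := g3_scalar_comm hz
  have hw' := g3_scalar_comm hw
  have e1 : (z * m) * (w * u) * (z * m)⁻¹ = w * (m * u * m⁻¹) := by
    calc (z * m) * (w * u) * (z * m)⁻¹ = z * (m * (w * u) * m⁻¹) * z⁻¹ := by group
      _ = (m * (w * u) * m⁻¹) * z * z⁻¹ := by rw [hz']
      _ = m * (w * u) * m⁻¹ := by group
      _ = (m * w) * u * m⁻¹ := by group
      _ = (w * m) * u * m⁻¹ := by rw [hw' m]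
      _ = w * (m * u * m⁻¹) := by group
  rw [e1, mul_inv_rev]
  calc w * (m * u * m⁻¹) * (u⁻¹ * w⁻¹) = w * (m * u * m⁻¹ * u⁻¹) * w⁻¹ := by group
    _ = (m * u * m⁻¹ * u⁻¹) * w * w⁻¹ := by rw [hw']
    _ = m * u * m⁻¹ * u⁻¹ := by group

/-- commutators of elements of `R` are scalars -/
theorem g3_comm_mem (S : Setup r R) {d u : GL (Fin n) F} (hd : d ∈ R) (hu : u ∈ R) :
    d * u * d⁻¹ * u⁻¹ ∈ scalars (Fin n) F := by
  apply g3_central_scalar S
  intro s hs
  have h1 : ⁅(⟨d, hd⟩ : R), ⟨u, hu⟩⁆ ∈ commutator R :=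
    Subgroup.commutator_mem_commutator (Subgroup.mem_top _) (Subgroup.mem_top _)
  rw [S.hext, Subgroup.mem_center_iff] at h1
  have h2 := h1 ⟨s, hs⟩
  have h3 := congrArg (fun v : R => (v : GL (Fin n) F)) h2
  simp only [Subgroup.coe_mul, commutatorElement_def, Subgroup.coe_inv] at h3
  exact h3.symm

theorem card_fixed (S : Setup r R) (x : Fin (n * n) → Matrix (Fin n) (Fin n) F)
    (hx : NiceBasis R x) (g : GL (Fin n) F) (hg : g ∈ subgroupNormalizer (HZ R))
    (hnt : ¬ Triv R g) (ϖ : ℕ) (hϖ : ϖ.Prime) (hne : ϖ ≠ r) (hpow : g ^ ϖ = 1)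
    (σ : Equiv.Perm (Fin (n * n))) (μ : Fin (n * n) → F)
    (hσ : ∀ t, conjLin g (x t) = μ t • x (σ t)) :
    ∃ i j : ℕ, 2 ≤ i ∧ n * n = r ^ i * r ^ j ∧
      (Finset.univ.filter (fun t => σ t = t)).card = r ^ j := by
  classical
  have hn := g3_pos S
  haveI : Nonempty (Fin n) := ⟨⟨0, hn⟩⟩
  haveI : Fact r.Prime := ⟨S.hr⟩
  have hZn : (scalars (Fin n) F).Normal := scalars_normal
  have hRH : R ≤ HZ R := le_sup_left
  -- representatives
  choose y hyR hyx using hx.mem
  -- decomposition of elements of `HZ R`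
  have hdec : ∀ h ∈ HZ R, ∃ t, h * (y t)⁻¹ ∈ scalars (Fin n) F := by
    intro h hh
    obtain ⟨t, c, hc⟩ := hx.cover h hh
    refine ⟨t, g3_mem_scalars hn _ c ?_⟩
    rw [Units.val_mul, hc, ← hyx t, Matrix.smul_mul, ← Units.val_mul, mul_inv_cancel,
      Units.val_one]
  -- uniqueness
  have huniq : ∀ (a b : GL (Fin n) F) (s t : Fin (n * n)), a ∈ scalars (Fin n) F →
      b ∈ scalars (Fin n) F → a * y s = b * y t → s = t := by
    intro a b s t ha hb hab
    obtain ⟨ca, hca⟩ := (mem_scalars_iff a).mp ha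
    obtain ⟨cb, hcb⟩ := (mem_scalars_iff b).mp hb
    have h2 := congrArg (fun u : GL (Fin n) F => (u : Matrix (Fin n) (Fin n) F)) hab
    simp only [Units.val_mul] at h2
    rw [hca, hcb, hyx, hyx, Matrix.smul_mul, Matrix.smul_mul, Matrix.one_mul,
      Matrix.one_mul] at h2
    exact g3_li_eq hx.li ca.ne_zero h2
  -- the subgroup `C`
  let C : Subgroup (GL (Fin n) F) :=
    { carrier := {u | u ∈ R ∧ g * u * g⁻¹ * u⁻¹ ∈ scalars (Fin n) F}
      one_mem' := ⟨R.one_mem, by
        have : g * 1 * g⁻¹ * (1 : GL (Fin n) F)⁻¹ = 1 := by group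
        rw [this]; exact Subgroup.one_mem _⟩
      mul_mem' := by
        rintro u v ⟨hu, hu'⟩ ⟨hv, hv'⟩
        refine ⟨R.mul_mem hu hv, ?_⟩
        have : g * (u * v) * g⁻¹ * (u * v)⁻¹
            = (g * u * g⁻¹ * u⁻¹) * (u * (g * v * g⁻¹ * v⁻¹) * u⁻¹) := by group
        rw [this]
        exact Subgroup.mul_mem _ hu' (hZn.conj_mem _ hv' u)
      inv_mem' := by
        rintro u ⟨hu, hu'⟩
        refine ⟨R.inv_mem hu, ?_⟩
        have : g * u⁻¹ * g⁻¹ * u⁻¹⁻¹ = u⁻¹ * (g * u * g⁻¹ * u⁻¹)⁻¹ * u⁻¹⁻¹ := by group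
        rw [this]
        exact hZn.conj_mem _ (Subgroup.inv_mem _ hu') u⁻¹ }
  have hCmem : ∀ u, u ∈ C ↔ u ∈ R ∧ g * u * g⁻¹ * u⁻¹ ∈ scalars (Fin n) F := fun u => Iff.rfl
  have hCR : C ≤ R := fun u hu => hu.1
  let A : Subgroup (GL (Fin n) F) := R ⊓ scalars (Fin n) F
  have hAC : A ≤ C := by
    intro u hu
    refine ⟨hu.1, ?_⟩
    exact Subgroup.mul_mem _ (hZn.conj_mem _ hu.2 g) (Subgroup.inv_mem _ hu.2)
  -- fixed points
  have hfix : ∀ t, y t ∈ C ↔ σ t = t := by
    intro t
    constructor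
    · rintro ⟨-, hz⟩
      obtain ⟨c, hc⟩ := (mem_scalars_iff _).mp hz
      have h1 : g * y t * g⁻¹ = (g * y t * g⁻¹ * (y t)⁻¹) * y t := by group
      have h2 := congrArg (fun u : GL (Fin n) F => (u : Matrix (Fin n) (Fin n) F)) h1
      simp only [Units.val_mul] at h2
      rw [← Units.val_mul, ← Units.val_mul, ← Units.val_mul] at h2
      rw [hc, Matrix.smul_mul, Matrix.one_mul, hyx] at h2
      have h3 := hσ t
      rw [conjLin_apply] at h3
      rw [Units.val_mul, Units.val_mul, hyx] at h2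
      rw [h3] at h2
      exact (g3_li_eq hx.li c.ne_zero h2.symm).symm
    · intro hst
      refine ⟨hyR t, ?_⟩
      have h3 := hσ t
      rw [conjLin_apply, hst, ← hyx t] at h3
      apply g3_mem_scalars hn _ (μ t)
      rw [Units.val_mul, Units.val_mul, Units.val_mul, h3, Matrix.smul_mul, ← Units.val_mul,
        mul_inv_cancel, Units.val_one]
  -- counting `R`
  have hcardR : Nat.card R = Nat.card A * (n * n) := by
    let f : A × Fin (n * n) → R := fun p => ⟨p.1.1 * y p.2, R.mul_mem p.1.2.1 (hyR p.2)⟩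
    have hf : Function.Bijective f := by
      constructor
      · rintro ⟨a, s⟩ ⟨b, t⟩ hab
        have h1 : a.1 * y s = b.1 * y t := congrArg Subtype.val hab
        have hst := huniq _ _ s t a.2.2 b.2.2 h1
        subst hst
        have : a.1 = b.1 := mul_right_cancel h1
        rw [Prod.mk.injEq]
        exact ⟨Subtype.ext this, rfl⟩
      · rintro ⟨u, hu⟩
        obtain ⟨t, ht⟩ := hdec u (hRH hu)
        refine ⟨(⟨u * (y t)⁻¹, R.mul_mem hu (R.inv_mem (hyR t)), ht⟩, t), ?_⟩
        apply Subtype.ext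
        show u * (y t)⁻¹ * y t = u
        group
    rw [← Nat.card_congr (Equiv.ofBijective f hf), Nat.card_prod, Nat.card_eq_fintype_card (α := Fin (n * n)),
      Fintype.card_fin]
  -- counting `C`
  have hcardC : Nat.card C = Nat.card A * (Finset.univ.filter (fun t => σ t = t)).card := by
    let f : A × {t : Fin (n * n) // σ t = t} → C := fun p =>
      ⟨p.1.1 * y p.2.1, C.mul_mem (hAC p.1.2) ((hfix p.2.1).mpr p.2.2)⟩
    have hf : Function.Bijective f := by
      constructor
      · rintro ⟨a, s⟩ ⟨b, t⟩ hab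
        have h1 : a.1 * y s.1 = b.1 * y t.1 := congrArg Subtype.val hab
        have hst := huniq _ _ s.1 t.1 a.2.2 b.2.2 h1
        have hst' : s = t := Subtype.ext hst
        subst hst'
        have : a.1 = b.1 := mul_right_cancel h1
        rw [Prod.mk.injEq]
        exact ⟨Subtype.ext this, rfl⟩
      · rintro ⟨u, hu⟩
        obtain ⟨t, ht⟩ := hdec u (hRH hu.1)
        have haA : u * (y t)⁻¹ ∈ A := ⟨R.mul_mem hu.1 (R.inv_mem (hyR t)), ht⟩
        have hyC : y t ∈ C := by
          have : y t = (u * (y t)⁻¹)⁻¹ * u := by group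
          rw [this]
          exact C.mul_mem (C.inv_mem (hAC haA)) hu
        refine ⟨(⟨u * (y t)⁻¹, haA⟩, ⟨t, (hfix t).mp hyC⟩), ?_⟩
        apply Subtype.ext
        show u * (y t)⁻¹ * y t = u
        group
    rw [← Nat.card_congr (Equiv.ofBijective f hf), Nat.card_prod, Nat.card_eq_fintype_card
      (α := {t : Fin (n * n) // σ t = t}), Fintype.card_subtype]
  -- orders
  obtain ⟨a, ha⟩ := (IsPGroup.iff_card (p := r) (G := R)).mp S.hR
  have hAR : A ≤ R := inf_le_left
  obtain ⟨b, hb⟩ := (IsPGroup.iff_card (p := r) (G := A)).mp (S.hR.to_le hAR)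
  obtain ⟨c, hc⟩ := (IsPGroup.iff_card (p := r) (G := C)).mp (S.hR.to_le hCR)
  have hr1 : 1 < r := S.hr.one_lt
  have hrpos : 0 < r := S.hr.pos
  have hbc : b ≤ c := by
    have : r ^ b ∣ r ^ c := by rw [← hb, ← hc, hcardC]; exact Dvd.intro _ rfl
    exact (Nat.pow_dvd_pow_iff_le_right hr1).mp this
  have hca : c ≤ a := by
    have : r ^ c ∣ r ^ a := by rw [← hc, ← ha]; exact Subgroup.card_dvd_of_le hCR
    exact (Nat.pow_dvd_pow_iff_le_right hr1).mp this
  have hnn : n * n = r ^ (a - b) := by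
    have h1 : r ^ b * (n * n) = r ^ b * r ^ (a - b) := by
      rw [← pow_add, ← hb, ← hcardR, ha]
      congr 1
      omega
    exact Nat.eq_of_mul_eq_mul_left (pow_pos hrpos b) h1
  have hff : (Finset.univ.filter (fun t => σ t = t)).card = r ^ (c - b) := by
    have h1 : r ^ b * (Finset.univ.filter (fun t => σ t = t)).card = r ^ b * r ^ (c - b) := by
      rw [← pow_add, ← hb, ← hcardC, hc]
      congr 1
      omega
    exact Nat.eq_of_mul_eq_mul_left (pow_pos hrpos b) h1
  refine ⟨a - c, c - b, ?_, ?_, hff⟩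
  swap
  · rw [hnn, ← pow_add]
    congr 1
    omega
  -- `2 ≤ a - c`
  by_contra hlt
  have hcases : a = c ∨ a = c + 1 := by omega
  rcases hcases with hac | hac
  · -- `C = R`, so `g` is trivial on `R`
    apply hnt
    have hCeq : C = R := Subgroup.eq_of_le_of_card_ge hCR (by rw [ha, hc, hac])
    intro u hu
    have : u ∈ C := by rw [hCeq]; exact hu
    exact this.2
  · -- index `r`: the symplectic argument
    have hCne : ∃ d ∈ R, d ∉ C := by
      by_contra hall
      have hRC : R ≤ C := by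
        intro u hu
        by_contra huC
        exact hall ⟨u, hu, huC⟩
      have h1 : Nat.card R = Nat.card C := by rw [le_antisymm hRC hCR]
      rw [ha, hc, hac] at h1
      have := Nat.pow_right_injective (le_refl 2 |>.trans hr1) h1
      omega
    obtain ⟨d, hdR, hdC⟩ := hCne
    have hnorm := (Subgroup.mem_normalizer_iff.mp hg d).mp (hRH hdR)
    have hτH : g * d * g⁻¹ * d⁻¹ ∈ HZ R := Subgroup.mul_mem _ hnorm (Subgroup.inv_mem _ (hRH hdR))
    have hτZ : g * d * g⁻¹ * d⁻¹ ∉ scalars (Fin n) F := fun h => hdC ⟨hdR, h⟩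
    obtain ⟨t₀, ht₀⟩ := hdec _ hτH
    set ρ := y t₀ with hρ
    set z := g * d * g⁻¹ * d⁻¹ * ρ⁻¹ with hz
    have hρR : ρ ∈ R := hyR t₀
    have hτ : g * d * g⁻¹ = z * ρ * d := by rw [hz]; group
    have hρZ : ρ ∉ scalars (Fin n) F := by
      intro h
      apply hτZ
      have : g * d * g⁻¹ * d⁻¹ = z * ρ := by rw [hz]; group
      rw [this]
      exact Subgroup.mul_mem _ ht₀ h
    -- `ρ` commutes with `C`
    have hρC : ∀ u ∈ C, ρ * u = u * ρ := by
      intro u hu
      have hw := hu.2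
      set w := g * u * g⁻¹ * u⁻¹ with hwdef
      have hgu : g * u * g⁻¹ = w * u := by rw [hwdef]; group
      have hκ := g3_comm_mem S hdR hu.1
      set κ := d * u * d⁻¹ * u⁻¹ with hκdef
      have h1 : g * κ * g⁻¹ = κ := by
        rw [← g3_scalar_comm hκ g]; group
      have h2 : g * κ * g⁻¹ = (g * d * g⁻¹) * (g * u * g⁻¹) * (g * d * g⁻¹)⁻¹ * (g * u * g⁻¹)⁻¹ := by
        rw [hκdef]; group
      rw [hτ, hgu, mul_assoc z ρ d, g3_comm_scalar ht₀ hw, h1] at h2
      have h3 : ρ * d * u * (ρ * d)⁻¹ * u⁻¹ = κ * (ρ * u * ρ⁻¹ * u⁻¹) := by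
        calc ρ * d * u * (ρ * d)⁻¹ * u⁻¹ = ρ * κ * (u * ρ⁻¹ * u⁻¹) := by rw [hκdef]; group
          _ = κ * ρ * (u * ρ⁻¹ * u⁻¹) := by rw [g3_scalar_comm hκ ρ]
          _ = κ * (ρ * u * ρ⁻¹ * u⁻¹) := by group
      rw [h3] at h2
      have h4 : ρ * u * ρ⁻¹ * u⁻¹ = 1 := by
        have := mul_left_cancel (a := κ) (b := 1) (c := ρ * u * ρ⁻¹ * u⁻¹) (by rw [mul_one]; exact h2)
        exact this.symm
      calc ρ * u = (ρ * u * ρ⁻¹ * u⁻¹) * u * ρ := by group
        _ = u * ρ := by rw [h4, one_mul]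
    by_cases hρC' : ρ ∈ C
    · -- `ρ ∈ C`: powers of `g`
      have hwρ := hρC'.2
      set w := g * ρ * g⁻¹ * ρ⁻¹ with hwdef
      have hgρ : g * ρ * g⁻¹ = w * ρ := by rw [hwdef]; group
      have hwc := g3_scalar_comm hwρ
      have hzc := g3_scalar_comm ht₀
      have hind : ∀ k : ℕ, ∃ s ∈ scalars (Fin n) F, g ^ k * d * (g ^ k)⁻¹ = s * ρ ^ k * d := by
        intro k
        induction k with
        | zero => exact ⟨1, Subgroup.one_mem _, by simp⟩
        | succ k ih =>
          obtain ⟨s, hs, hk⟩ := ih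
          have hsc := g3_scalar_comm hs
          refine ⟨s * w ^ k * z, Subgroup.mul_mem _ (Subgroup.mul_mem _ hs (Subgroup.pow_mem _ hwρ k)) ht₀, ?_⟩
          have e1 : g ^ (k + 1) * d * (g ^ (k + 1))⁻¹ = g * (g ^ k * d * (g ^ k)⁻¹) * g⁻¹ := by
            rw [pow_succ']; group
          have e2 : g * (s * ρ ^ k * d) * g⁻¹ = (g * s * g⁻¹) * (g * ρ * g⁻¹) ^ k * (g * d * g⁻¹) := by
            rw [conj_pow]; group
          have e3 : g * s * g⁻¹ = s := by rw [← hsc g]; group
          have hcomm : Commute w ρ := hwc ρ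
          rw [e1, hk, e2, e3, hgρ, hτ, hcomm.mul_pow]
          -- s * (w^k * ρ^k) * (z * ρ * d) = s * w^k * z * ρ^(k+1) * d
          have hzc' : ρ ^ k * z = z * ρ ^ k := (hzc (ρ ^ k)).symm
          calc s * (w ^ k * ρ ^ k) * (z * ρ * d) = s * w ^ k * (ρ ^ k * z) * ρ * d := by group
            _ = s * w ^ k * (z * ρ ^ k) * ρ * d := by rw [hzc']
            _ = s * w ^ k * z * (ρ ^ k * ρ) * d := by group
            _ = s * w ^ k * z * ρ ^ (k + 1) * d := by rw [← pow_succ]
      obtain ⟨s, hs, hk⟩ := hind ϖ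
      rw [hpow] at hk
      have hρϖ : ρ ^ ϖ ∈ scalars (Fin n) F := by
        have : ρ ^ ϖ = s⁻¹ := by
          have h1 : d = s * ρ ^ ϖ * d := by simpa using hk
          have h2 : s * ρ ^ ϖ = 1 := by
            have := mul_right_cancel (a := 1) (b := d) (c := s * ρ ^ ϖ) (by rw [one_mul]; exact h1)
            exact this.symm
          exact eq_inv_of_mul_eq_one_right h2
        rw [this]
        exact Subgroup.inv_mem _ hs
      -- `ρ` has `r`-power order
      obtain ⟨m, hm⟩ := S.hR ⟨ρ, hρR⟩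
      have hm' : ρ ^ (r ^ m) = 1 := by
        have := congrArg (fun v : R => (v : GL (Fin n) F)) hm
        simpa using this
      have hord : orderOf ρ ∣ r ^ m := orderOf_dvd_of_pow_eq_one hm'
      have hcop : Nat.Coprime ϖ (orderOf ρ) := by
        have h1 : Nat.Coprime ϖ (r ^ m) :=
          Nat.Coprime.pow_right m ((Nat.coprime_primes hϖ S.hr).mpr hne)
        exact Nat.Coprime.coprime_dvd_right hord h1
      obtain ⟨m', hm'⟩ := exists_pow_eq_self_of_coprime hcop
      apply hρZ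
      rw [← hm']
      exact Subgroup.pow_mem _ hρϖ m'
    · -- `ρ ∉ C`: `R = ⟨C, ρ⟩` centralizes `ρ`
      let K : Subgroup (GL (Fin n) F) := R ⊓ Subgroup.centralizer {ρ}
      have hCK : C ≤ K := by
        intro u hu
        refine ⟨hu.1, ?_⟩
        show u ∈ Subgroup.centralizer {ρ}
        rw [Subgroup.mem_centralizer_iff]
        intro h hh
        rw [Set.mem_singleton_iff] at hh
        rw [hh]
        exact hρC u hu
      have hKR : K ≤ R := inf_le_left
      have hρK : ρ ∈ K := by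
        refine ⟨hρR, ?_⟩
        show ρ ∈ Subgroup.centralizer {ρ}
        rw [Subgroup.mem_centralizer_iff]
        intro h hh
        rw [Set.mem_singleton_iff] at hh
        rw [hh]
      obtain ⟨k, hk⟩ := (IsPGroup.iff_card (p := r) (G := K)).mp (S.hR.to_le hKR)
      have hck : c ≤ k := by
        have : r ^ c ∣ r ^ k := by rw [← hc, ← hk]; exact Subgroup.card_dvd_of_le hCK
        exact (Nat.pow_dvd_pow_iff_le_right hr1).mp this
      have hka : k ≤ a := by
        have : r ^ k ∣ r ^ a := by rw [← hk, ← ha]; exact Subgroup.card_dvd_of_le hKR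
        exact (Nat.pow_dvd_pow_iff_le_right hr1).mp this
      have hkc : k ≠ c := by
        intro h
        have hCK' : C = K := Subgroup.eq_of_le_of_card_ge hCK (by rw [hk, hc, h])
        apply hρC'
        rw [hCK']
        exact hρK
      have hka' : k = a := by omega
      have hKeq : K = R := Subgroup.eq_of_le_of_card_ge hKR (by rw [ha, hk, hka'])
      apply hρZ
      apply g3_central_scalar S
      intro s hs
      have : s ∈ K := by rw [hKeq]; exact hs
      have h3 : s ∈ Subgroup.centralizer {ρ} := this.2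
      have h2 := (Subgroup.mem_centralizer_iff.mp h3) ρ rfl
      exact h2

end grp

end Cfsg.Agent.Helper66.ES
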