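import Mathlib

set_option autoImplicit false

namespace Cfsg.Agent.Helper66

section RingAux
variable {R : Type*} [Ring R]

/-- square-zero elements `a`, `b` with `(1 + a) * (1 + b) - 1` square-zero anticommute and
`a * b * a = 0 = b * a * b` -/
theorem sq_zero_aux (a b : R) (ha : a * a = 0) (hb : b * b = 0)
    (hab : (a + b + a * b) * (a + b + a * b) = 0) :
    a * b * a = 0 ∧ b * a * b = 0 ∧ a * b + b * a = 0 := by
  have R1 : a * b + b * a + b * a * b + a * b * a + a * b * a * b = 0 := by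
    have h1 : (a + b + a * b) * (a + b + a * b) =
        a * b + b * a + b * a * b + a * b * a + a * b * a * b + a * a + (a * a) * b + b * b
          + a * (b * b) := by noncomm_ring
    rw [hab, ha, hb] at h1
    simp only [zero_mul, mul_zero, add_zero] at h1
    exact h1.symm
  have R4 : a * b * a + a * b * a * b = 0 := by
    have h1 : a * (a * b + b * a + b * a * b + a * b * a + a * b * a * b) =
        a * b * a + a * b * a * b + (a * a) * b + (a * a) * b * a + (a * a) * b * a * b := by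
      noncomm_ring
    rw [R1, ha] at h1
    simp only [zero_mul, mul_zero, add_zero] at h1
    exact h1.symm
  have R6 : a * b * a * b = 0 := by
    have h1 : (a * b * a + a * b * a * b) * b = a * b * a * b + a * b * a * (b * b) := by
      noncomm_ring
    rw [R4, hb] at h1
    simp only [zero_mul, mul_zero, add_zero] at h1
    exact h1.symm
  have R7 : a * b * a = 0 := by
    rw [R6, add_zero] at R4; exact R4
  have R5 : b * a * b = 0 := by
    have h1 : (a * b + b * a + b * a * b + a * b * a + a * b * a * b) * b =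
        b * a * b + a * b * a * b + a * (b * b) + b * a * (b * b) + a * b * a * (b * b) := by
      noncomm_ring
    rw [R1, hb, R6] at h1
    simp only [zero_mul, mul_zero, add_zero] at h1
    exact h1.symm
  refine ⟨R7, R5, ?_⟩
  rw [R6, R5, R7] at R1
  simpa using R1

/-- the "commutator" `(1-a)(1-b)(1+a)(1+b)` of two unipotent elements with square-zero
logarithms in the situation of `sq_zero_aux` -/
theorem comm_unipotent_aux (a b : R) (ha : a * a = 0) (hb : b * b = 0)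
    (h1 : a * b * a = 0) (h2 : b * a * b = 0) (h3 : a * b + b * a = 0) :
    (1 - a) * (1 - b) * (1 + a) * (1 + b) = 1 + (a * b + a * b) := by
  have hba : b * a = - (a * b) := by
    rw [eq_neg_iff_add_eq_zero, add_comm]; exact h3
  have e : (1 - a) * (1 - b) * (1 + a) * (1 + b) =
      1 + a * b - b * a - (a * a) - (b * b) - (a * a) * b - (b * a * b) + (a * b * a)
        + a * (b * b) + (a * b * a) * b := by
    noncomm_ring
  rw [e, ha, hb, h1, h2, hba]
  simp only [zero_mul, mul_zero, add_zero, sub_zero, sub_neg_eq_add]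
  rw [add_assoc]

end RingAux

section Engel
variable {K : Type*} [Group K]

open scoped commutatorElement

/-- in a 2-Engel group any two conjugates of an element commute -/
theorem commute_conj_conj (hE : ∀ a b : K, Commute a (b⁻¹ * a * b)) (x c d : K) :
    Commute (c * x * c⁻¹) (d * x * d⁻¹) := by
  have h := hE (c * x * c⁻¹) (c * d⁻¹)
  have e : (c * d⁻¹)⁻¹ * (c * x * c⁻¹) * (c * d⁻¹) = d * x * d⁻¹ := by group
  rwa [e] at h

/-- `⁅g, u⁆` commutes with `g` in a 2-Engel group -/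
theorem commute_commutator_left (hE : ∀ a b : K, Commute a (b⁻¹ * a * b)) (g u : K) :
    Commute g (g * u * g⁻¹ * u⁻¹) := by
  have h1 : Commute g⁻¹ (u⁻¹⁻¹ * g⁻¹ * u⁻¹) := hE g⁻¹ u⁻¹
  rw [inv_inv] at h1
  have h2 : Commute g (u * g⁻¹ * u⁻¹) := (Commute.inv_left_iff).mp h1
  have h3 : Commute g (g * (u * g⁻¹ * u⁻¹)) := (Commute.refl g).mul_right h2
  have e : g * (u * g⁻¹ * u⁻¹) = g * u * g⁻¹ * u⁻¹ := by group
  rwa [e] at h3

/-- **Levi's identity** (operator form): in a 2-Engel group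
`⁅⁅g⁻¹, h⁻¹⁆, x⁆ = ⁅g, ⁅h, x⁆⁆ ^ 2`. -/
theorem engel_identity (hE : ∀ a b : K, Commute a (b⁻¹ * a * b)) (g h x : K) :
    ⁅⁅g⁻¹, h⁻¹⁆, x⁆ = ⁅g, ⁅h, x⁆⁆ ^ 2 := by
  classical
  set A : Subgroup K := Subgroup.normalClosure ({x} : Set K) with hA
  have hAn : A.Normal := Subgroup.normalClosure_normal
  have hxA : x ∈ A := Subgroup.subset_normalClosure (Set.mem_singleton x)
  have hcomm : ∀ u ∈ A, ∀ v ∈ A, u * v = v * u := by
    have hk : ∀ u ∈ Group.conjugatesOfSet ({x} : Set K),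
        ∀ v ∈ Group.conjugatesOfSet ({x} : Set K), u * v = v * u := by
      intro u hu v hv
      rw [Group.mem_conjugatesOfSet_iff] at hu hv
      obtain ⟨a, ha, hau⟩ := hu
      obtain ⟨b, hb, hbv⟩ := hv
      rw [Set.mem_singleton_iff] at ha hb
      rw [ha] at hau
      rw [hb] at hbv
      obtain ⟨c, rfl⟩ := isConj_iff.mp hau
      obtain ⟨d, rfl⟩ := isConj_iff.mp hbv
      exact (commute_conj_conj hE x c d).eq
    have hmc := Subgroup.isMulCommutative_closure hk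
    intro u hu v hv
    have := hmc.is_comm.comm ⟨u, hu⟩ ⟨v, hv⟩
    exact congrArg Subtype.val this
  let CA : CommGroup ↥A :=
    { (inferInstance : Group ↥A) with
      mul_comm := fun u v => Subtype.ext (hcomm u u.2 v v.2) }
  -- the conjugation endomorphisms
  let c : K → AddMonoid.End (Additive ↥A) := fun g =>
    MonoidHom.toAdditive ((MulAut.conjNormal g : MulAut ↥A).toMonoidHom)
  have hc_apply : ∀ (g : K) (u : ↥A), c g (Additive.ofMul u) =
      Additive.ofMul ((MulAut.conjNormal g : MulAut ↥A) u) := fun _ _ => rfl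
  have hc_mul : ∀ g h : K, c (g * h) = c g * c h := by
    intro g h
    apply AddMonoidHom.ext
    intro u
    obtain ⟨u, rfl⟩ := Additive.ofMul.surjective u
    change c (g * h) (Additive.ofMul u) = c g (c h (Additive.ofMul u))
    rw [hc_apply, hc_apply, hc_apply, map_mul]
    rfl
  have hc_one : c 1 = 1 := by
    apply AddMonoidHom.ext
    intro u
    obtain ⟨u, rfl⟩ := Additive.ofMul.surjective u
    change c 1 (Additive.ofMul u) = Additive.ofMul u
    rw [hc_apply, map_one]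
    rfl
  have hmemA : ∀ (g : K) (u : ↥A), g * (u : K) * g⁻¹ * (u : K)⁻¹ ∈ A := by
    intro g u
    exact A.mul_mem (hAn.conj_mem u u.2 g) (A.inv_mem u.2)
  have hτ : ∀ (g : K) (u : ↥A), (c g - 1) (Additive.ofMul u) =
      Additive.ofMul (⟨g * (u : K) * g⁻¹ * (u : K)⁻¹, hmemA g u⟩ : ↥A) := by
    intro g u
    change c g (Additive.ofMul u) - Additive.ofMul u = _
    rw [hc_apply]
    rw [← ofMul_div]
    congr 1
    apply Subtype.ext
    rw [div_eq_mul_inv, Subgroup.coe_mul, MulAut.conjNormal_apply, Subgroup.coe_inv]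
  have hsq : ∀ g : K, (c g - 1) * (c g - 1) = 0 := by
    intro g
    apply AddMonoidHom.ext
    intro u
    obtain ⟨u, rfl⟩ := Additive.ofMul.surjective u
    change (c g - 1) ((c g - 1) (Additive.ofMul u)) = 0
    rw [hτ, hτ]
    change _ = Additive.ofMul (1 : ↥A)
    congr 1
    apply Subtype.ext
    change g * (g * (u : K) * g⁻¹ * (u : K)⁻¹) * g⁻¹ * (g * (u : K) * g⁻¹ * (u : K)⁻¹)⁻¹ = 1
    have h1 := commute_commutator_left hE g (u : K)
    rw [h1.eq, mul_inv_cancel_right, mul_inv_cancel]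
  -- the ring computation
  set a := c g - 1 with ha_def
  set b := c h - 1 with hb_def
  have hcg : c g = 1 + a := by rw [ha_def]; abel
  have hch : c h = 1 + b := by rw [hb_def]; abel
  have ha : a * a = 0 := hsq g
  have hb : b * b = 0 := hsq h
  have hab : (a + b + a * b) * (a + b + a * b) = 0 := by
    have h1 := hsq (g * h)
    have h2 : c (g * h) - 1 = a + b + a * b := by
      rw [hc_mul, hcg, hch]; noncomm_ring
    rwa [h2] at h1
  obtain ⟨h1, h2, h3⟩ := sq_zero_aux a b ha hb hab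
  have hinv : ∀ (k : K) (d : AddMonoid.End (Additive ↥A)), c k = 1 + d → d * d = 0 →
      c k⁻¹ = 1 - d := by
    intro k d hk hd
    have e1 : c k⁻¹ * c k = 1 := by rw [← hc_mul, inv_mul_cancel, hc_one]
    have e2 : (1 + d) * (1 - d) = 1 := by
      have : (1 + d) * (1 - d) = 1 - d * d := by
        rw [add_mul, one_mul, mul_sub, mul_one]; abel
      rw [this, hd, sub_zero]
    calc c k⁻¹ = c k⁻¹ * ((1 + d) * (1 - d)) := by rw [e2, mul_one]
      _ = (c k⁻¹ * c k) * (1 - d) := by rw [hk, mul_assoc]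
      _ = 1 - d := by rw [e1, one_mul]
  have hw : c ⁅g⁻¹, h⁻¹⁆ - 1 = a * b + a * b := by
    have e : ⁅g⁻¹, h⁻¹⁆ = g⁻¹ * h⁻¹ * g * h := by
      rw [commutatorElement_def, inv_inv, inv_inv]
    rw [e, hc_mul, hc_mul, hc_mul, hinv g a hcg ha, hinv h b hch hb, hcg, hch,
      comm_unipotent_aux a b ha hb h1 h2 h3]
    abel
  -- evaluate at `x`
  have hev : (c ⁅g⁻¹, h⁻¹⁆ - 1) (Additive.ofMul (⟨x, hxA⟩ : ↥A)) =
      (a * b + a * b) (Additive.ofMul (⟨x, hxA⟩ : ↥A)) := by rw [hw]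
  rw [hτ] at hev
  have hr : (a * b + a * b) (Additive.ofMul (⟨x, hxA⟩ : ↥A)) =
      Additive.ofMul ((⟨⁅g, ⁅h, x⁆⁆, by
        rw [commutatorElement_def, commutatorElement_def]
        exact hmemA g ⟨h * x * h⁻¹ * x⁻¹, hmemA h ⟨x, hxA⟩⟩⟩ : ↥A) ^ 2) := by
    change a (b (Additive.ofMul (⟨x, hxA⟩ : ↥A))) + a (b (Additive.ofMul (⟨x, hxA⟩ : ↥A))) = _
    rw [hτ h ⟨x, hxA⟩, hτ g, ← ofMul_mul, pow_two]
    rfl
  rw [hr] at hev
  have hfin := congrArg (fun z : Additive ↥A => ((Additive.toMul z : ↥A) : K)) hev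
  simp only [toMul_ofMul] at hfin
  rw [Subgroup.coe_pow] at hfin
  rw [commutatorElement_def ⁅g⁻¹, h⁻¹⁆ x]
  exact hfin

theorem commutator_inv_left (hE : ∀ a b : K, Commute a (b⁻¹ * a * b)) (p q : K) :
    ⁅p⁻¹, q⁆ = ⁅p, q⁆⁻¹ := by
  have h1 : Commute p (q⁻¹⁻¹ * p * q⁻¹) := hE p q⁻¹
  rw [inv_inv] at h1
  have h2 : Commute p⁻¹ (q * p * q⁻¹) := (Commute.inv_left_iff).mpr h1
  rw [commutatorElement_inv, commutatorElement_def, commutatorElement_def, inv_inv]
  calc p⁻¹ * q * p * q⁻¹ = p⁻¹ * (q * p * q⁻¹) := by group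
    _ = q * p * q⁻¹ * p⁻¹ := h2.eq

theorem commutator_inv_right (hE : ∀ a b : K, Commute a (b⁻¹ * a * b)) (p q : K) :
    ⁅p, q⁻¹⁆ = ⁅p, q⁆⁻¹ := by
  have h1 : Commute q⁻¹ (p⁻¹⁻¹ * q⁻¹ * p⁻¹) := hE q⁻¹ p⁻¹
  rw [inv_inv] at h1
  have h2 : Commute q (p * q⁻¹ * p⁻¹) := (Commute.inv_left_iff).mp h1
  rw [commutatorElement_inv, commutatorElement_def, commutatorElement_def, inv_inv]
  calc p * q⁻¹ * p⁻¹ * q = q * (p * q⁻¹ * p⁻¹) := h2.eq.symm
    _ = q * p * q⁻¹ * p⁻¹ := by group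

/-- **Levi's identity**: in a 2-Engel group `⁅⁅g, h⁆, x⁆ = (⁅⁅h, x⁆, g⁆⁻¹) ^ 2`. -/
theorem engel_identity' (hE : ∀ a b : K, Commute a (b⁻¹ * a * b)) (g h x : K) :
    ⁅⁅g, h⁆, x⁆ = (⁅⁅h, x⁆, g⁆⁻¹) ^ 2 := by
  have h1 := engel_identity hE g⁻¹ h⁻¹ x
  rw [inv_inv, inv_inv] at h1
  rw [h1, commutator_inv_left hE h x, commutator_inv_left hE g, commutator_inv_right hE g,
    inv_inv, commutatorElement_inv]

/-- **Levi**: in a 2-Engel group triple commutators have order dividing `9`. -/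
theorem engel_pow_nine (hE : ∀ a b : K, Commute a (b⁻¹ * a * b)) (g h x : K) :
    ⁅⁅g, h⁆, x⁆ ^ 9 = 1 := by
  have h1 := engel_identity' hE g h x
  have h2 := engel_identity' hE h x g
  have h3 := engel_identity' hE x g h
  rw [inv_pow] at h1 h2 h3
  set T1 := ⁅⁅g, h⁆, x⁆
  set T2 := ⁅⁅h, x⁆, g⁆
  set T3 := ⁅⁅x, g⁆, h⁆
  have e1 : T1 = T3 ^ 4 := by
    rw [h1, h2, inv_pow, inv_inv, ← pow_mul]
  have e2 : T1 = (T1 ^ 8)⁻¹ := by
    conv_lhs => rw [e1, h3, inv_pow, ← pow_mul]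
  have e3 : T1 ^ 9 = T1 ^ 8 * T1 := pow_succ T1 8
  rw [e3]
  calc T1 ^ 8 * T1 = T1 ^ 8 * (T1 ^ 8)⁻¹ := by rw [← e2]
    _ = 1 := mul_inv_cancel _

/-- In a 2-Engel group all of whose elements have 2-power order, triple commutators vanish. -/
theorem engel_triple_eq_one (hE : ∀ a b : K, Commute a (b⁻¹ * a * b)) (h2 : IsPGroup 2 K)
    (g h x : K) : ⁅⁅g, h⁆, x⁆ = 1 := by
  have h9 := engel_pow_nine hE g h x
  obtain ⟨k, hk⟩ := h2 ⁅⁅g, h⁆, x⁆
  have hd1 : orderOf ⁅⁅g, h⁆, x⁆ ∣ 9 := orderOf_dvd_of_pow_eq_one h9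
  have hd2 : orderOf ⁅⁅g, h⁆, x⁆ ∣ 2 ^ k := orderOf_dvd_of_pow_eq_one hk
  have hc : Nat.Coprime 9 (2 ^ k) := Nat.Coprime.pow_right k (by norm_num)
  have := Nat.eq_one_of_dvd_coprimes hc hd1 hd2
  exact orderOf_eq_one_iff.mp this

end Engel

end Cfsg.Agent.Helper66
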