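import Cfsg.Agent.Lib.Helper66.Engel

set_option autoImplicit false

namespace Cfsg.Agent.Helper66

open scoped commutatorElement

section FpfThree
variable {G : Type*} [Group G]

theorem inv_mul_inv_of_cube (e : G) (he3 : e ^ 3 = 1) : e⁻¹ * e⁻¹ = e := by
  have : e * e * e = 1 := by rw [← he3, pow_succ, pow_succ, pow_one]
  calc e⁻¹ * e⁻¹ = e⁻¹ * e⁻¹ * (e * e * e) := by rw [this, mul_one]
    _ = e := by group

theorem mul_self_of_cube (e : G) (he3 : e ^ 3 = 1) : e * e = e⁻¹ := by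
  have : e * e * e = 1 := by rw [← he3, pow_succ, pow_succ, pow_one]
  calc e * e = e * e * e * e⁻¹ := by group
    _ = e⁻¹ := by rw [this, one_mul]

theorem prod_conj_of_cube (e y : G) (he3 : e ^ 3 = 1) (h : (y * e) ^ 3 = 1) :
    y * (e * y * e⁻¹) * (e⁻¹ * y * e) = 1 := by
  calc y * (e * y * e⁻¹) * (e⁻¹ * y * e) = y * e * y * (e⁻¹ * e⁻¹) * y * e := by group
    _ = y * e * y * e * y * e := by rw [inv_mul_inv_of_cube e he3]
    _ = (y * e) ^ 3 := by rw [pow_succ, pow_succ, pow_one]; simp only [mul_assoc]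
    _ = 1 := h

/-- If all elements of the cosets `N e` and `N e⁻¹` have order dividing `3`, then every `x ∈ N`
commutes with `e x e⁻¹`. -/
theorem commute_conj_of_cube (N : Subgroup G) [hN : N.Normal] (e : G)
    (H1 : ∀ x ∈ N, (x * e) ^ 3 = 1) (H2 : ∀ x ∈ N, (x * e⁻¹) ^ 3 = 1) (x : G) (hx : x ∈ N) :
    Commute x (e * x * e⁻¹) := by
  have he3 : e ^ 3 = 1 := by
    have := H1 1 N.one_mem
    rwa [one_mul] at this
  have he2 : e⁻¹ * e⁻¹ = e := by
    have : e * e * e = 1 := by rw [← he3, pow_succ, pow_succ, pow_one]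
    calc e⁻¹ * e⁻¹ = e⁻¹ * e⁻¹ * (e * e * e) := by rw [this, mul_one]
      _ = e := by group
  have he2' : e * e = e⁻¹ := by
    have : e * e * e = 1 := by rw [← he3, pow_succ, pow_succ, pow_one]
    calc e * e = e * e * e * e⁻¹ := by group
      _ = e⁻¹ := by rw [this, one_mul]
  -- the statement `C y : Commute (e y e⁻¹) (e⁻¹ y e)` for all `y ∈ N`
  have C : ∀ y ∈ N, Commute (e * y * e⁻¹) (e⁻¹ * y * e) := by
    intro y hy
    have A : y * (e * y * e⁻¹) * (e⁻¹ * y * e) = 1 := by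
      calc y * (e * y * e⁻¹) * (e⁻¹ * y * e) = y * e * y * (e⁻¹ * e⁻¹) * y * e := by group
        _ = y * e * y * e * y * e := by rw [he2]
        _ = (y * e) ^ 3 := by rw [pow_succ, pow_succ, pow_one]; simp only [mul_assoc]
        _ = 1 := H1 y hy
    have B : y * (e⁻¹ * y * e) * (e * y * e⁻¹) = 1 := by
      calc y * (e⁻¹ * y * e) * (e * y * e⁻¹) = y * e⁻¹ * y * (e * e) * y * e⁻¹ := by group
        _ = y * e⁻¹ * y * e⁻¹ * y * e⁻¹ := by rw [he2']
        _ = (y * e⁻¹) ^ 3 := by rw [pow_succ, pow_succ, pow_one]; simp only [mul_assoc]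
        _ = 1 := H2 y hy
    have A' : (e * y * e⁻¹) * (e⁻¹ * y * e) = y⁻¹ := by
      rw [mul_assoc] at A
      exact eq_inv_of_mul_eq_one_right A
    have B' : (e⁻¹ * y * e) * (e * y * e⁻¹) = y⁻¹ := by
      rw [mul_assoc] at B
      exact eq_inv_of_mul_eq_one_right B
    exact A'.trans B'.symm
  have hy : e⁻¹ * x * e ∈ N := by
    have := hN.conj_mem x hx e⁻¹
    rwa [inv_inv] at this
  have h1 := C (e⁻¹ * x * e) hy
  have e1 : e * (e⁻¹ * x * e) * e⁻¹ = x := by group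
  have e2 : e⁻¹ * (e⁻¹ * x * e) * e = e * x * e⁻¹ := by
    calc e⁻¹ * (e⁻¹ * x * e) * e = (e⁻¹ * e⁻¹) * x * (e * e) := by group
      _ = e * x * e⁻¹ := by rw [he2, he2']
  rwa [e1, e2] at h1

/-- If `e` acts fixed-point-freely on the finite normal subgroup `N`, every element of `N` has the
form `e g e⁻¹ g⁻¹` with `g ∈ N`. -/
theorem exists_comm_eq_of_fpf (N : Subgroup G) [hN : N.Normal] [Finite N] (e : G)
    (H3 : ∀ x ∈ N, x * e = e * x → x = 1) (h : G) (hh : h ∈ N) :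
    ∃ g ∈ N, e * g * e⁻¹ * g⁻¹ = h := by
  let ψ : ↥N → ↥N := fun g => ⟨e * (g : G) * e⁻¹ * (g : G)⁻¹,
    N.mul_mem (hN.conj_mem g g.2 e) (N.inv_mem g.2)⟩
  have hinj : Function.Injective ψ := by
    intro g g' hgg
    have h1 : e * (g : G) * e⁻¹ * (g : G)⁻¹ = e * (g' : G) * e⁻¹ * (g' : G)⁻¹ :=
      congrArg Subtype.val hgg
    have h2 : ((g' : G)⁻¹ * (g : G)) * e = e * ((g' : G)⁻¹ * (g : G)) := by
      have h3 : (g : G) * e⁻¹ * (g : G)⁻¹ = (g' : G) * e⁻¹ * (g' : G)⁻¹ := by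
        have := congrArg (fun z => e⁻¹ * z) h1
        calc (g : G) * e⁻¹ * (g : G)⁻¹ = e⁻¹ * (e * (g : G) * e⁻¹ * (g : G)⁻¹) := by group
          _ = e⁻¹ * (e * (g' : G) * e⁻¹ * (g' : G)⁻¹) := this
          _ = (g' : G) * e⁻¹ * (g' : G)⁻¹ := by group
      have h4 : ((g' : G)⁻¹ * (g : G)) * e⁻¹ = e⁻¹ * ((g' : G)⁻¹ * (g : G)) := by
        calc ((g' : G)⁻¹ * (g : G)) * e⁻¹ = (g' : G)⁻¹ * ((g : G) * e⁻¹ * (g : G)⁻¹) * (g : G) := by
              group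
          _ = (g' : G)⁻¹ * ((g' : G) * e⁻¹ * (g' : G)⁻¹) * (g : G) := by rw [h3]
          _ = e⁻¹ * ((g' : G)⁻¹ * (g : G)) := by group
      have h5 : Commute ((g' : G)⁻¹ * (g : G)) e⁻¹ := h4
      exact (Commute.inv_right_iff.mp h5).eq
    have h6 := H3 _ (N.mul_mem (N.inv_mem g'.2) g.2) h2
    apply Subtype.ext
    calc (g : G) = (g' : G) * ((g' : G)⁻¹ * (g : G)) := by group
      _ = (g' : G) := by rw [h6, mul_one]
  obtain ⟨g, hg⟩ := Finite.surjective_of_injective hinj ⟨h, hh⟩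
  exact ⟨g, g.2, congrArg Subtype.val hg⟩

/-- `x ∈ N` commutes with every `N`-conjugate of `e x e⁻¹`. -/
theorem commute_conj_conj_of_cube (N : Subgroup G) [hN : N.Normal] [Finite N] (e : G)
    (H1 : ∀ x ∈ N, (x * e) ^ 3 = 1) (H2 : ∀ x ∈ N, (x * e⁻¹) ^ 3 = 1)
    (H3 : ∀ x ∈ N, x * e = e * x → x = 1) (x : G) (hx : x ∈ N) (h : G) (hh : h ∈ N) :
    Commute x (h⁻¹ * (e * x * e⁻¹) * h) := by
  obtain ⟨g, hgN, hg'⟩ := exists_comm_eq_of_fpf N e H3 h hh
  have hgx : g⁻¹ * x * g ∈ N := by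
    have := hN.conj_mem x hx g⁻¹
    rwa [inv_inv] at this
  have h1 := commute_conj_of_cube N e H1 H2 _ hgx
  have h2 := h1.map (MulAut.conj g).toMonoidHom
  simp only [MulEquiv.coe_toMonoidHom, MulAut.conj_apply] at h2
  have e1 : g * (g⁻¹ * x * g) * g⁻¹ = x := by group
  have e2 : g * (e * (g⁻¹ * x * g) * e⁻¹) * g⁻¹ =
      h⁻¹ * (e * x * e⁻¹) * h := by
    rw [← hg']; group
  rwa [e1, e2] at h2

/-- Under the hypotheses, `N` is a 2-Engel group. -/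
theorem engel_of_cube (N : Subgroup G) [hN : N.Normal] [Finite N] (e : G)
    (H1 : ∀ x ∈ N, (x * e) ^ 3 = 1) (H2 : ∀ x ∈ N, (x * e⁻¹) ^ 3 = 1)
    (H3 : ∀ x ∈ N, x * e = e * x → x = 1) (x : G) (hx : x ∈ N) (h : G) (hh : h ∈ N) :
    Commute x (h⁻¹ * x * h) := by
  have he3 : e ^ 3 = 1 := by
    have := H1 1 N.one_mem
    rwa [one_mul] at this
  have he2 : e⁻¹ * e⁻¹ = e := by
    have : e * e * e = 1 := by rw [← he3, pow_succ, pow_succ, pow_one]
    calc e⁻¹ * e⁻¹ = e⁻¹ * e⁻¹ * (e * e * e) := by rw [this, mul_one]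
      _ = e := by group
  have P1 := commute_conj_conj_of_cube N e H1 H2 H3 x hx h hh
  have H2' : ∀ x ∈ N, (x * e⁻¹⁻¹) ^ 3 = 1 := by
    intro y hy; rw [inv_inv]; exact H1 y hy
  have H3' : ∀ x ∈ N, x * e⁻¹ = e⁻¹ * x → x = 1 := by
    intro y hy hc
    have h5 : Commute y e⁻¹ := hc
    exact H3 y hy (Commute.inv_right_iff.mp h5).eq
  have P2 := commute_conj_conj_of_cube N e⁻¹ H2 H2' H3' x hx h hh
  rw [inv_inv] at P2
  -- `x⁻¹ = (e x e⁻¹) (e⁻¹ x e)`
  have A : (e * x * e⁻¹) * (e⁻¹ * x * e) = x⁻¹ := by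
    have A0 : x * (e * x * e⁻¹) * (e⁻¹ * x * e) = 1 := by
      calc x * (e * x * e⁻¹) * (e⁻¹ * x * e) = x * e * x * (e⁻¹ * e⁻¹) * x * e := by group
        _ = x * e * x * e * x * e := by rw [he2]
        _ = (x * e) ^ 3 := by rw [pow_succ, pow_succ, pow_one]; simp only [mul_assoc]
        _ = 1 := H1 x hx
    rw [mul_assoc] at A0
    exact eq_inv_of_mul_eq_one_right A0
  have h3 : Commute x ((h⁻¹ * (e * x * e⁻¹) * h) * (h⁻¹ * (e⁻¹ * x * e) * h)) := P1.mul_right P2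
  have e3 : (h⁻¹ * (e * x * e⁻¹) * h) * (h⁻¹ * (e⁻¹ * x * e) * h) = (h⁻¹ * x * h)⁻¹ := by
    calc (h⁻¹ * (e * x * e⁻¹) * h) * (h⁻¹ * (e⁻¹ * x * e) * h)
        = h⁻¹ * ((e * x * e⁻¹) * (e⁻¹ * x * e)) * h := by group
      _ = h⁻¹ * x⁻¹ * h := by rw [A]
      _ = (h⁻¹ * x * h)⁻¹ := by group
  rw [e3] at h3
  exact Commute.inv_right_iff.mp h3

/-- Under `H1`, a 2-element of `N` commuting with `e` is trivial. -/
theorem fpf_of_cube (N : Subgroup G) (hN2 : IsPGroup 2 N) (e : G)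
    (H1 : ∀ x ∈ N, (x * e) ^ 3 = 1) : ∀ x ∈ N, x * e = e * x → x = 1 := by
  have he3 : e ^ 3 = 1 := by
    have := H1 1 N.one_mem
    rwa [one_mul] at this
  intro x hx hc
  have h1 : Commute x e := hc
  have h2 := H1 x hx
  rw [h1.mul_pow, he3, mul_one] at h2
  obtain ⟨k, hk⟩ := hN2 ⟨x, hx⟩
  have hk' : x ^ 2 ^ k = 1 := by
    have := congrArg Subtype.val hk
    simpa using this
  have hd1 : orderOf x ∣ 3 := orderOf_dvd_of_pow_eq_one h2
  have hd2 : orderOf x ∣ 2 ^ k := orderOf_dvd_of_pow_eq_one hk'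
  have hc : Nat.Coprime 3 (2 ^ k) := Nat.Coprime.pow_right k (by norm_num)
  exact orderOf_eq_one_iff.mp (Nat.eq_one_of_dvd_coprimes hc hd1 hd2)

/-- Under the hypotheses, all triple commutators of `N` vanish. -/
theorem triple_comm_eq_one_of_cube (N : Subgroup G) [hN : N.Normal] [Finite N]
    (hN2 : IsPGroup 2 N) (e : G)
    (H1 : ∀ x ∈ N, (x * e) ^ 3 = 1) (H2 : ∀ x ∈ N, (x * e⁻¹) ^ 3 = 1) (x y z : ↥N) :
    ⁅⁅x, y⁆, z⁆ = 1 := by
  have H3 := fpf_of_cube N hN2 e H1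
  have hE : ∀ a b : ↥N, Commute a (b⁻¹ * a * b) := by
    intro a b
    have := engel_of_cube N e H1 H2 H3 a a.2 b b.2
    exact Subtype.ext this.eq
  exact engel_triple_eq_one hE hN2 x y z

/-- **Burnside–Neumann**: a finite normal 2-subgroup `N` such that all elements of the cosets
`N e`, `N e⁻¹` have order dividing 3 (e.g. `e` induces a fixed-point-free automorphism of order 3)
has nilpotency class at most 2. -/
theorem nilpotencyClass_le_two_of_cube (N : Subgroup G) [hN : N.Normal] [Finite N]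
    (hN2 : IsPGroup 2 N) (e : G)
    (H1 : ∀ x ∈ N, (x * e) ^ 3 = 1) (H2 : ∀ x ∈ N, (x * e⁻¹) ^ 3 = 1) :
    Group.nilpotencyClass ↥N ≤ 2 := by
  have hT := triple_comm_eq_one_of_cube N hN2 e H1 H2
  have hp2 : Fact (Nat.Prime 2) := ⟨Nat.prime_two⟩
  have hnil : Group.IsNilpotent ↥N := hN2.isNilpotent
  rw [← Subgroup.upperCentralSeries_eq_top_iff_nilpotencyClass_le, eq_top_iff]
  intro x _
  rw [Subgroup.mem_upperCentralSeries_succ_iff]
  intro y
  rw [Subgroup.mem_upperCentralSeries_succ_iff]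
  intro z
  rw [Subgroup.upperCentralSeries_zero, Subgroup.mem_bot]
  exact hT x y z

end FpfThree

end Cfsg.Agent.Helper66
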