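import Mathlib

/-!
# G24 piece ABS (S1679): the diagonal argument.
-/

set_option autoImplicit false

namespace Cfsg.Agent.Helper66.G24

/-- a surjective homomorphism from a finite group with at most `N` elements onto a group with exactly
`N` elements is an isomorphism -/
theorem h66_equiv_of_surj {T H : Type*} [Group T] [Group H] [Finite T] (N : ℕ) (_hN : 0 < N)
    (f : T →* H) (hf : Function.Surjective f) (hT : Nat.card T ≤ N) (hH : Nat.card H = N) :
    Nonempty (T ≃* H) := by
  have hbij : Function.Bijective f :=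
    hf.bijective_of_nat_card_le (by rw [hH]; exact hT)
  exact ⟨MulEquiv.ofBijective f hbij⟩

/-- (ABS) the diagonal argument -/
theorem iso_of_diagonal {P G : Type*} [Group P] [Group G] (N : ℕ) (hN : 0 < N) (x : ℕ → P) (y : ℕ → G) (m : ℕ)
    (hfin : Finite ↥(Subgroup.closure ((fun g => ((x g, y g) : P × G)) '' {g | g < m})))
    (hbound : Nat.card ↥(Subgroup.closure ((fun g => ((x g, y g) : P × G)) '' {g | g < m})) ≤ N)
    (hH : Nat.card ↥(Subgroup.closure (x '' {g | g < m})) = N)
    (hS : Nat.card ↥(Subgroup.closure (y '' {g | g < m})) = N) :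
    Nonempty (↥(Subgroup.closure (x '' {g | g < m})) ≃* ↥(Subgroup.closure (y '' {g | g < m}))) := by
  set T : Subgroup (P × G) :=
    Subgroup.closure ((fun g => ((x g, y g) : P × G)) '' {g | g < m}) with hTdef
  have h1 : T.map (MonoidHom.fst P G) = Subgroup.closure (x '' {g | g < m}) := by
    rw [hTdef, MonoidHom.map_closure, Set.image_image]
    rfl
  have h2 : T.map (MonoidHom.snd P G) = Subgroup.closure (y '' {g | g < m}) := by
    rw [hTdef, MonoidHom.map_closure, Set.image_image]
    rfl
  have hc1 : Nat.card ↥(T.map (MonoidHom.fst P G)) = N := by rw [h1]; exact hH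
  have hc2 : Nat.card ↥(T.map (MonoidHom.snd P G)) = N := by rw [h2]; exact hS
  obtain ⟨e1⟩ := h66_equiv_of_surj N hN ((MonoidHom.fst P G).subgroupMap T)
    ((MonoidHom.fst P G).subgroupMap_surjective T) hbound hc1
  obtain ⟨e2⟩ := h66_equiv_of_surj N hN ((MonoidHom.snd P G).subgroupMap T)
    ((MonoidHom.snd P G).subgroupMap_surjective T) hbound hc2
  exact ⟨((MulEquiv.subgroupCongr h1).symm.trans e1.symm).trans (e2.trans (MulEquiv.subgroupCongr h2))⟩

end Cfsg.Agent.Helper66.G24
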