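import Mathlib
import Cfsg.Prelude.Def_ChevG2
import Cfsg.Agent.Lib.Helper92.G24Defs

/-!
# G24 piece X0 (S1679): `x_r(0) = 1` for the frozen Chevalley matrices (any datum, any field).
-/

set_option autoImplicit false
set_option linter.unusedSimpArgs false

namespace Cfsg.Agent.Helper66.G24

open Cfsg.Agent.Helper92.G24

/-- every exponent in a chain coefficient list is positive -/
theorem h66_chainCoeff_pos (D : Cfsg.Lie.ChevalleyDatum) (r s u : ℕ) (km : ℕ × ℤ)
    (h : km ∈ D.chainCoeff r s u) : km.1 ≠ 0 := by
  unfold Cfsg.Lie.ChevalleyDatum.chainCoeff at h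
  rw [List.mem_flatMap] at h
  obtain ⟨e, -, he⟩ := h
  rw [List.mem_map] at he
  obtain ⟨q, -, rfl⟩ := he
  exact Nat.succ_ne_zero _

/-- the chain sum vanishes at `t = 0` -/
theorem h66_chain_sum_zero (D : Cfsg.Lie.ChevalleyDatum) (K : Type*) [Field K] (r s u : ℕ) :
    ((D.chainCoeff r s u).map fun km => ((km.2 : ℤ) : K) * (0 : K) ^ km.1).sum = 0 := by
  apply List.sum_eq_zero
  intro x hx
  rw [List.mem_map] at hx
  obtain ⟨km, hkm, rfl⟩ := hx
  rw [zero_pow (h66_chainCoeff_pos D r s u km hkm), mul_zero]

/-- `x_r(0) = 1` for every datum and every field -/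
theorem h66_xMat_zero (D : Cfsg.Lie.ChevalleyDatum) (K : Type*) [Field K] (r : Fin D.nroots) :
    D.xMat K r 0 = 1 := by
  ext row col
  unfold Cfsg.Lie.ChevalleyDatum.xMat
  rw [Matrix.of_apply]
  rcases col with i | s
  · rcases row with i' | u
    · simp [Matrix.one_apply]
    · simp [Matrix.one_apply]
  · by_cases hsr : s = r
    · rcases row with i' | u
      · simp [hsr, Matrix.one_apply]
      · simp [hsr, Matrix.one_apply]
    · by_cases hneg : s.val = D.negIdx.getD r.val 0
      · rcases row with i' | u
        · simp [hsr, hneg, Matrix.one_apply]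
        · by_cases hus : u = s
          · simp [hsr, hneg, hus, Matrix.one_apply]
          · by_cases hur : u = r
            · simp [hsr, hneg, hus, hur, Matrix.one_apply, Ne.symm hsr]
            · simp [hsr, hneg, hus, hur, Matrix.one_apply]
      · rcases row with i' | u
        · simp [hsr, hneg, Matrix.one_apply]
        · simp only [hsr, hneg, if_false]
          rw [h66_chain_sum_zero, add_zero, Matrix.one_apply]
          simp

/-- (X0) `x_r(0) = 1` for the frozen matrices of `chevG2` over `F4` -/
theorem xMat_zero (r : Fin D.nroots) : D.xMat F r 0 = 1 :=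
  h66_xMat_zero D F r

end Cfsg.Agent.Helper66.G24
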