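import Cfsg.Agent.Lib.Helper66.Frobenius
import Cfsg.Agent.Lib.Helper66.ClassTwo
import Cfsg.Agent.Lib.Helper32.PGroupCenter
import Cfsg.Agent.Lib.Helper63.PGroup
import Cfsg.Agent.S0636

set_option autoImplicit false

namespace Cfsg.Agent.Helper66

open scoped Pointwise

section RTrick
variable {H : Type*} [Group H] [Finite H] {p : ℕ} [Fact p.Prime]

/-- commutators of a normal subgroup of order `p²` of a `p`-group with any element are central -/
theorem comm_mem_center_of_normal_sq (hH : IsPGroup p H) (R : Subgroup H) [hRn : R.Normal]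
    (hRcard : Nat.card R = p ^ 2) (x r : H) (hr : r ∈ R) :
    r⁻¹ * x⁻¹ * r * x ∈ Subgroup.center H := by
  have hp : p.Prime := Fact.out
  have hRne : R ≠ ⊥ := by
    intro h
    rw [h, Subgroup.card_bot] at hRcard
    have : 1 < p ^ 2 := Nat.one_lt_pow (by norm_num) hp.one_lt
    omega
  obtain ⟨z, hzR, hz1, hzc⟩ := Helper32.exists_ne_one_mem_center_of_normal hH R hRne
  set Z1 := Subgroup.zpowers z with hZ1
  have hZ1c : Z1 ≤ Subgroup.center H := by
    rw [hZ1, Subgroup.zpowers_le]; exact hzc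
  have hZ1R : Z1 ≤ R := by
    rw [hZ1, Subgroup.zpowers_le]; exact hzR
  have hZ1n : Z1.Normal := by
    refine ⟨fun n hn g => ?_⟩
    have h1 : n ∈ Subgroup.center H := hZ1c hn
    rw [Subgroup.mem_center_iff] at h1
    rw [h1 g, mul_inv_cancel_right]
    exact hn
  -- card of `Z1`
  have hZ1card : p ∣ Nat.card Z1 := by
    have h1 : Nat.card Z1 ≠ 1 := by
      intro h
      rw [Subgroup.card_eq_one, hZ1, Subgroup.zpowers_eq_bot] at h
      exact hz1 h
    obtain ⟨k, hk⟩ := (hH.to_subgroup Z1).exists_card_eq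
    rw [hk] at h1 ⊢
    cases k with
    | zero => simp at h1
    | succ k => exact Dvd.intro _ (pow_succ' p k).symm
  set π := QuotientGroup.mk' Z1 with hπ
  set Rb := R.map π with hRb
  have hRbn : Rb.Normal := hRn.map π (QuotientGroup.mk'_surjective Z1)
  have hpre : (R : Set H) = (QuotientGroup.mk : H → H ⧸ Z1) ⁻¹' (Rb : Set (H ⧸ Z1)) := by
    ext y
    constructor
    · intro hy
      exact ⟨y, hy, rfl⟩
    · rintro ⟨y', hy', hyy'⟩
      have h1 : y'⁻¹ * y ∈ Z1 := by
        rw [← QuotientGroup.eq]; exact hyy'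
      have h2 : y = y' * (y'⁻¹ * y) := by group
      rw [h2]
      exact R.mul_mem hy' (hZ1R h1)
  have hcard := QuotientGroup.card_preimage_mk Z1 (Rb : Set (H ⧸ Z1))
  rw [← hpre] at hcard
  have hcard' : Nat.card R = Nat.card Z1 * Nat.card Rb := hcard
  -- `Rb` has order dividing `p`
  have hRbcard : Nat.card Rb = 1 ∨ Nat.card Rb = p := by
    obtain ⟨k, hk⟩ := hZ1card
    rw [hRcard, hk, pow_two, mul_assoc] at hcard'
    have h3 : p = k * Nat.card Rb := Nat.eq_of_mul_eq_mul_left hp.pos hcard'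
    have h4 : Nat.card Rb ∣ p := Dvd.intro_left _ h3.symm
    exact (Nat.dvd_prime hp).mp h4
  have hRbc : Rb ≤ Subgroup.center (H ⧸ Z1) := by
    rcases hRbcard with h | h
    · rw [Subgroup.card_eq_one] at h
      rw [h]; exact bot_le
    · exact Helper63.normal_card_prime_le_center (hH.to_quotient Z1) Rb h
  have hrb : π r ∈ Subgroup.center (H ⧸ Z1) := hRbc ⟨r, hr, rfl⟩
  rw [Subgroup.mem_center_iff] at hrb
  have h5 : π (r⁻¹ * x⁻¹ * r * x) = 1 := by
    have h6 := hrb (π x)⁻¹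
    simp only [map_mul, map_inv]
    rw [mul_assoc (π r)⁻¹, h6]
    group
  have h7 : r⁻¹ * x⁻¹ * r * x ∈ Z1 := by
    rw [← QuotientGroup.eq_one_iff]; exact h5
  exact hZ1c h7

/-- the `p`-power map is constant on cosets of a normal elementary abelian subgroup of order `p²`
(`p` odd) -/
theorem mul_pow_prime_of_normal_sq (hodd : p ≠ 2) (hH : IsPGroup p H) (R : Subgroup H)
    [hRn : R.Normal] (hRe : ∀ a ∈ R, a ^ p = 1)
    (hRcard : Nat.card R = p ^ 2) (x r : H) (hr : r ∈ R) : (x * r) ^ p = x ^ p := by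
  have hp : p.Prime := Fact.out
  set c := r⁻¹ * x⁻¹ * r * x with hc
  have hcc : c ∈ Subgroup.center H := comm_mem_center_of_normal_sq hH R hRcard x r hr
  have hcR : c ∈ R := by
    have h1 : x⁻¹ * r * x⁻¹⁻¹ ∈ R := hRn.conj_mem r hr x⁻¹
    rw [inv_inv] at h1
    have h2 : c = r⁻¹ * (x⁻¹ * r * x) := by rw [hc]; group
    rw [h2]
    exact R.mul_mem (R.inv_mem hr) h1
  rw [Subgroup.mem_center_iff] at hcc
  have hcx : Commute c x := (hcc x).symm
  have hcr : Commute c r := (hcc r).symm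
  rw [mul_pow_class_two x r c hc hcx hcr p, hRe r hr, mul_one]
  obtain ⟨k, hk⟩ := dvd_tri_of_odd_prime p hp hodd
  rw [hk, pow_mul, hRe c hcR, one_pow, mul_one]

end RTrick

section Fibers
variable {K : Type*} [Group K] [Finite K]

/-- summation over fibers of a power map -/
theorem dvd_card_pow_mem_of_fibers (d n : ℕ) (S : Set K)
    (h : ∀ c ∈ S, d ∣ Nat.card {x : K // x ^ n = c}) : d ∣ Nat.card {x : K // x ^ n ∈ S} := by
  classical
  have : Fintype K := Fintype.ofFinite K
  rw [Nat.card_eq_fintype_card, Fintype.card_subtype]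
  rw [Finset.card_eq_sum_card_fiberwise (f := fun x : K => x ^ n)
    (t := Finset.univ.filter (fun c => c ∈ S)) (by
      intro x hx
      simp only [Finset.coe_filter, Finset.mem_univ, true_and, Set.mem_ofPred_eq] at hx ⊢
      exact hx)]
  apply Finset.dvd_sum
  intro c hc
  simp only [Finset.mem_filter, Finset.mem_univ, true_and] at hc
  have h1 : (Finset.filter (fun x : K => x ^ n = c)
      (Finset.filter (fun x : K => x ^ n ∈ S) Finset.univ)) =
      Finset.filter (fun x : K => x ^ n = c) Finset.univ := by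
    ext x
    simp only [Finset.mem_filter, Finset.mem_univ, true_and]
    constructor
    · exact fun hx => hx.2
    · intro hx
      exact ⟨hx ▸ hc, hx⟩
  rw [h1, ← Fintype.card_subtype, ← Nat.card_eq_fintype_card]
  exact h c hc

/-- `orderOf x = p ^ (j + 1)` iff `x ^ p ^ j` has order `p` -/
theorem orderOf_eq_prime_pow_succ_iff (p : ℕ) (hp : p.Prime) (j : ℕ) (x : K) :
    orderOf x = p ^ (j + 1) ↔ orderOf (x ^ p ^ j) = p := by
  constructor
  · intro h
    rw [orderOf_pow_of_dvd (pow_pos hp.pos j).ne' (h ▸ pow_dvd_pow p (Nat.le_succ j)), h,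
      pow_succ, Nat.mul_div_cancel_left _ (pow_pos hp.pos j)]
  · intro h
    have hd : p ∣ orderOf (x ^ p ^ j) := by rw [h]
    have := orderOf_eq_of_pow_eq p j hp x (x ^ p ^ j) rfl hd
    rw [this, h, pow_succ]

/-- the number of elements of order `p ^ (j+1)` is divisible by `p ^ j` -/
theorem pow_dvd_card_orderOf_eq_pow_succ (p : ℕ) (hp : p.Prime) (j : ℕ) :
    p ^ j ∣ Nat.card {x : K // orderOf x = p ^ (j + 1)} := by
  have e : {x : K // orderOf x = p ^ (j + 1)} ≃ {x : K // x ^ p ^ j ∈ {c : K | orderOf c = p}} :=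
    Equiv.subtypeEquivRight (fun x => orderOf_eq_prime_pow_succ_iff p hp j x)
  rw [Nat.card_congr e]
  apply dvd_card_pow_mem_of_fibers
  intro c hc
  exact pow_dvd_card_pow_eq p j hp c (hc ▸ dvd_refl p)

end Fibers

section PGroup
variable {H : Type*} [Group H] [Finite H] {p : ℕ} [Fact p.Prime]

/-- fibers of `x ↦ x ^ p ^ j` in a `p`-group have size divisible by `p ^ j` -/
theorem pow_dvd_card_pow_mem (hH : IsPGroup p H) (j : ℕ) (hj : p ^ j ∣ Nat.card H) (S : Set H) :
    p ^ j ∣ Nat.card {x : H // x ^ p ^ j ∈ S} := by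
  have hp : p.Prime := Fact.out
  apply dvd_card_pow_mem_of_fibers
  intro c _
  by_cases hc : c = 1
  · subst hc
    have h1 := frobenius_prime_pow_aux p hp j (Nat.card H) H rfl
    rwa [Nat.gcd_eq_left hj] at h1
  · exact pow_dvd_card_pow_eq p j hp c (hH.dvd_orderOf hc)

/-- **Kulakoff**: in a non-cyclic `p`-group, `p` odd, fibers of `x ↦ x ^ p ^ j`, `1 ≤ j`, have size
divisible by `p ^ (j + 1)` (as long as this divides the order). -/
theorem pow_succ_dvd_card_pow_mem (hodd : p ≠ 2) (hH : IsPGroup p H) (hnc : ¬ IsCyclic H) (j : ℕ)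
    (hj1 : 1 ≤ j) (hj : p ^ (j + 1) ∣ Nat.card H) (S : Set H) :
    p ^ (j + 1) ∣ Nat.card {x : H // x ^ p ^ j ∈ S} := by
  have hp : p.Prime := Fact.out
  have hnc' : ¬ IsCyclic (⊤ : Subgroup H) := by
    intro h
    exact hnc (isCyclic_of_surjective (Subgroup.topEquiv : (⊤ : Subgroup H) ≃* H)
      Subgroup.topEquiv.surjective)
  obtain ⟨R, -, hRn, -, hRe, hRcard⟩ := Cfsg.Agent.S0636.main hodd hH ⊤ hnc'
  obtain ⟨i, rfl⟩ : ∃ i, j = i + 1 := ⟨j - 1, by omega⟩
  set Sb : Set (H ⧸ R) := {y | (y.out) ^ p ∈ S} with hSb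
  have key : ∀ x : H, x ^ p ^ (i + 1) ∈ S ↔ (QuotientGroup.mk x : H ⧸ R) ^ p ^ i ∈ Sb := by
    intro x
    obtain ⟨y, hy⟩ : ∃ y : H ⧸ R, y = (QuotientGroup.mk x : H ⧸ R) ^ p ^ i := ⟨_, rfl⟩
    have h1 : (QuotientGroup.mk y.out : H ⧸ R) = QuotientGroup.mk (x ^ p ^ i) := by
      rw [QuotientGroup.out_eq', hy]; rfl
    have h2 : (x ^ p ^ i)⁻¹ * y.out ∈ R := by
      rw [← QuotientGroup.eq]; exact h1.symm
    have h3 : y.out = x ^ p ^ i * ((x ^ p ^ i)⁻¹ * y.out) := by group
    have h4 : y.out ^ p = x ^ p ^ (i + 1) := by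
      rw [h3, mul_pow_prime_of_normal_sq hodd hH R hRe hRcard _ _ h2, ← pow_mul, ← pow_succ]
    rw [← hy, hSb, Set.mem_ofPred_eq, h4]
  have hset : {x : H | x ^ p ^ (i + 1) ∈ S} =
      (QuotientGroup.mk : H → H ⧸ R) ⁻¹' {y : H ⧸ R | y ^ p ^ i ∈ Sb} := by
    ext x
    exact key x
  have hcard := QuotientGroup.card_preimage_mk R {y : H ⧸ R | y ^ p ^ i ∈ Sb}
  rw [← hset] at hcard
  have hcard' : Nat.card {x : H // x ^ p ^ (i + 1) ∈ S} =
      Nat.card R * Nat.card {y : H ⧸ R // y ^ p ^ i ∈ Sb} := hcard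
  rw [hcard', hRcard]
  have hq : p ^ i ∣ Nat.card (H ⧸ R) := by
    have h1 := Subgroup.card_eq_card_quotient_mul_card_subgroup R
    rw [h1, hRcard] at hj
    have h2 : p ^ (i + 1 + 1) = p ^ i * p ^ 2 := by ring
    rw [h2] at hj
    exact Nat.dvd_of_mul_dvd_mul_right (pow_pos hp.pos 2) hj
  have h5 := pow_dvd_card_pow_mem (hH.to_quotient R) i hq Sb
  have h6 : p ^ (i + 1 + 1) = p ^ 2 * p ^ i := by ring
  rw [h6]
  exact Nat.mul_dvd_mul_left _ h5

/-- **Kulakoff / Miller**: in a non-cyclic `p`-group, `p` odd, the number of elements of order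
`p ^ s`, `2 ≤ s`, is divisible by `p ^ s`. -/
theorem pow_dvd_card_orderOf_eq_of_not_isCyclic (hodd : p ≠ 2) (hH : IsPGroup p H)
    (hnc : ¬ IsCyclic H) (s : ℕ) (hs : 2 ≤ s) :
    p ^ s ∣ Nat.card {x : H // orderOf x = p ^ s} := by
  have hp : p.Prime := Fact.out
  obtain ⟨j, rfl⟩ : ∃ j, s = j + 1 := ⟨s - 1, by omega⟩
  by_cases hd : p ^ (j + 1) ∣ Nat.card H
  · have e : {x : H // orderOf x = p ^ (j + 1)} ≃
        {x : H // x ^ p ^ j ∈ {c : H | orderOf c = p}} :=
      Equiv.subtypeEquivRight (fun x => orderOf_eq_prime_pow_succ_iff p hp j x)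
    rw [Nat.card_congr e]
    exact pow_succ_dvd_card_pow_mem hodd hH hnc j (by omega) hd _
  · have : IsEmpty {x : H // orderOf x = p ^ (j + 1)} := by
      refine ⟨fun x => hd ?_⟩
      rw [← x.2]
      exact orderOf_dvd_natCard x.1
    rw [Nat.card_of_isEmpty]
    exact dvd_zero _

end PGroup

section SylowCount
variable {K : Type*} [Group K] [Finite K] {p : ℕ} [Fact p.Prime]

open MulAction

/-- the number of elements of order `p ^ (j+1)` outside a fixed Sylow `p`-subgroup is divisible by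
`p ^ (j+1)` -/
theorem pow_dvd_card_orderOf_eq_not_mem_sylow (Q : Sylow p K) (j : ℕ) :
    p ^ (j + 1) ∣ Nat.card {x : K // orderOf x = p ^ (j + 1) ∧ x ∉ (Q : Subgroup K)} := by
  classical
  have hp : p.Prime := Fact.out
  let act : MulAction ↥(Q : Subgroup K) (Subgroup K) :=
    MulAction.compHom (Subgroup K) ((MulAut.conj : K →* MulAut K).comp (Q : Subgroup K).subtype)
  have hsmul : ∀ (q : ↥(Q : Subgroup K)) (Z : Subgroup K), q • Z = MulAut.conj (q : K) • Z :=
    fun _ _ => rfl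
  have : Fintype (Subgroup K) := Fintype.ofFinite _
  set f : {x : K // orderOf x = p ^ (j + 1) ∧ x ∉ (Q : Subgroup K)} → Subgroup K :=
    fun x => Subgroup.zpowers x.1 with hf
  rw [← Nat.card_congr (Equiv.sigmaFiberEquiv f), Nat.card_sigma]
  apply dvd_sum_of_dvd_index_mul (G := ↥(Q : Subgroup K))
    (fun Z => Nat.card {x : {x : K // orderOf x = p ^ (j + 1) ∧ x ∉ (Q : Subgroup K)} // f x = Z})
  · -- invariance
    intro q Z
    apply Nat.card_congr
    have hconj : ∀ (g : K) (x : K), Subgroup.zpowers (g * x * g⁻¹) =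
        MulAut.conj g • Subgroup.zpowers x := by
      intro g x
      have := MonoidHom.map_zpowers (MulAut.conj g).toMonoidHom x
      rw [Subgroup.pointwise_smul_def]
      exact this.symm
    refine ⟨fun x => ⟨⟨(q : K)⁻¹ * x.1.1 * (q : K), ?_, ?_⟩, ?_⟩,
      fun x => ⟨⟨(q : K) * x.1.1 * (q : K)⁻¹, ?_, ?_⟩, ?_⟩, ?_, ?_⟩
    · have h1 : orderOf ((q : K)⁻¹ * x.1.1 * (q : K)) = orderOf x.1.1 := by
        have := (MulAut.conj (q : K)⁻¹).orderOf_eq x.1.1
        rwa [MulAut.conj_apply, inv_inv] at this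
      rw [h1]; exact x.1.2.1
    · intro h
      apply x.1.2.2
      have h2 := (Q : Subgroup K).mul_mem ((Q : Subgroup K).mul_mem q.2 h)
        ((Q : Subgroup K).inv_mem q.2)
      have h3 : (q : K) * ((q : K)⁻¹ * x.1.1 * (q : K)) * (q : K)⁻¹ = x.1.1 := by group
      rwa [h3] at h2
    · have hx := x.2
      change Subgroup.zpowers x.1.1 = q • Z at hx
      change Subgroup.zpowers ((q : K)⁻¹ * x.1.1 * (q : K)) = Z
      have h4 := hconj (q : K)⁻¹ x.1.1
      rw [inv_inv] at h4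
      rw [h4, hx, hsmul, ← mul_smul, ← map_mul, inv_mul_cancel, map_one, one_smul]
    · have h1 : orderOf ((q : K) * x.1.1 * (q : K)⁻¹) = orderOf x.1.1 := by
        have := (MulAut.conj (q : K)).orderOf_eq x.1.1
        rwa [MulAut.conj_apply] at this
      rw [h1]; exact x.1.2.1
    · intro h
      apply x.1.2.2
      have h2 := (Q : Subgroup K).mul_mem ((Q : Subgroup K).mul_mem ((Q : Subgroup K).inv_mem q.2) h)
        q.2
      have h3 : (q : K)⁻¹ * ((q : K) * x.1.1 * (q : K)⁻¹) * (q : K) = x.1.1 := by group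
      rwa [h3] at h2
    · have hx := x.2
      change Subgroup.zpowers x.1.1 = Z at hx
      change Subgroup.zpowers ((q : K) * x.1.1 * (q : K)⁻¹) = q • Z
      rw [hconj, hx, hsmul]
    · intro x
      apply Subtype.ext
      apply Subtype.ext
      change (q : K) * ((q : K)⁻¹ * x.1.1 * (q : K)) * (q : K)⁻¹ = x.1.1
      group
    · intro x
      apply Subtype.ext
      apply Subtype.ext
      change (q : K)⁻¹ * ((q : K) * x.1.1 * (q : K)⁻¹) * (q : K) = x.1.1
      group
  · intro Z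
    by_cases hne : Nonempty {x : {x : K // orderOf x = p ^ (j + 1) ∧ x ∉ (Q : Subgroup K)} // f x = Z}
    swap
    · rw [not_nonempty_iff] at hne
      rw [Nat.card_of_isEmpty, mul_zero]
      exact dvd_zero _
    obtain ⟨⟨x₀, hx₀⟩⟩ := hne
    change Subgroup.zpowers x₀.1 = Z at hx₀
    have hZcard : Nat.card Z = p ^ (j + 1) := by
      rw [← hx₀, Nat.card_zpowers, x₀.2.1]
    have hZeq : ∀ y : K, y ∈ Z → orderOf y = p ^ (j + 1) → Subgroup.zpowers y = Z := by
      intro y hy hyo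
      apply Subgroup.eq_of_le_of_card_ge
      · rw [Subgroup.zpowers_le]; exact hy
      · rw [hZcard, Nat.card_zpowers, hyo]
    have hZQ : ¬ Z ≤ (Q : Subgroup K) := by
      intro h
      apply x₀.2.2
      apply h
      rw [← hx₀]
      exact Subgroup.mem_zpowers _
    -- stabilizer is proper
    have hst : stabilizer ↥(Q : Subgroup K) Z ≠ ⊤ := by
      intro htop
      apply hZQ
      have hnorm : (Q : Subgroup K) ≤ Subgroup.normalizer (Z : Set K) := by
        intro q hq
        have h1 : (⟨q, hq⟩ : ↥(Q : Subgroup K)) ∈ stabilizer ↥(Q : Subgroup K) Z := by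
          rw [htop]; exact Subgroup.mem_top _
        rw [mem_stabilizer_iff, hsmul] at h1
        rw [Subgroup.mem_normalizer_iff_map_conj_eq]
        exact h1
      have hZp : IsPGroup p Z := IsPGroup.of_card hZcard
      have h3 : IsPGroup p ((Q : Subgroup K) ⊔ Z : Subgroup K) :=
        Q.isPGroup'.to_sup_of_normal_right' hZp hnorm
      have h4 := Q.is_maximal' h3 le_sup_left
      rw [← h4]
      exact le_sup_right
    obtain ⟨k, hk⟩ := (Q.isPGroup').index (stabilizer ↥(Q : Subgroup K) Z)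
    have hk0 : k ≠ 0 := by
      rintro rfl
      rw [pow_zero, Subgroup.index_eq_one] at hk
      exact hst hk
    -- weight
    have hw : p ^ j ∣ Nat.card
        {x : {x : K // orderOf x = p ^ (j + 1) ∧ x ∉ (Q : Subgroup K)} // f x = Z} := by
      have e : {x : {x : K // orderOf x = p ^ (j + 1) ∧ x ∉ (Q : Subgroup K)} // f x = Z} ≃
          {y : ↥Z // orderOf y = p ^ (j + 1)} := by
        refine ⟨fun x => ⟨⟨x.1.1, ?_⟩, ?_⟩, fun y => ⟨⟨y.1.1, ?_, ?_⟩, ?_⟩, ?_, ?_⟩
        · have hx : Subgroup.zpowers x.1.1 = Z := x.2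
          exact hx.le (Subgroup.mem_zpowers _)
        · rw [Subgroup.orderOf_mk]; exact x.1.2.1
        · rw [Subgroup.orderOf_coe]; exact y.2
        · intro h
          apply hZQ
          rw [← hZeq y.1.1 y.1.2 (by rw [Subgroup.orderOf_coe]; exact y.2), Subgroup.zpowers_le]
          exact h
        · exact hZeq y.1.1 y.1.2 (by rw [Subgroup.orderOf_coe]; exact y.2)
        · intro x; rfl
        · intro y; rfl
      rw [Nat.card_congr e]
      exact pow_dvd_card_orderOf_eq_pow_succ p hp j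
    obtain ⟨k', rfl⟩ : ∃ k', k = k' + 1 := ⟨k - 1, by omega⟩
    rw [hk]
    obtain ⟨t, ht⟩ := hw
    rw [ht]
    exact ⟨p ^ k' * t, by ring⟩

/-- splitting a subtype count along a predicate -/
theorem card_subtype_eq_add {α : Type*} [Finite α] (P A : α → Prop) :
    Nat.card {x : α // P x} = Nat.card {x : α // P x ∧ A x} + Nat.card {x : α // P x ∧ ¬ A x} := by
  classical
  have e1 : {x : α // P x} ≃
      {a : {x : α // P x} // A a.1} ⊕ {a : {x : α // P x} // ¬ A a.1} :=
    (Equiv.sumCompl (fun a : {x : α // P x} => A a.1)).symm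
  rw [Nat.card_congr e1, Nat.card_sum,
    Nat.card_congr (Equiv.subtypeSubtypeEquivSubtypeInter P A),
    Nat.card_congr (Equiv.subtypeSubtypeEquivSubtypeInter P (fun x => ¬ A x))]

/-- **Miller**: if the Sylow `p`-subgroups (`p` odd) are not cyclic, the number of elements of order
`p ^ s`, `2 ≤ s`, is divisible by `p ^ s`. -/
theorem pow_dvd_card_orderOf_eq_of_sylow_not_isCyclic (hodd : p ≠ 2) (Q : Sylow p K)
    (hQ : ¬ IsCyclic ↥(Q : Subgroup K)) (s : ℕ) (hs : 2 ≤ s) :
    p ^ s ∣ Nat.card {x : K // orderOf x = p ^ s} := by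
  obtain ⟨j, rfl⟩ : ∃ j, s = j + 1 := ⟨s - 1, by omega⟩
  rw [card_subtype_eq_add (fun x : K => orderOf x = p ^ (j + 1)) (fun x => x ∈ (Q : Subgroup K))]
  apply Nat.dvd_add
  · have e : {x : K // orderOf x = p ^ (j + 1) ∧ x ∈ (Q : Subgroup K)} ≃
        {y : ↥(Q : Subgroup K) // orderOf y = p ^ (j + 1)} := by
      refine ⟨fun x => ⟨⟨x.1, x.2.2⟩, ?_⟩, fun y => ⟨y.1.1, ?_, y.1.2⟩, ?_, ?_⟩
      · rw [Subgroup.orderOf_mk]; exact x.2.1
      · rw [Subgroup.orderOf_coe]; exact y.2
      · intro x; rfl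
      · intro y; rfl
    rw [Nat.card_congr e]
    exact pow_dvd_card_orderOf_eq_of_not_isCyclic hodd Q.isPGroup' hQ (j + 1) hs
  · exact pow_dvd_card_orderOf_eq_not_mem_sylow Q j

end SylowCount

section Decomp2
variable {G : Type*} [Group G] [Finite G]

/-- decomposition of the elements of order `u * v` (`u`, `v` coprime) into commuting parts of orders
`v` and `u` -/
theorem decomp_orderOf_equiv (u v : ℕ) (huv : Nat.Coprime u v) :
    Nonempty ({g : G // orderOf g = u * v} ≃
      Σ y : {y : G // orderOf y = v}, {z : G // Commute y.1 z ∧ orderOf z = u}) := by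
  obtain ⟨e, he0, he1⟩ := Nat.chineseRemainder huv 0 1
  have hue : u ∣ e := (Nat.modEq_zero_iff_dvd).mp he0
  have hy_ord : ∀ g : G, orderOf g = u * v → orderOf (g ^ e) = v := by
    intro g hg
    have hpos : 0 < u * v := hg ▸ orderOf_pos g
    have hu : 0 < u := Nat.pos_of_mul_pos_right hpos
    rw [orderOf_pow, hg, Nat.gcd_comm, Nat.Coprime.gcd_mul e huv, Nat.gcd_eq_right hue,
      he1.gcd_eq, Nat.gcd_one_left, mul_one, Nat.mul_div_cancel_left v hu]
  have hz_ord : ∀ g : G, orderOf g = u * v → orderOf (g * (g ^ e)⁻¹) = u := by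
    intro g hg
    have hpos : 0 < u * v := hg ▸ orderOf_pos g
    have hv : 0 < v := Nat.pos_of_mul_pos_left hpos
    have h1 : (g * (g ^ e)⁻¹) ^ u = 1 :=
      decomp_aux3 u v e he1 g (by rw [← hg]; exact pow_orderOf_eq_one g)
    have h2 : orderOf (g * (g ^ e)⁻¹) ∣ u := orderOf_dvd_of_pow_eq_one h1
    have h3 : g ^ e * (g * (g ^ e)⁻¹) = g := by
      rw [(decomp_aux2 e g).eq, mul_assoc, inv_mul_cancel, mul_one]
    have h4 := (decomp_aux2 e g).orderOf_mul_dvd_lcm
    rw [h3, hg, hy_ord g hg] at h4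
    have h5 : u * v ∣ v * orderOf (g * (g ^ e)⁻¹) := h4.trans (Nat.lcm_dvd_mul _ _)
    rw [mul_comm u v] at h5
    have h6 : u ∣ orderOf (g * (g ^ e)⁻¹) := Nat.dvd_of_mul_dvd_mul_left hv h5
    exact Nat.dvd_antisymm h2 h6
  refine ⟨⟨fun g => ⟨⟨g.1 ^ e, hy_ord g.1 g.2⟩,
      ⟨g.1 * (g.1 ^ e)⁻¹, decomp_aux2 e g.1, hz_ord g.1 g.2⟩⟩,
    fun yz => ⟨yz.1.1 * yz.2.1, ?_⟩, ?_, ?_⟩⟩
  · have hco : (orderOf yz.1.1).Coprime (orderOf yz.2.1) := by
      rw [yz.1.2, yz.2.2.2]; exact huv.symm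
    have hc : Commute yz.1.1 yz.2.1 := yz.2.2.1
    rw [hc.orderOf_mul_eq_mul_orderOf_of_coprime hco, yz.1.2, yz.2.2.2, mul_comm]
  · intro g
    apply Subtype.ext
    change g.1 ^ e * (g.1 * (g.1 ^ e)⁻¹) = g.1
    rw [(decomp_aux2 e g.1).eq, mul_assoc, inv_mul_cancel, mul_one]
  · rintro ⟨⟨y, hy⟩, ⟨z, hyz, hz⟩⟩
    have hyz' : Commute y z := hyz
    have hyv : y ^ v = 1 := by rw [← hy]; exact pow_orderOf_eq_one y
    have hzu : z ^ u = 1 := by rw [← hz]; exact pow_orderOf_eq_one z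
    have h3 : (y * z) ^ e = y := decomp_aux5 u v e hue he1 y z hyv hzu hyz'
    have h4 : y * z * ((y * z) ^ e)⁻¹ = z := by
      rw [h3, hyz'.eq, mul_assoc, mul_inv_cancel, mul_one]
    apply Sigma.subtype_ext
    · apply Subtype.ext
      exact h3
    · exact h4

end Decomp2

section Main
variable {G : Type*} [Group G] [Finite G] {p : ℕ} [Fact p.Prime]

open MulAction

omit [Finite G] in
/-- elements of order `p ^ s` commuting with `y` versus elements of order `p ^ s` of the
centralizer -/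
theorem card_commute_orderOf_eq_centralizer (n : ℕ) (y : G) :
    Nat.card {z : G // Commute y z ∧ orderOf z = n} =
      Nat.card {z : Subgroup.centralizer ({y} : Set G) // orderOf z = n} := by
  apply Nat.card_congr
  refine ⟨fun z => ⟨⟨z.1, ?_⟩, ?_⟩, fun z => ⟨z.1.1, ?_, ?_⟩, ?_, ?_⟩
  · rw [Subgroup.mem_centralizer_singleton_iff]
    exact z.2.1.eq.symm
  · rw [Subgroup.orderOf_mk]; exact z.2.2
  · have := z.1.2
    rw [Subgroup.mem_centralizer_singleton_iff] at this
    exact this.symm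
  · rw [Subgroup.orderOf_coe]; exact z.2
  · intro z; rfl
  · intro z; rfl

/-- **Miller / Kulakoff counting**: if the Sylow `p`-subgroups (`p` odd) of `G` are not cyclic,
`2 ≤ s` and `m` is prime to `p`, the number of elements of order `p ^ s * m` is divisible by
`p ^ s`. -/
theorem pow_dvd_card_orderOf_eq_pow_mul (hodd : p ≠ 2) (P : Sylow p G)
    (hP : ¬ IsCyclic ↥(P : Subgroup G)) (s m : ℕ) (hs : 2 ≤ s) (hm : Nat.Coprime p m) :
    p ^ s ∣ Nat.card {g : G // orderOf g = p ^ s * m} := by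
  classical
  have hp : p.Prime := Fact.out
  obtain ⟨e⟩ := decomp_orderOf_equiv (G := G) (p ^ s) m (Nat.Coprime.pow_left s hm)
  have : Fintype {y : G // orderOf y = m} := Fintype.ofFinite _
  rw [Nat.card_congr e, Nat.card_sigma]
  let act : MulAction ↥(P : Subgroup G) {y : G // orderOf y = m} :=
    { smul := fun q y => ⟨(q : G) * y.1 * (q : G)⁻¹, by
        have := (MulAut.conj (q : G)).orderOf_eq y.1
        rw [MulAut.conj_apply] at this
        rw [this]; exact y.2⟩
      one_smul := fun y => by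
        apply Subtype.ext
        change ((1 : ↥(P : Subgroup G)) : G) * y.1 * ((1 : ↥(P : Subgroup G)) : G)⁻¹ = y.1
        simp
      mul_smul := fun q q' y => by
        apply Subtype.ext
        change ((q * q' : ↥(P : Subgroup G)) : G) * y.1 * ((q * q' : ↥(P : Subgroup G)) : G)⁻¹ =
          (q : G) * ((q' : G) * y.1 * (q' : G)⁻¹) * (q : G)⁻¹
        rw [Subgroup.coe_mul]
        group }
  have hsmul : ∀ (q : ↥(P : Subgroup G)) (y : {y : G // orderOf y = m}),
      ((q • y : {y : G // orderOf y = m}) : G) = (q : G) * y.1 * (q : G)⁻¹ := fun _ _ => rfl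
  apply dvd_sum_of_dvd_index_mul (G := ↥(P : Subgroup G))
    (fun y : {y : G // orderOf y = m} => Nat.card {z : G // Commute y.1 z ∧ orderOf z = p ^ s})
  · intro q y
    apply Nat.card_congr
    refine ⟨fun z => ⟨(q : G)⁻¹ * z.1 * (q : G), ?_, ?_⟩,
      fun z => ⟨(q : G) * z.1 * (q : G)⁻¹, ?_, ?_⟩, ?_, ?_⟩
    · have h1 : Commute ((q : G) * y.1 * (q : G)⁻¹) z.1 := z.2.1
      have h2 : y.1 * ((q : G)⁻¹ * z.1 * (q : G)) =
          (q : G)⁻¹ * ((q : G) * y.1 * (q : G)⁻¹ * z.1) * (q : G) := by group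
      have h3 : (q : G)⁻¹ * z.1 * (q : G) * y.1 =
          (q : G)⁻¹ * (z.1 * ((q : G) * y.1 * (q : G)⁻¹)) * (q : G) := by group
      change y.1 * ((q : G)⁻¹ * z.1 * (q : G)) = (q : G)⁻¹ * z.1 * (q : G) * y.1
      rw [h2, h3, h1.eq]
    · have := (MulAut.conj (q : G)⁻¹).orderOf_eq z.1
      rw [MulAut.conj_apply, inv_inv] at this
      rw [this]; exact z.2.2
    · have h1 : Commute y.1 z.1 := z.2.1
      rw [hsmul]
      have h2 : (q : G) * y.1 * (q : G)⁻¹ * ((q : G) * z.1 * (q : G)⁻¹) =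
          (q : G) * (y.1 * z.1) * (q : G)⁻¹ := by group
      have h3 : (q : G) * z.1 * (q : G)⁻¹ * ((q : G) * y.1 * (q : G)⁻¹) =
          (q : G) * (z.1 * y.1) * (q : G)⁻¹ := by group
      change (q : G) * y.1 * (q : G)⁻¹ * ((q : G) * z.1 * (q : G)⁻¹) =
        (q : G) * z.1 * (q : G)⁻¹ * ((q : G) * y.1 * (q : G)⁻¹)
      rw [h2, h3, h1.eq]
    · have := (MulAut.conj (q : G)).orderOf_eq z.1
      rw [MulAut.conj_apply] at this
      rw [this]; exact z.2.2
    · intro z
      apply Subtype.ext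
      change (q : G) * ((q : G)⁻¹ * z.1 * (q : G)) * (q : G)⁻¹ = z.1
      group
    · intro z
      apply Subtype.ext
      change (q : G)⁻¹ * ((q : G) * z.1 * (q : G)⁻¹) * (q : G) = z.1
      group
  · intro y
    rw [card_commute_orderOf_eq_centralizer]
    by_cases hst : stabilizer ↥(P : Subgroup G) y = ⊤
    · have hle : (P : Subgroup G) ≤ Subgroup.centralizer ({y.1} : Set G) := by
        intro q hq
        have h1 : (⟨q, hq⟩ : ↥(P : Subgroup G)) ∈ stabilizer ↥(P : Subgroup G) y := by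
          rw [hst]; exact Subgroup.mem_top _
        rw [mem_stabilizer_iff] at h1
        have h2 : q * y.1 * q⁻¹ = y.1 := by
          have := congrArg Subtype.val h1
          rwa [hsmul] at this
        rw [Subgroup.mem_centralizer_singleton_iff]
        calc q * y.1 = q * y.1 * q⁻¹ * q := by group
          _ = y.1 * q := by rw [h2]
      have hP' : ¬ IsCyclic ↥((P.subtype hle : Sylow p ↥(Subgroup.centralizer ({y.1} : Set G))) :
          Subgroup ↥(Subgroup.centralizer ({y.1} : Set G))) := by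
        intro hc
        rw [Sylow.coe_subtype] at hc
        exact hP (isCyclic_of_surjective (Subgroup.subgroupOfEquivOfLe hle)
          (Subgroup.subgroupOfEquivOfLe hle).surjective)
      exact Dvd.dvd.mul_left
        (pow_dvd_card_orderOf_eq_of_sylow_not_isCyclic hodd (P.subtype hle) hP' s hs) _
    · obtain ⟨k, hk⟩ := (P.isPGroup').index (stabilizer ↥(P : Subgroup G) y)
      have hk0 : k ≠ 0 := by
        rintro rfl
        rw [pow_zero, Subgroup.index_eq_one] at hk
        exact hst hk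
      obtain ⟨k', rfl⟩ : ∃ k', k = k' + 1 := ⟨k - 1, by omega⟩
      obtain ⟨j, rfl⟩ : ∃ j, s = j + 1 := ⟨s - 1, by omega⟩
      obtain ⟨t, ht⟩ := pow_dvd_card_orderOf_eq_pow_succ
        (K := Subgroup.centralizer ({y.1} : Set G)) p hp j
      rw [hk, ht]
      exact ⟨p ^ k' * t, by ring⟩

end Main

end Cfsg.Agent.Helper66
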