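import Mathlib

/-!
# O2520 piece C5b (S0984): a normal subgroup of order 15 contains a normal subgroup of order 5 of the
whole group.
-/

set_option autoImplicit false

universe u

namespace Cfsg.Agent.Helper66.O2520

/-- (C5b) the Sylow 5-subgroup of a normal subgroup of order 15 is unique, hence characteristic in it,
hence normal in the whole group -/
theorem normal5_of_normal15 {J : Type u} [Group J] [Finite J] (N : Subgroup J) (hN : N.Normal)
    (hN15 : Nat.card N = 15) : ∃ R : Subgroup J, R.Normal ∧ Nat.card R = 5 := by
  have : Fact (Nat.Prime 5) := ⟨by norm_num⟩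
  obtain ⟨Q⟩ : Nonempty (Sylow 5 N) := inferInstance
  have hfac : (Nat.card N).factorization 5 = 1 := by
    rw [hN15, show (15 : ℕ) = 3 * 5 from rfl, Nat.factorization_mul (by norm_num) (by norm_num)]
    have h1 : (Nat.factorization 3) 5 = 0 := by
      rw [Nat.Prime.factorization (by norm_num : Nat.Prime 3)]
      simp
    have h2 : (Nat.factorization 5) 5 = 1 := by
      rw [Nat.Prime.factorization (by norm_num : Nat.Prime 5)]
      simp
    simp [h1, h2]
  have hQ : Nat.card (Q : Subgroup N) = 5 := by
    rw [Sylow.card_eq_multiplicity, hfac, pow_one]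
  -- the number of Sylow 5-subgroups of `N` divides 3 and is 1 mod 5
  have hdvd : Nat.card (Sylow 5 N) ∣ 3 := by
    have h1 := Q.card_dvd_index
    have h2 : (Q : Subgroup N).index = 3 := by
      have := (Q : Subgroup N).card_mul_index
      rw [hQ, hN15] at this
      omega
    rwa [h2] at h1
  have hmod : Nat.card (Sylow 5 N) ≡ 1 [MOD 5] := card_sylow_modEq_one 5 N
  have hone : Nat.card (Sylow 5 N) = 1 := by
    have hle : Nat.card (Sylow 5 N) ≤ 3 := Nat.le_of_dvd (by norm_num) hdvd
    have hpos : 0 < Nat.card (Sylow 5 N) := Nat.card_pos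
    unfold Nat.ModEq at hmod
    generalize Nat.card (Sylow 5 N) = n at *
    interval_cases n <;> omega
  have : Subsingleton (Sylow 5 N) := (Nat.card_eq_one_iff_unique.1 hone).1
  have hchar : (Q : Subgroup N).Characteristic := Sylow.characteristic_of_subsingleton Q
  have hnorm : ((Q : Subgroup N).map N.subtype).Normal :=
    ConjAct.normal_of_characteristic_of_normal
  refine ⟨(Q : Subgroup N).map N.subtype, hnorm, ?_⟩
  rw [Subgroup.card_map_of_injective N.subtype_injective]
  exact hQ

end Cfsg.Agent.Helper66.O2520
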