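import Mathlib
import Cfsg.Agent.Lib.Helper18.O3K0

/-!
# O3K (S2363): generic arithmetic step for the exceptional families, and the `E6`, `E7`, `E8` cores
(the order formula is a hypothesis here; `O3K_E6/E7/E8.lean` plug in the landed formulas).
-/

set_option autoImplicit false

namespace Cfsg.Agent.Helper66.O3K

open Cfsg Cfsg.Agent.Helper18.O3K

variable {p : ℕ}

theorem h66_not_dvd_mul (hp : p.Prime) {a b : ℕ} (ha : ¬ p ∣ a) (hb : ¬ p ∣ b) : ¬ p ∣ a * b := by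
  intro h
  rcases (Nat.Prime.dvd_mul hp).1 h with h | h
  · exact ha h
  · exact hb h

theorem h66_mul_lt {q a b x y : ℕ} (ha : a < q ^ x) (hb : b < q ^ y) : a * b < q ^ (x + y) := by
  rw [pow_add]
  exact Nat.mul_lt_mul'' ha hb

theorem h66_sub_one_lt {q : ℕ} (hq : 1 ≤ q) (e : ℕ) : q ^ e - 1 < q ^ e :=
  Nat.sub_lt (pow_pos hq _) one_pos

/-- generic step: `d * |G| = q ^ N * P`, `p ∤ d`, `p ∤ P`, `P < q ^ s`, `3 s ≤ 5 N` -/
theorem h66_concl_gen (hp : p.Prime) {G : Type*} [Group G] [Finite G] (q f : ℕ) (hq : q = p ^ f)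
    (d N s P : ℕ) (h : d * Nat.card G = q ^ N * P) (hd : ¬ p ∣ d) (hP : ¬ p ∣ P)
    (hPlt : P < q ^ s) (hs : 3 * s ≤ 5 * N) : Concl p G := by
  have hd0 : 1 ≤ d := Nat.pos_of_ne_zero (by rintro rfl; exact hd (dvd_zero p))
  have hq1 : 1 ≤ q := by rw [hq]; exact pow_pos hp.pos f
  refine concl_of_mul hp d (f * N) P ?_ hd hP ?_
  · rw [h, hq, ← pow_mul]
  · have h1 : P ^ 3 < (q ^ s) ^ 3 := Nat.pow_lt_pow_left hPlt (by norm_num)
    have h2 : (q ^ s) ^ 3 = q ^ (3 * s) := by rw [← pow_mul, mul_comm]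
    have h3 : q ^ (3 * s) ≤ q ^ (5 * N) := Nat.pow_le_pow_right hq1 hs
    have h4 : q ^ (5 * N) = p ^ (5 * (f * N)) := by
      rw [hq, ← pow_mul]
      congr 1
      ring
    have h5 : p ^ (5 * (f * N)) ≤ d ^ 3 * p ^ (5 * (f * N)) :=
      Nat.le_mul_of_pos_left _ (pow_pos hd0 3)
    calc P ^ 3 < (q ^ s) ^ 3 := h1
      _ = q ^ (3 * s) := h2
      _ ≤ q ^ (5 * N) := h3
      _ = p ^ (5 * (f * N)) := h4
      _ ≤ d ^ 3 * p ^ (5 * (f * N)) := h5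

theorem h66_not_dvd_gcd (hp : p.Prime) {q f : ℕ} (hq : q = p ^ f) (hf : 1 ≤ f) (k : ℕ) :
    ¬ p ∣ Nat.gcd k (q - 1) := by
  intro h
  have h1 : p ∣ q - 1 := h.trans (Nat.gcd_dvd_right k (q - 1))
  have h2 := not_dvd_pow_sub_one hp hq hf (e := 1) le_rfl
  rw [pow_one] at h2
  exact h2 h1

/-- `E6` from its order formula -/
theorem h66_concl_e6_of (hp : p.Prime) (F : Type) [Field F] [Fintype F] [CharP F p]
    (hcard : ∀ q : ℕ, Fintype.card F = q → Nat.gcd 3 (q - 1) * Nat.card ↥(Lie.chevE6.group F) =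
      q ^ 36 * (q ^ 2 - 1) * (q ^ 5 - 1) * (q ^ 6 - 1) * (q ^ 8 - 1) * (q ^ 9 - 1) * (q ^ 12 - 1)) :
    Concl p ↥(Lie.chevE6.group F) := by
  obtain ⟨f, hf, hq⟩ := card_eq_pow hp F
  set q := Fintype.card F with hqdef
  have hq1 : 1 ≤ q := by rw [hq]; exact pow_pos hp.pos f
  have hc := hcard q rfl
  have nd := fun e (he : 1 ≤ e) => not_dvd_pow_sub_one hp hq hf (e := e) he
  refine h66_concl_gen hp q f hq (Nat.gcd 3 (q - 1)) 36 (2 + 5 + 6 + 8 + 9 + 12)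
    ((q ^ 2 - 1) * (q ^ 5 - 1) * (q ^ 6 - 1) * (q ^ 8 - 1) * (q ^ 9 - 1) * (q ^ 12 - 1)) ?_
    (h66_not_dvd_gcd hp hq hf 3) ?_ ?_ (by norm_num)
  · rw [hc]; ring
  · exact h66_not_dvd_mul hp (h66_not_dvd_mul hp (h66_not_dvd_mul hp (h66_not_dvd_mul hp
      (h66_not_dvd_mul hp (nd 2 (by norm_num)) (nd 5 (by norm_num))) (nd 6 (by norm_num)))
      (nd 8 (by norm_num))) (nd 9 (by norm_num))) (nd 12 (by norm_num))
  · exact h66_mul_lt (h66_mul_lt (h66_mul_lt (h66_mul_lt (h66_mul_lt (h66_sub_one_lt hq1 2)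
      (h66_sub_one_lt hq1 5)) (h66_sub_one_lt hq1 6)) (h66_sub_one_lt hq1 8))
      (h66_sub_one_lt hq1 9)) (h66_sub_one_lt hq1 12)

/-- `E7` from its order formula -/
theorem h66_concl_e7_of (hp : p.Prime) (F : Type) [Field F] [Fintype F] [CharP F p]
    (hcard : ∀ q : ℕ, Fintype.card F = q → Nat.gcd 2 (q - 1) * Nat.card ↥(Lie.chevE7.group F) =
      q ^ 63 * (q ^ 2 - 1) * (q ^ 6 - 1) * (q ^ 8 - 1) * (q ^ 10 - 1) * (q ^ 12 - 1) * (q ^ 14 - 1) *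
        (q ^ 18 - 1)) :
    Concl p ↥(Lie.chevE7.group F) := by
  obtain ⟨f, hf, hq⟩ := card_eq_pow hp F
  set q := Fintype.card F with hqdef
  have hq1 : 1 ≤ q := by rw [hq]; exact pow_pos hp.pos f
  have hc := hcard q rfl
  have nd := fun e (he : 1 ≤ e) => not_dvd_pow_sub_one hp hq hf (e := e) he
  refine h66_concl_gen hp q f hq (Nat.gcd 2 (q - 1)) 63 (2 + 6 + 8 + 10 + 12 + 14 + 18)
    ((q ^ 2 - 1) * (q ^ 6 - 1) * (q ^ 8 - 1) * (q ^ 10 - 1) * (q ^ 12 - 1) * (q ^ 14 - 1) *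
      (q ^ 18 - 1)) ?_
    (h66_not_dvd_gcd hp hq hf 2) ?_ ?_ (by norm_num)
  · rw [hc]; ring
  · exact h66_not_dvd_mul hp (h66_not_dvd_mul hp (h66_not_dvd_mul hp (h66_not_dvd_mul hp
      (h66_not_dvd_mul hp (h66_not_dvd_mul hp (nd 2 (by norm_num)) (nd 6 (by norm_num)))
      (nd 8 (by norm_num))) (nd 10 (by norm_num))) (nd 12 (by norm_num))) (nd 14 (by norm_num)))
      (nd 18 (by norm_num))
  · exact h66_mul_lt (h66_mul_lt (h66_mul_lt (h66_mul_lt (h66_mul_lt (h66_mul_lt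
      (h66_sub_one_lt hq1 2) (h66_sub_one_lt hq1 6)) (h66_sub_one_lt hq1 8))
      (h66_sub_one_lt hq1 10)) (h66_sub_one_lt hq1 12)) (h66_sub_one_lt hq1 14))
      (h66_sub_one_lt hq1 18)

/-- `E8` from its order formula -/
theorem h66_concl_e8_of (hp : p.Prime) (F : Type) [Field F] [Fintype F] [CharP F p]
    (hcard : ∀ q : ℕ, Fintype.card F = q → Nat.card ↥(Lie.chevE8.group F) =
      q ^ 120 * (q ^ 2 - 1) * (q ^ 8 - 1) * (q ^ 12 - 1) * (q ^ 14 - 1) * (q ^ 18 - 1) * (q ^ 20 - 1) *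
        (q ^ 24 - 1) * (q ^ 30 - 1)) :
    Concl p ↥(Lie.chevE8.group F) := by
  obtain ⟨f, hf, hq⟩ := card_eq_pow hp F
  set q := Fintype.card F with hqdef
  have hq1 : 1 ≤ q := by rw [hq]; exact pow_pos hp.pos f
  have hc := hcard q rfl
  have nd := fun e (he : 1 ≤ e) => not_dvd_pow_sub_one hp hq hf (e := e) he
  have h1 : ¬ p ∣ 1 := fun h => hp.one_lt.ne' (Nat.dvd_one.mp h)
  refine h66_concl_gen hp q f hq 1 120 (2 + 8 + 12 + 14 + 18 + 20 + 24 + 30)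
    ((q ^ 2 - 1) * (q ^ 8 - 1) * (q ^ 12 - 1) * (q ^ 14 - 1) * (q ^ 18 - 1) * (q ^ 20 - 1) *
      (q ^ 24 - 1) * (q ^ 30 - 1)) ?_ h1 ?_ ?_ (by norm_num)
  · rw [one_mul, hc]; ring
  · exact h66_not_dvd_mul hp (h66_not_dvd_mul hp (h66_not_dvd_mul hp (h66_not_dvd_mul hp
      (h66_not_dvd_mul hp (h66_not_dvd_mul hp (h66_not_dvd_mul hp (nd 2 (by norm_num))
      (nd 8 (by norm_num))) (nd 12 (by norm_num))) (nd 14 (by norm_num))) (nd 18 (by norm_num)))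
      (nd 20 (by norm_num))) (nd 24 (by norm_num))) (nd 30 (by norm_num))
  · exact h66_mul_lt (h66_mul_lt (h66_mul_lt (h66_mul_lt (h66_mul_lt (h66_mul_lt (h66_mul_lt
      (h66_sub_one_lt hq1 2) (h66_sub_one_lt hq1 8)) (h66_sub_one_lt hq1 12))
      (h66_sub_one_lt hq1 14)) (h66_sub_one_lt hq1 18)) (h66_sub_one_lt hq1 20))
      (h66_sub_one_lt hq1 24)) (h66_sub_one_lt hq1 30)

end Cfsg.Agent.Helper66.O3K
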