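import Mathlib
import Cfsg.Agent.S1065
import Cfsg.Agent.Lib.Helper18.O3K0
import Cfsg.Agent.Lib.Helper66.O3K_ECore

/-!
# O3K piece E8 (S2363): `Concl p` for the Chevalley group of type `E8`, from the landed order formula S1065.
-/

set_option autoImplicit false

namespace Cfsg.Agent.Helper66.O3K

open Cfsg Cfsg.Agent.Helper18.O3K

variable {p : ℕ}

theorem concl_e8 (hp : p.Prime) (F : Type) [Field F] [Fintype F] [CharP F p] :
    Concl p ↥(Lie.chevE8.group F) :=
  h66_concl_e8_of hp F (fun _ hq => Cfsg.Agent.S1065.result hq)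

end Cfsg.Agent.Helper66.O3K
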