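import Mathlib

/-!
# O459648 piece B3p (S1022): a group of order `19 * 2 ^ k` with a central subgroup of order 19 has
a unique subgroup of order `2 ^ k`.
-/

set_option autoImplicit false

namespace Cfsg.Agent.Helper66.O459648

/-- (B3p) `Z` central of order 19 in `H` of order `19 * 2 ^ k`: the Sylow 2-subgroup `V` has
`|N_H(V)|` divisible by `2 ^ k` and by 19, so it is normal, so it is the only subgroup of its order -/
theorem order_pow {H : Type*} [Group H] [Finite H] (k : ℕ) (hH : Nat.card H = 19 * 2 ^ k)
    (Z : Subgroup H) (hZ : Nat.card Z = 19) (hZc : Z ≤ Subgroup.center H) :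
    ∃ W : Subgroup H, Nat.card W = 2 ^ k ∧ ∀ W' : Subgroup H, Nat.card W' = 2 ^ k → W' = W := by
  have : Fact (Nat.Prime 2) := ⟨Nat.prime_two⟩
  obtain ⟨V⟩ : Nonempty (Sylow 2 H) := inferInstance
  have h19 : Nat.Prime 19 := by norm_num
  have hfac : (Nat.card H).factorization 2 = k := by
    rw [hH, Nat.factorization_mul (by norm_num) (by positivity), Nat.factorization_pow]
    have h1 : (Nat.factorization 19) 2 = 0 := by
      rw [Nat.Prime.factorization h19]
      simp
    have h2 : (Nat.factorization 2) 2 = 1 := by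
      rw [Nat.Prime.factorization Nat.prime_two]
      simp
    simp [h1, h2]
  have hV : Nat.card (V : Subgroup H) = 2 ^ k := by
    rw [Sylow.card_eq_multiplicity, hfac]
  -- the normalizer of `V` is everything
  have hZN : Z ≤ Subgroup.normalizer ((V : Subgroup H) : Set H) := by
    intro z hz
    have hzc := hZc hz
    rw [Subgroup.mem_center_iff] at hzc
    rw [Subgroup.mem_normalizer_iff]
    intro h
    have : z * h * z⁻¹ = h := by
      rw [← hzc h, mul_inv_cancel_right]
    rw [this]
  have hVN : (V : Subgroup H) ≤ Subgroup.normalizer ((V : Subgroup H) : Set H) :=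
    Subgroup.le_normalizer
  have hd1 : 19 ∣ Nat.card (Subgroup.normalizer ((V : Subgroup H) : Set H)) := by
    rw [← hZ]; exact Subgroup.card_dvd_of_le hZN
  have hd2 : 2 ^ k ∣ Nat.card (Subgroup.normalizer ((V : Subgroup H) : Set H)) := by
    rw [← hV]; exact Subgroup.card_dvd_of_le hVN
  have hcop : Nat.Coprime 19 (2 ^ k) := by
    apply Nat.Coprime.pow_right
    norm_num
  have hd : 19 * 2 ^ k ∣ Nat.card (Subgroup.normalizer ((V : Subgroup H) : Set H)) :=
    hcop.mul_dvd_of_dvd_of_dvd hd1 hd2
  have htop : Subgroup.normalizer ((V : Subgroup H) : Set H) = ⊤ := by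
    apply Subgroup.eq_top_of_le_card
    rw [hH]
    exact Nat.le_of_dvd Nat.card_pos hd
  have hnorm : (V : Subgroup H).Normal := Subgroup.normalizer_eq_top_iff.1 htop
  have : Unique (Sylow 2 H) := Sylow.unique_of_normal V hnorm
  refine ⟨(V : Subgroup H), hV, ?_⟩
  intro W' hW'
  have hp : IsPGroup 2 W' := IsPGroup.of_card hW'
  obtain ⟨Q, hQ⟩ := hp.exists_le_sylow
  have hQV : Q = V := Subsingleton.elim _ _
  rw [hQV] at hQ
  exact Subgroup.eq_of_le_of_card_ge hQ (by rw [hV, hW'])

end Cfsg.Agent.Helper66.O459648
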