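import Mathlib
import Cfsg.Agent.Lib.Helper17.Sieve
import Cfsg.Agent.Lib.Helper17.SieveInter

/-!
# O983 pieces N3840, N4500, N5292, N6000 (S0983): the "inter" orders.
-/

set_option autoImplicit false

namespace Cfsg.Agent.Helper66.O983

open Nat Cfsg.Agent.Helper17 Cfsg.Agent.Helper17.Sieve

theorem h66_aux15 : ∀ a b : ℕ, a * b = 15 → 2 ≤ a → b ≤ 5 := by
  intro a b hab ha
  have ha15 : a ≤ 15 := Nat.le_of_dvd (by norm_num) (Dvd.intro _ hab)
  have hb15 : b ≤ 15 := Nat.le_of_dvd (by norm_num) (Dvd.intro_left _ hab)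
  interval_cases a <;> omega

theorem h66_aux36 : ∀ a b : ℕ, a * b = 36 → 5 ≤ a → b ≤ 6 := by
  intro a b hab ha
  have ha36 : a ≤ 36 := Nat.le_of_dvd (by norm_num) (Dvd.intro _ hab)
  have hb36 : b ≤ 36 := Nat.le_of_dvd (by norm_num) (Dvd.intro_left _ hab)
  interval_cases a <;> omega

theorem h66_aux108 : ∀ a b : ℕ, a * b = 108 → 7 ≤ a → b ≤ 12 := by
  intro a b hab ha
  have ha108 : a ≤ 108 := Nat.le_of_dvd (by norm_num) (Dvd.intro _ hab)
  have hb108 : b ≤ 108 := Nat.le_of_dvd (by norm_num) (Dvd.intro_left _ hab)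
  interval_cases a <;> omega

theorem h66_aux48 : ∀ a b : ℕ, a * b = 48 → 5 ≤ a → b ≤ 8 := by
  intro a b hab ha
  have ha48 : a ≤ 48 := Nat.le_of_dvd (by norm_num) (Dvd.intro _ hab)
  have hb48 : b ≤ 48 := Nat.le_of_dvd (by norm_num) (Dvd.intro_left _ hab)
  interval_cases a <;> omega

section
variable {G : Type*} [Group G] [Finite G] [IsSimpleGroup G]

/-- 3840 = 2^8·15. -/
theorem no_3840 : Nat.card G ≠ 3840 := by
  intro hcard0
  have hcard : Nat.card G = 2 ^ 8 * 15 := by rw [hcard0]; norm_num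
  have hG : ¬ IsMulCommutative G := not_comm_of_not_prime (by rw [hcard0]; norm_num)
  have : Fact (Nat.Prime 2) := ⟨Nat.prime_two⟩
  have hpm : ¬ 2 ∣ 15 := by norm_num
  obtain ⟨hdvd, hmod⟩ := sylow_count (G := G) hcard hpm
  have hne1 := sylow_count_ne_one (G := G) hcard hpm (by norm_num) (by norm_num)
  have hfact := sylow_count_factorial (p := 2) hG hne1
  have hle : Nat.card (Sylow 2 G) ≤ 15 := Nat.le_of_dvd (by norm_num) hdvd
  have hcases : Nat.card (Sylow 2 G) = 3 ∨ Nat.card (Sylow 2 G) = 5 ∨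
      Nat.card (Sylow 2 G) = 15 := by
    generalize Nat.card (Sylow 2 G) = n at *
    interval_cases n <;> omega
  rw [hcard0] at hfact
  rcases hcases with h3 | h5 | h15
  · rw [h3] at hfact
    revert hfact; decide
  · rw [h5] at hfact
    revert hfact; decide
  · apply inter_kill hG 2 8 15 5 (by norm_num) hcard hpm
    · rw [h15]; decide
    · exact h66_aux15
    · decide

/-- 4500 = 5^3·36. -/
theorem no_4500 : Nat.card G ≠ 4500 := by
  intro hcard0
  have hcard : Nat.card G = 5 ^ 3 * 36 := by rw [hcard0]; norm_num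
  have hG : ¬ IsMulCommutative G := not_comm_of_not_prime (by rw [hcard0]; norm_num)
  have : Fact (Nat.Prime 5) := ⟨by norm_num⟩
  have hpm : ¬ 5 ∣ 36 := by norm_num
  obtain ⟨hdvd, hmod⟩ := sylow_count (G := G) hcard hpm
  have hne1 := sylow_count_ne_one (G := G) hcard hpm (by norm_num) (by norm_num)
  have hfact := sylow_count_factorial (p := 5) hG hne1
  have hle : Nat.card (Sylow 5 G) ≤ 36 := Nat.le_of_dvd (by norm_num) hdvd
  have hcases : Nat.card (Sylow 5 G) = 6 ∨ Nat.card (Sylow 5 G) = 36 := by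
    generalize Nat.card (Sylow 5 G) = n at *
    interval_cases n <;> omega
  rw [hcard0] at hfact
  rcases hcases with h6 | h36
  · rw [h6] at hfact
    revert hfact; decide
  · apply inter_kill hG 5 3 36 6 (by norm_num) hcard hpm
    · rw [h36]; decide
    · exact h66_aux36
    · decide

/-- 5292 = 7^2·108. -/
theorem no_5292 : Nat.card G ≠ 5292 := by
  intro hcard0
  have hcard : Nat.card G = 7 ^ 2 * 108 := by rw [hcard0]; norm_num
  have hG : ¬ IsMulCommutative G := not_comm_of_not_prime (by rw [hcard0]; norm_num)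
  have : Fact (Nat.Prime 7) := ⟨by norm_num⟩
  have hpm : ¬ 7 ∣ 108 := by norm_num
  obtain ⟨hdvd, hmod⟩ := sylow_count (G := G) hcard hpm
  have hne1 := sylow_count_ne_one (G := G) hcard hpm (by norm_num) (by norm_num)
  have hle : Nat.card (Sylow 7 G) ≤ 108 := Nat.le_of_dvd (by norm_num) hdvd
  have h36 : Nat.card (Sylow 7 G) = 36 := by
    generalize Nat.card (Sylow 7 G) = n at *
    interval_cases n <;> omega
  apply inter_kill hG 7 2 108 12 (by norm_num) hcard hpm
  · rw [h36]; decide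
  · exact h66_aux108
  · decide

/-- 6000 = 5^3·48. -/
theorem no_6000 : Nat.card G ≠ 6000 := by
  intro hcard0
  have hcard : Nat.card G = 5 ^ 3 * 48 := by rw [hcard0]; norm_num
  have hG : ¬ IsMulCommutative G := not_comm_of_not_prime (by rw [hcard0]; norm_num)
  have : Fact (Nat.Prime 5) := ⟨by norm_num⟩
  have hpm : ¬ 5 ∣ 48 := by norm_num
  obtain ⟨hdvd, hmod⟩ := sylow_count (G := G) hcard hpm
  have hne1 := sylow_count_ne_one (G := G) hcard hpm (by norm_num) (by norm_num)
  have hfact := sylow_count_factorial (p := 5) hG hne1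
  have hle : Nat.card (Sylow 5 G) ≤ 48 := Nat.le_of_dvd (by norm_num) hdvd
  have hcases : Nat.card (Sylow 5 G) = 6 ∨ Nat.card (Sylow 5 G) = 16 := by
    generalize Nat.card (Sylow 5 G) = n at *
    interval_cases n <;> omega
  rw [hcard0] at hfact
  rcases hcases with h6 | h16
  · rw [h6] at hfact
    revert hfact; decide
  · apply inter_kill hG 5 3 48 8 (by norm_num) hcard hpm
    · rw [h16]; decide
    · exact h66_aux48
    · decide

end

end Cfsg.Agent.Helper66.O983
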