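import Mathlib
import Cfsg.Agent.Lib.Helper79.OSPDefs

/-!
# OSP server (helper79, S2720), piece (FLD): Schur + little Wedderburn

The commutant of a simple `F[t]`-module `W` (finite) is a finite field acting simply transitively on
`W ∖ 0`; `lam` is a generator of its unit group.
-/

set_option autoImplicit false
set_option linter.style.haveILetI false

namespace Cfsg.Agent.Helper66.OSP

open QuadraticMap Cfsg.Agent.Helper79.OSP

section Aux

variable {F : Type*} [Field F] {W : Type*} [AddCommGroup W] [Module F W]

/-- membership in the commutant of `t` -/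
lemma fld_mem_cent_iff (t a : W →ₗ[F] W) :
    a ∈ Subalgebra.centralizer F ({t} : Set (Module.End F W)) ↔ ∀ w, a (t w) = t (a w) := by
  rw [Subalgebra.mem_centralizer_iff]
  constructor
  · intro h w
    have h1 := h t rfl
    have h2 := congrArg (fun f : Module.End F W => f w) h1
    simpa using h2.symm
  · intro h g hg
    rw [Set.mem_singleton_iff] at hg
    subst hg
    ext w
    simp [h w]

/-- Schur: a nonzero endomorphism commuting with `t` is injective when `W` is `t`-simple. -/
lemma fld_inj_of_comm (t : W →ₗ[F] W)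
    (hsimple : ∀ U : Submodule F W, (∀ u ∈ U, t u ∈ U) → U = ⊥ ∨ U = ⊤)
    (a : W →ₗ[F] W) (ha : ∀ w, a (t w) = t (a w)) (hne : a ≠ 0) : Function.Injective a := by
  have hk := hsimple (LinearMap.ker a) (fun u hu => by
    rw [LinearMap.mem_ker] at hu ⊢
    rw [ha, hu, map_zero])
  rcases hk with hk | hk
  · exact LinearMap.ker_eq_bot.mp hk
  · exact absurd (LinearMap.ker_eq_top.mp hk) hne

end Aux

variable {F : Type*} [Field F] {V : Type*} [AddCommGroup V] [Module F V]

theorem exists_cyclic_centralizer [Finite F] {W : Type*} [AddCommGroup W] [Module F W] [Finite W]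
    [Nontrivial W] (t : W →ₗ[F] W)
    (hsimple : ∀ U : Submodule F W, (∀ u ∈ U, t u ∈ U) → U = ⊥ ∨ U = ⊤) :
    ∃ lam : W ≃ₗ[F] W, (∀ w, lam (t w) = t (lam w)) ∧ orderOf lam = Nat.card W - 1 ∧
      (∀ a : W →ₗ[F] W, (∀ w, a (t w) = t (a w)) → a ≠ 0 → ∃ j : ℕ, ∀ w, a w = (lam ^ j) w) ∧
      (∀ w : W, w ≠ 0 → ∀ j : ℕ, (lam ^ j) w = w → (Nat.card W - 1) ∣ j) := by
  classical
  set C : Subalgebra F (Module.End F W) := Subalgebra.centralizer F ({t} : Set (Module.End F W))
    with hCdef
  have hmem : ∀ a : W →ₗ[F] W, a ∈ C ↔ ∀ w, a (t w) = t (a w) := fld_mem_cent_iff t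
  -- nonzero elements of `C` are injective
  have hinj : ∀ a : C, a ≠ 0 → Function.Injective (a : Module.End F W) := by
    intro a ha
    apply fld_inj_of_comm t hsimple _ ((hmem _).mp a.2)
    intro h0
    exact ha (Subtype.ext h0)
  -- elements of `C` killing a nonzero vector vanish
  have hkill : ∀ a : C, ∀ w : W, w ≠ 0 → (a : Module.End F W) w = 0 → a = 0 := by
    intro a w hw haw
    by_contra hne
    exact hw (hinj a hne (by rw [haw, map_zero]))
  haveI : Finite (Module.End F W) :=
    Finite.of_injective (fun f : Module.End F W => (f : W → W)) DFunLike.coe_injective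
  haveI : Finite C := Subtype.finite
  haveI : NoZeroDivisors C := by
    refine ⟨?_⟩
    intro a b hab
    by_cases ha : a = 0
    · exact Or.inl ha
    · right
      apply Subtype.ext
      apply LinearMap.ext
      intro w
      have h1 : ((a * b : C) : Module.End F W) w = 0 := by rw [hab]; rfl
      have h2 : (a : Module.End F W) ((b : Module.End F W) w) = 0 := h1
      have h3 := hinj a ha (h2.trans (map_zero _).symm)
      exact h3
  haveI : IsDomain C := NoZeroDivisors.to_isDomain C
  have hfield : IsField C := Finite.isDomain_to_isField C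
  -- every nonzero element of `C` is a unit
  have hunit : ∀ a : C, a ≠ 0 → ∃ u : Cˣ, (u : C) = a := by
    intro a ha
    obtain ⟨b, hb⟩ := hfield.mul_inv_cancel ha
    exact ⟨⟨a, b, hb, by rw [hfield.mul_comm]; exact hb⟩, rfl⟩
  have hcyc : IsCyclic Cˣ := by
    letI : Field C := hfield.toField
    exact isCyclic_of_injective_ringHom (Units.coeHom C) Units.val_injective
  obtain ⟨g, hg⟩ := hcyc.exists_generator
  -- `g` as a linear equivalence
  have hgne : (g : C) ≠ 0 := g.ne_zero
  have hgbij : Function.Bijective ((g : C) : Module.End F W) :=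
    ⟨hinj _ hgne, Finite.injective_iff_surjective.mp (hinj _ hgne)⟩
  set lam : W ≃ₗ[F] W := LinearEquiv.ofBijective ((g : C) : Module.End F W) hgbij with hlam
  have hlam_apply : ∀ w, lam w = ((g : C) : Module.End F W) w := fun w => rfl
  have hpow : ∀ (j : ℕ) (w : W), (lam ^ j) w = (((g ^ j : Cˣ) : C) : Module.End F W) w := by
    intro j
    induction j with
    | zero => intro w; simp
    | succ j ih =>
      intro w
      rw [pow_succ', LinearEquiv.mul_apply, ih, hlam_apply, pow_succ']
      rfl
  -- evaluation at a nonzero vector is a bijection `C → W`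
  obtain ⟨w₀, hw₀⟩ := exists_ne (0 : W)
  have hev_inj : Function.Injective (fun a : C => (a : Module.End F W) w₀) := by
    intro a b hab
    have h1 : ((a - b : C) : Module.End F W) w₀ = 0 := by
      have : ((a - b : C) : Module.End F W) = (a : Module.End F W) - (b : Module.End F W) := rfl
      rw [this, LinearMap.sub_apply]
      exact sub_eq_zero.mpr hab
    exact sub_eq_zero.mp (hkill _ w₀ hw₀ h1)
  have hev_surj : Function.Surjective (fun a : C => (a : Module.End F W) w₀) := by
    -- the image is a nonzero `t`-invariant subspace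
    let U : Submodule F W := Submodule.map (LinearMap.applyₗ w₀) (Subalgebra.toSubmodule C)
    have hU : ∀ u, u ∈ U ↔ ∃ a : C, (a : Module.End F W) w₀ = u := by
      intro u
      constructor
      · rintro ⟨a, ha, rfl⟩
        exact ⟨⟨a, ha⟩, rfl⟩
      · rintro ⟨a, rfl⟩
        exact ⟨a.1, a.2, rfl⟩
    have htC : t ∈ C := (hmem t).mpr (fun w => rfl)
    have hUt : ∀ u ∈ U, t u ∈ U := by
      intro u hu
      obtain ⟨a, rfl⟩ := (hU u).mp hu
      exact (hU _).mpr ⟨⟨t, htC⟩ * a, rfl⟩
    rcases hsimple U hUt with h | h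
    · exfalso
      have : w₀ ∈ U := (hU w₀).mpr ⟨1, rfl⟩
      rw [h, Submodule.mem_bot] at this
      exact hw₀ this
    · intro w
      have : w ∈ U := by rw [h]; exact Submodule.mem_top
      exact (hU w).mp this
  have hcardC : Nat.card C = Nat.card W := Nat.card_congr (Equiv.ofBijective _ ⟨hev_inj, hev_surj⟩)
  -- cardinality of the unit group
  have hcardU : Nat.card Cˣ = Nat.card W - 1 := by
    rw [← hcardC]
    letI : Field C := hfield.toField
    exact Nat.card_units C
  have hordg : orderOf g = Nat.card W - 1 := by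
    rw [orderOf_eq_card_of_forall_mem_zpowers hg, hcardU]
  -- `lam ^ j = 1 ↔ g ^ j = 1`
  have hone : ∀ j : ℕ, lam ^ j = 1 ↔ g ^ j = 1 := by
    intro j
    constructor
    · intro h
      apply Units.ext
      apply Subtype.ext
      apply LinearMap.ext
      intro w
      have := hpow j w
      rw [h] at this
      exact this.symm
    · intro h
      apply LinearEquiv.ext
      intro w
      rw [hpow j w, h]
      rfl
  refine ⟨lam, ?_, ?_, ?_, ?_⟩
  · intro w
    exact (hmem _).mp (g : C).2 w
  · rw [← hordg]
    exact orderOf_eq_orderOf_iff.mpr hone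
  · intro a ha hne
    have haC : a ∈ C := (hmem a).mpr ha
    have hne' : (⟨a, haC⟩ : C) ≠ 0 := by
      intro h
      exact hne (congrArg Subtype.val h)
    obtain ⟨u, hu⟩ := hunit ⟨a, haC⟩ hne'
    have hup : u ∈ Submonoid.powers g := by
      rw [mem_powers_iff_mem_zpowers]
      exact hg u
    obtain ⟨j, hj⟩ := hup
    have hj' : g ^ j = u := hj
    refine ⟨j, fun w => ?_⟩
    rw [hpow j w, hj', hu]
  · intro w hw j hj
    rw [← hordg]
    apply orderOf_dvd_of_pow_eq_one
    have h1 : ((((g ^ j : Cˣ) : C) - 1 : C) : Module.End F W) w = 0 := by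
      have : ((((g ^ j : Cˣ) : C) - 1 : C) : Module.End F W)
          = (((g ^ j : Cˣ) : C) : Module.End F W) - 1 := rfl
      rw [this, LinearMap.sub_apply, ← hpow j w, hj]
      simp
    have h2 := hkill _ w hw h1
    apply Units.ext
    exact sub_eq_zero.mp h2

end Cfsg.Agent.Helper66.OSP
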