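import Mathlib
import Cfsg.Prelude.Def_Transfer
import Cfsg.Agent.Lib.Helper48.HallHigmanCoprime
import Cfsg.Agent.Lib.Helper48.CoprimeGen
import Cfsg.Agent.Lib.Helper2.PGroup
import Cfsg.Agent.Lib.Helper24.HH125
import Cfsg.Agent.Lib.Helper52.Coprime

/-!
# A section form of the coprime Hall–Higman theorem, and a refined Frobenius lemma

* `section_key`: `Helper48.HHC.key_gen` for a section `W / D` of the ambient group.
* `refined_frobenius`: `x` of prime order `r` normalising a `q`-group `Q`, both normalising a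
  `p`-group `W` (`p, q, r` distinct, `q` odd), such that every element of `W` centralised by `x`
  is centralised by `Q`.  Then `[Q, x]` centralises `W`.
-/

set_option autoImplicit false
set_option linter.style.haveILetI false
set_option linter.unusedSectionVars false

namespace Cfsg.Agent.Helper66.RefFrobA

open Subgroup
open scoped commutatorElement

variable {G : Type*} [Group G]

/-- in a finite group, one-sided conjugation invariance gives membership in the normaliser. -/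
theorem mem_normalizer_of_conj_mem [Finite G] (H : Subgroup G) (x : G)
    (h : ∀ u ∈ H, x * u * x⁻¹ ∈ H) : x ∈ normalizer (H : Set G) := by
  have hk : ∀ k : ℕ, ∀ u ∈ H, x ^ k * u * (x ^ k)⁻¹ ∈ H := by
    intro k
    induction k with
    | zero => intro u hu; simpa using hu
    | succ k ih =>
      intro u hu
      have h1 := h _ (ih u hu)
      have : x ^ (k + 1) * u * (x ^ (k + 1))⁻¹ = x * (x ^ k * u * (x ^ k)⁻¹) * x⁻¹ := by
        rw [pow_succ']; group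
      rw [this]; exact h1
  rw [mem_normalizer_iff]
  intro u
  refine ⟨h u, fun hu => ?_⟩
  have hpos : 0 < orderOf x := orderOf_pos x
  have h1 := hk (orderOf x - 1) _ hu
  have h2 : x ^ (orderOf x - 1) = x⁻¹ := by
    rw [eq_inv_iff_mul_eq_one, ← pow_succ, Nat.sub_add_cancel hpos, pow_orderOf_eq_one]
  rw [h2] at h1
  have : x⁻¹ * (x * u * x⁻¹) * x⁻¹⁻¹ = u := by group
  rwa [this] at h1

/-- an element normalising `H` and `K` normalises `⁅H, K⁆`. -/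
theorem mem_normalizer_commutator [Finite G] (H K : Subgroup G) (x : G)
    (hH : x ∈ normalizer (H : Set G)) (hK : x ∈ normalizer (K : Set G)) :
    x ∈ normalizer ((⁅H, K⁆ : Subgroup G) : Set G) := by
  apply mem_normalizer_of_conj_mem
  intro u hu
  have h1 : (⁅H, K⁆).map (MulAut.conj x).toMonoidHom ≤ ⁅H, K⁆ := by
    rw [map_commutator, commutator_le]
    rintro _ ⟨a, ha, rfl⟩ _ ⟨b, hb, rfl⟩
    apply commutator_mem_commutator
    · exact (mem_normalizer_iff.mp hH a).mp ha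
    · exact (mem_normalizer_iff.mp hK b).mp hb
  exact h1 ⟨u, hu, rfl⟩

/-- conjugation-invariance of a closure from that of the generating set. -/
theorem conj_mem_closure (S : Set G) (x : G) (hS : ∀ s ∈ S, x * s * x⁻¹ ∈ S) :
    ∀ u ∈ closure S, x * u * x⁻¹ ∈ closure S := by
  intro u hu
  induction hu using closure_induction with
  | mem s hs => exact subset_closure (hS s hs)
  | one => simp
  | mul a b _ _ iha ihb =>
    have : x * (a * b) * x⁻¹ = (x * a * x⁻¹) * (x * b * x⁻¹) := by group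
    rw [this]; exact mul_mem iha ihb
  | inv a _ iha =>
    have : x * a⁻¹ * x⁻¹ = (x * a * x⁻¹)⁻¹ := by group
    rw [this]; exact inv_mem iha

/-- `⁅Q, ⟨x⟩⁆` is generated by the commutators `x u x⁻¹ u⁻¹`, `u ∈ Q`. -/
theorem commutator_zpowers_eq_closure [Finite G] (Q : Subgroup G) (x : G)
    (hxQ : ∀ u ∈ Q, x * u * x⁻¹ ∈ Q) :
    ⁅Q, zpowers x⁆ = closure {g | ∃ u ∈ Q, g = x * u * x⁻¹ * u⁻¹} := by
  set S : Set G := {g | ∃ u ∈ Q, g = x * u * x⁻¹ * u⁻¹} with hS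
  apply le_antisymm
  · have hinv : ∀ u ∈ closure S, x * u * x⁻¹ ∈ closure S := by
      apply conj_mem_closure
      rintro _ ⟨u, hu, rfl⟩
      refine ⟨x * u * x⁻¹, hxQ u hu, ?_⟩
      group
    have hk : ∀ k : ℕ, ∀ u ∈ Q, x ^ k * u * (x ^ k)⁻¹ * u⁻¹ ∈ closure S := by
      intro k
      induction k with
      | zero => intro u _; simp
      | succ k ih =>
        intro u hu
        have h1 := hinv _ (ih u hu)
        have h2 : x * u * x⁻¹ * u⁻¹ ∈ closure S := subset_closure ⟨u, hu, rfl⟩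
        have : x ^ (k + 1) * u * (x ^ (k + 1))⁻¹ * u⁻¹ =
            (x * (x ^ k * u * (x ^ k)⁻¹ * u⁻¹) * x⁻¹) * (x * u * x⁻¹ * u⁻¹) := by
          rw [pow_succ']; group
        rw [this]; exact mul_mem h1 h2
    rw [commutator_comm, commutator_le]
    rintro g hg u hu
    obtain ⟨k, rfl⟩ := mem_zpowers_iff.mp hg
    have hk' : ∃ n : ℕ, x ^ k = x ^ n := by
      refine ⟨(k % (orderOf x : ℤ)).toNat, ?_⟩
      have hpos : (0 : ℤ) < orderOf x := by exact_mod_cast orderOf_pos x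
      rw [← zpow_natCast, Int.toNat_of_nonneg (Int.emod_nonneg _ hpos.ne'), zpow_mod_orderOf]
    obtain ⟨n, hn⟩ := hk'
    rw [commutatorElement_def, hn]
    exact hk n u hu
  · rw [closure_le]
    rintro _ ⟨u, hu, rfl⟩
    rw [commutator_comm]
    have := commutator_mem_commutator (mem_zpowers x) hu
    rwa [commutatorElement_def] at this

/-- **Section form of `Helper48.HHC.key_gen`.** -/
theorem section_key [Finite G] {p q r : ℕ} (hp : p.Prime) (hq : q.Prime)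
    (hr : r.Prime) (hpq : p ≠ q) (hpr : p ≠ r) (hqr : q ≠ r) (hq2 : q ≠ 2)
    (W D T : Subgroup G) (x : G)
    (hWD : W ≤ normalizer (D : Set G))
    (hcomm : ∀ a ∈ W, ∀ b ∈ W, a * b * a⁻¹ * b⁻¹ ∈ D)
    (hpow : ∀ a ∈ W, a ^ p ∈ D)
    (hTW : T ≤ normalizer (W : Set G)) (hTD : T ≤ normalizer (D : Set G))
    (hxW : x ∈ normalizer (W : Set G)) (hxD : x ∈ normalizer (D : Set G))
    (hTq : IsPGroup q T) (hxr : x ^ r = 1) (hxT : ∀ u ∈ T, x * u * x⁻¹ ∈ T)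
    (hfix : ∀ w ∈ W, w⁻¹ * (x * w * x⁻¹) ∈ D → w ∈ D) :
    ∀ u ∈ T, ∀ w ∈ W, (x * u * x⁻¹ * u⁻¹) * w * (x * u * x⁻¹ * u⁻¹)⁻¹ * w⁻¹ ∈ D := by
  obtain ⟨N, hN⟩ : ∃ N : Subgroup G, N = normalizer (W : Set G) ⊓ normalizer (D : Set G) :=
    ⟨_, rfl⟩
  have hNW : N ≤ normalizer (W : Set G) := hN ▸ inf_le_left
  have hND : N ≤ normalizer (D : Set G) := hN ▸ inf_le_right
  have hWN : W ≤ N := hN ▸ le_inf le_normalizer hWD
  have hTN : T ≤ N := hN ▸ le_inf hTW hTD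
  have hxN : x ∈ N := hN ▸ ⟨hxW, hxD⟩
  haveI hDn : (D.subgroupOf N).Normal := normal_subgroupOf_of_le_normalizer hND
  haveI hWn : (W.subgroupOf N).Normal := normal_subgroupOf_of_le_normalizer hNW
  obtain ⟨π, hπdef⟩ : ∃ π : ↥N →* ↥N ⧸ D.subgroupOf N, π = QuotientGroup.mk' _ := ⟨_, rfl⟩
  have hπsurj : Function.Surjective π := by rw [hπdef]; exact QuotientGroup.mk'_surjective _
  have hπker : ∀ g : ↥N, π g = 1 ↔ (g : G) ∈ D := by
    intro g
    rw [hπdef, QuotientGroup.mk'_apply, QuotientGroup.eq_one_iff, mem_subgroupOf]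
  obtain ⟨V, hV⟩ : ∃ V : Subgroup (↥N ⧸ D.subgroupOf N), V = (W.subgroupOf N).map π := ⟨_, rfl⟩
  haveI hVn : V.Normal := hV ▸ hWn.map π hπsurj
  have hVtop : normalizer (V : Set (↥N ⧸ D.subgroupOf N)) = ⊤ := normalizer_eq_top V
  have hVe : Cfsg.IsElementaryAbelian p V := by
    refine ⟨?_, ?_⟩
    · rw [← Subgroup.le_centralizer_iff_isMulCommutative, hV]
      rintro _ ⟨a, ha, rfl⟩
      rw [Subgroup.mem_centralizer_iff]
      rintro _ ⟨b, hb, rfl⟩
      have h1 : π (b * a * b⁻¹ * a⁻¹) = 1 := by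
        rw [hπker]
        exact hcomm _ (mem_subgroupOf.mp hb) _ (mem_subgroupOf.mp ha)
      rw [map_mul, map_mul, map_mul, map_inv, map_inv] at h1
      calc π b * π a = (π b * π a * (π b)⁻¹ * (π a)⁻¹) * (π a * π b) := by group
        _ = π a * π b := by rw [h1, one_mul]
    · rw [hV]
      rintro _ ⟨a, ha, rfl⟩
      rw [← map_pow, hπker]
      exact hpow _ (mem_subgroupOf.mp ha)
  have hxfixV : V ⊓ centralizer ({π ⟨x, hxN⟩} : Set (↥N ⧸ D.subgroupOf N)) = ⊥ := by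
    rw [eq_bot_iff, hV]
    rintro _ ⟨⟨v, hv, rfl⟩, hvx⟩
    rw [Subgroup.mem_bot]
    have hvx' : π v * π ⟨x, hxN⟩ = π ⟨x, hxN⟩ * π v :=
      Subgroup.mem_centralizer_singleton_iff.mp hvx
    have hm : π (v⁻¹ * (⟨x, hxN⟩ * v * ⟨x, hxN⟩⁻¹)) = 1 := by
      rw [map_mul, map_mul, map_mul, map_inv, map_inv, ← hvx']
      group
    rw [hπker] at hm
    rw [hπker]
    exact hfix _ (mem_subgroupOf.mp hv) hm
  have hkey := Cfsg.Agent.Helper48.HHC.key_gen hp hq hr hpq hpr hqr V ((T.subgroupOf N).map π)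
    (π ⟨x, hxN⟩) hVe
    (by rw [hVtop]; exact le_top) (by rw [hVtop]; exact Subgroup.mem_top _)
    ((hTq.comap_of_injective N.subtype N.subtype_injective).map π)
    (by
      rw [← map_pow]
      have : (⟨x, hxN⟩ : ↥N) ^ r = 1 := Subtype.ext (by simpa using hxr)
      rw [this, map_one])
    (by
      rintro _ ⟨u, hu, rfl⟩
      refine ⟨⟨x, hxN⟩ * u * ⟨x, hxN⟩⁻¹, ?_, by simp⟩
      show ⟨x, hxN⟩ * u * ⟨x, hxN⟩⁻¹ ∈ T.subgroupOf N
      rw [mem_subgroupOf]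
      exact hxT _ (mem_subgroupOf.mp hu))
    (fun h => absurd h hq2) hxfixV
  intro u hu w hw
  have h1 := hkey (π ⟨u, hTN hu⟩) ⟨⟨u, hTN hu⟩, mem_subgroupOf.mpr hu, rfl⟩
  have h2 := Subgroup.mem_centralizer_iff.mp h1 (π ⟨w, hWN hw⟩)
    (hV ▸ ⟨⟨w, hWN hw⟩, mem_subgroupOf.mpr hw, rfl⟩)
  have h3 : π ((⟨x, hxN⟩ * ⟨u, hTN hu⟩ * ⟨x, hxN⟩⁻¹ * ⟨u, hTN hu⟩⁻¹) * ⟨w, hWN hw⟩ *
      (⟨x, hxN⟩ * ⟨u, hTN hu⟩ * ⟨x, hxN⟩⁻¹ * ⟨u, hTN hu⟩⁻¹)⁻¹ * ⟨w, hWN hw⟩⁻¹) = 1 := by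
    simp only [map_mul, map_inv]
    rw [← h2]
    group
  rw [hπker] at h3
  exact h3

/-- **Refined Frobenius lemma.**  `x` of prime order `r` normalises the `q`-group `Q`; both normalise
the `p`-group `W` (`p, q, r` distinct primes, `q` odd); every element of `W` commuting with `x`
commutes with `Q`.  Then `[Q, x]` centralises `W`. -/
theorem refined_frobenius [Finite G] {p q r : ℕ} (hp : p.Prime) (hq : q.Prime)
    (hr : r.Prime) (hpq : p ≠ q) (hpr : p ≠ r) (hqr : q ≠ r) (hq2 : q ≠ 2)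
    (W Q : Subgroup G) (x : G) (hW : IsPGroup p W) (hQq : IsPGroup q Q)
    (hQW : Q ≤ normalizer (W : Set G)) (hxW : x ∈ normalizer (W : Set G))
    (hxr : x ^ r = 1) (hxQ : ∀ u ∈ Q, x * u * x⁻¹ ∈ Q)
    (hfix : ∀ w ∈ W, x * w = w * x → ∀ u ∈ Q, u * w = w * u) :
    ∀ u ∈ Q, x * u * x⁻¹ * u⁻¹ ∈ centralizer (W : Set G) := by
  classical
  haveI : Fact p.Prime := ⟨hp⟩
  haveI : Fact q.Prime := ⟨hq⟩
  haveI : Fact r.Prime := ⟨hr⟩
  -- the cyclic group X = ⟨x⟩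
  obtain ⟨X, hX⟩ : ∃ X : Subgroup G, X = zpowers x := ⟨_, rfl⟩
  have hxX : x ∈ X := hX ▸ mem_zpowers x
  have hXcard : Nat.card X ∣ r := by
    rw [hX, Nat.card_zpowers]
    exact orderOf_dvd_of_pow_eq_one hxr
  have hxNQ : x ∈ normalizer (Q : Set G) := mem_normalizer_of_conj_mem Q x hxQ
  have hXQ : X ≤ normalizer (Q : Set G) := by
    rw [hX, zpowers_le]; exact hxNQ
  have hcopXQ : (Nat.card X).Coprime (Nat.card Q) := by
    obtain ⟨k, hk⟩ := IsPGroup.iff_card.mp hQq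
    rw [hk]
    exact Nat.Coprime.pow_right k
      (Nat.Coprime.coprime_dvd_left hXcard ((Nat.coprime_primes hr hq).mpr hqr.symm))
  have hQsolv : Group.IsSolvable Q := by
    have := hQq.isNilpotent
    infer_instance
  -- T = [Q, X]
  obtain ⟨T, hT⟩ : ∃ T : Subgroup G, T = ⁅Q, X⁆ := ⟨_, rfl⟩
  have hTQ : T ≤ Q := hT ▸ Cfsg.Agent.Helper24.commutator_le_of_le_normalizer Q X hXQ
  have hTT : ⁅T, X⁆ = T := by
    rw [hT]
    exact Cfsg.Agent.Helper52.commutator_commutator_eq Q X hXQ hcopXQ (Or.inr hQsolv)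
  have hXT : X ≤ normalizer (T : Set G) := hT ▸ normalizer_commutator_ge_right Q X
  have hxNT : x ∈ normalizer (T : Set G) := hXT hxX
  have hxT : ∀ u ∈ T, x * u * x⁻¹ ∈ T := fun u hu => (mem_normalizer_iff.mp hxNT u).mp hu
  have hTq : IsPGroup q T := hQq.to_le hTQ
  have hTW : T ≤ normalizer (W : Set G) := hTQ.trans hQW
  have hTgen : T = closure {g | ∃ u ∈ T, g = x * u * x⁻¹ * u⁻¹} := by
    rw [← commutator_zpowers_eq_closure T x hxT, ← hX, hTT]
  have hcopTW : (Nat.card T).Coprime (Nat.card W) := by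
    obtain ⟨k, hk⟩ := IsPGroup.iff_card.mp hTq
    obtain ⟨l, hl⟩ := IsPGroup.iff_card.mp hW
    rw [hk, hl]
    exact Nat.Coprime.pow k l ((Nat.coprime_primes hq hp).mpr hpq.symm)
  have hTsolv : Group.IsSolvable T := by
    have := hTq.isNilpotent
    infer_instance
  -- W1 = [W, T]
  obtain ⟨W1, hW1⟩ : ∃ W1 : Subgroup G, W1 = ⁅W, T⁆ := ⟨_, rfl⟩
  have hW1W : W1 ≤ W := hW1 ▸ Cfsg.Agent.Helper24.commutator_le_of_le_normalizer W T hTW
  have hW1p : IsPGroup p W1 := hW.to_le hW1W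
  have hW1T : ⁅W1, T⁆ = W1 := by
    rw [hW1]
    exact Cfsg.Agent.Helper52.commutator_commutator_eq W T hTW hcopTW (Or.inl hTsolv)
  have hTW1 : T ≤ normalizer (W1 : Set G) := hW1 ▸ normalizer_commutator_ge_right W T
  have hxW1 : x ∈ normalizer (W1 : Set G) := hW1 ▸ mem_normalizer_commutator W T x hxW hxNT
  -- Φ: generated by commutators and p-th powers of W1
  obtain ⟨S, hS⟩ : ∃ S : Set G, S = {g | (∃ a ∈ W1, ∃ b ∈ W1, g = a * b * a⁻¹ * b⁻¹) ∨
      ∃ a ∈ W1, g = a ^ p} := ⟨_, rfl⟩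
  obtain ⟨Φ, hΦ⟩ : ∃ Φ : Subgroup G, Φ = closure S := ⟨_, rfl⟩
  have hΦW1 : Φ ≤ W1 := by
    rw [hΦ, closure_le, hS]
    rintro g (⟨a, ha, b, hb, rfl⟩ | ⟨a, ha, rfl⟩)
    · exact mul_mem (mul_mem (mul_mem ha hb) (inv_mem ha)) (inv_mem hb)
    · exact pow_mem ha p
  have hΦconj : ∀ g ∈ normalizer (W1 : Set G), ∀ u ∈ Φ, g * u * g⁻¹ ∈ Φ := by
    intro g hg
    rw [hΦ]
    apply conj_mem_closure
    rw [hS]
    rintro s (⟨a, ha, b, hb, rfl⟩ | ⟨a, ha, rfl⟩)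
    · left
      refine ⟨g * a * g⁻¹, (mem_normalizer_iff.mp hg a).mp ha, g * b * g⁻¹,
        (mem_normalizer_iff.mp hg b).mp hb, ?_⟩
      group
    · right
      refine ⟨g * a * g⁻¹, (mem_normalizer_iff.mp hg a).mp ha, ?_⟩
      rw [conj_pow]
  have hΦfr : Φ ≤ (frattini ↥W1).map W1.subtype := by
    rw [hΦ, closure_le, hS]
    rintro g (⟨a, ha, b, hb, rfl⟩ | ⟨a, ha, rfl⟩)
    · refine ⟨⁅(⟨a, ha⟩ : W1), ⟨b, hb⟩⁆,
        Cfsg.Agent.Helper2.commutatorElement_mem_frattini hW1p _ _, ?_⟩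
      rw [commutatorElement_def]
      simp
    · exact ⟨(⟨a, ha⟩ : W1) ^ p, Cfsg.Agent.Helper2.pow_mem_frattini hW1p _, by simp⟩
  have hcommΦ : ∀ a ∈ W1, ∀ b ∈ W1, a * b * a⁻¹ * b⁻¹ ∈ Φ := by
    intro a ha b hb
    rw [hΦ]; apply Subgroup.subset_closure; rw [hS]
    exact Or.inl ⟨a, ha, b, hb, rfl⟩
  have hpowΦ : ∀ a ∈ W1, a ^ p ∈ Φ := by
    intro a ha
    rw [hΦ]; apply Subgroup.subset_closure; rw [hS]
    exact Or.inr ⟨a, ha, rfl⟩
  -- D: elements of W1 centralising T modulo Φ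
  let D : Subgroup G :=
    { carrier := {w | w ∈ W1 ∧ ∀ t ∈ T, w * t * w⁻¹ * t⁻¹ ∈ Φ}
      one_mem' := ⟨one_mem _, fun t _ => by simp⟩
      mul_mem' := by
        rintro a b ⟨ha, hat⟩ ⟨hb, hbt⟩
        refine ⟨mul_mem ha hb, fun t ht => ?_⟩
        have h1 := hΦconj a (le_normalizer ha) _ (hbt t ht)
        have h2 := hat t ht
        have : a * b * t * (a * b)⁻¹ * t⁻¹ = (a * (b * t * b⁻¹ * t⁻¹) * a⁻¹) * (a * t * a⁻¹ * t⁻¹) := by
          group
        rw [this]; exact mul_mem h1 h2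
      inv_mem' := by
        rintro a ⟨ha, hat⟩
        refine ⟨inv_mem ha, fun t ht => ?_⟩
        have h1 := hΦconj a⁻¹ (le_normalizer (inv_mem ha)) _ (inv_mem (hat t ht))
        have : a⁻¹ * t * a⁻¹⁻¹ * t⁻¹ = a⁻¹ * (a * t * a⁻¹ * t⁻¹)⁻¹ * a⁻¹⁻¹ := by group
        rw [this]; exact h1 }
  have hDmem : ∀ w, w ∈ D ↔ w ∈ W1 ∧ ∀ t ∈ T, w * t * w⁻¹ * t⁻¹ ∈ Φ := fun w => Iff.rfl
  have hDW1 : D ≤ W1 := fun w hw => hw.1
  have hΦD : Φ ≤ D := by
    intro w hw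
    refine ⟨hΦW1 hw, fun t ht => ?_⟩
    have h1 := hΦconj t (hTW1 ht) _ (inv_mem hw)
    have : w * t * w⁻¹ * t⁻¹ = w * (t * w⁻¹ * t⁻¹) := by group
    rw [this]; exact mul_mem hw h1
  have hW1D : W1 ≤ normalizer (D : Set G) := by
    intro w hw
    apply mem_normalizer_of_conj_mem
    intro d hd
    have h1 : w * d * w⁻¹ * d⁻¹ ∈ D := hΦD (hcommΦ w hw d (hDW1 hd))
    have : w * d * w⁻¹ = (w * d * w⁻¹ * d⁻¹) * d := by group
    rw [this]; exact mul_mem h1 hd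
  have hconjD : ∀ g ∈ normalizer (W1 : Set G), g ∈ normalizer (T : Set G) →
      g ∈ normalizer (D : Set G) := by
    intro g hg1 hgT
    apply mem_normalizer_of_conj_mem
    rintro d ⟨hd1, hdt⟩
    refine ⟨(mem_normalizer_iff.mp hg1 d).mp hd1, fun t ht => ?_⟩
    have ht' : g⁻¹ * t * g⁻¹⁻¹ ∈ T := (mem_normalizer_iff.mp (inv_mem hgT) t).mp ht
    have h1 := hΦconj g hg1 _ (hdt _ ht')
    have : g * d * g⁻¹ * t * (g * d * g⁻¹)⁻¹ * t⁻¹ =
        g * (d * (g⁻¹ * t * g⁻¹⁻¹) * d⁻¹ * (g⁻¹ * t * g⁻¹⁻¹)⁻¹) * g⁻¹ := by group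
    rw [this]; exact h1
  have hTD : T ≤ normalizer (D : Set G) := fun t ht => hconjD t (hTW1 ht) (le_normalizer ht)
  have hxD : x ∈ normalizer (D : Set G) := hconjD x hxW1 hxNT
  have hDcop : (Nat.card D).Coprime r := by
    have hDp : IsPGroup p D := hW1p.to_le hDW1
    obtain ⟨k, hk⟩ := IsPGroup.iff_card.mp hDp
    rw [hk]
    exact Nat.Coprime.pow_left k ((Nat.coprime_primes hp hr).mpr hpr)
  have hfixD : ∀ w ∈ W1, w⁻¹ * (x * w * x⁻¹) ∈ D → w ∈ D := by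
    intro w hw hm
    obtain ⟨d, hd, hfx⟩ := Cfsg.Agent.Helper48.exists_mul_mem_fixed D hDcop x w 1
      (by rw [pow_one]; exact hxr) hxD hm
    have hwd : w * d ∈ W1 := mul_mem hw (hDW1 hd)
    have hcomm1 : x * (w * d) = (w * d) * x := by
      calc x * (w * d) = (x * (w * d) * x⁻¹) * x := by group
        _ = (w * d) * x := by rw [hfx]
    have hQc := hfix _ (hW1W hwd) hcomm1
    have hwdD : w * d ∈ D := by
      refine ⟨hwd, fun t ht => ?_⟩
      have h1 := hQc t (hTQ ht)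
      have : w * d * t * (w * d)⁻¹ * t⁻¹ = 1 := by
        rw [← h1]; group
      rw [this]; exact one_mem _
    have : w = (w * d) * d⁻¹ := by group
    rw [this]; exact mul_mem hwdD (inv_mem hd)
  have hsec := section_key hp hq hr hpq hpr hqr hq2 W1 D T x hW1D
    (fun a ha b hb => hΦD (hcommΦ a ha b hb)) (fun a ha => hΦD (hpowΦ a ha))
    hTW1 hTD hxW1 hxD hTq hxr hxT hfixD
  -- the kernel of the action on W1 / D
  let K : Subgroup G :=
    { carrier := {g | g ∈ normalizer (W1 : Set G) ∧ g ∈ normalizer (D : Set G) ∧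
        ∀ w ∈ W1, g * w * g⁻¹ * w⁻¹ ∈ D}
      one_mem' := ⟨one_mem _, one_mem _, fun w _ => by simp⟩
      mul_mem' := by
        rintro a b ⟨ha1, ha2, ha3⟩ ⟨hb1, hb2, hb3⟩
        refine ⟨mul_mem ha1 hb1, mul_mem ha2 hb2, fun w hw => ?_⟩
        have h1 := (mem_normalizer_iff.mp ha2 _).mp (hb3 w hw)
        have h2 := ha3 w hw
        have : a * b * w * (a * b)⁻¹ * w⁻¹ = (a * (b * w * b⁻¹ * w⁻¹) * a⁻¹) * (a * w * a⁻¹ * w⁻¹) := by
          group
        rw [this]; exact mul_mem h1 h2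
      inv_mem' := by
        rintro a ⟨ha1, ha2, ha3⟩
        refine ⟨inv_mem ha1, inv_mem ha2, fun w hw => ?_⟩
        have hw' : a⁻¹ * w * a⁻¹⁻¹ ∈ W1 := (mem_normalizer_iff.mp (inv_mem ha1) w).mp hw
        have h1 := inv_mem (ha3 _ hw')
        have : a⁻¹ * w * a⁻¹⁻¹ * w⁻¹ = (a * (a⁻¹ * w * a⁻¹⁻¹) * a⁻¹ * (a⁻¹ * w * a⁻¹⁻¹)⁻¹)⁻¹ := by
          group
        rw [this]; exact h1 }
  have hTK : T ≤ K := by
    rw [hTgen, closure_le]
    rintro _ ⟨u, hu, rfl⟩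
    have hc : x * u * x⁻¹ * u⁻¹ ∈ T := mul_mem (hxT u hu) (inv_mem hu)
    exact ⟨hTW1 hc, hTD hc, fun w hw => hsec u hu w hw⟩
  have hW1TD : ⁅W1, T⁆ ≤ D := by
    rw [commutator_le]
    intro w hw t ht
    have h1 := (hTK ht).2.2 w⁻¹ (inv_mem hw)
    have h2 := (mem_normalizer_iff.mp (hW1D hw) _).mp h1
    have : ⁅w, t⁆ = w * (t * w⁻¹ * t⁻¹ * w⁻¹⁻¹) * w⁻¹ := by
      rw [commutatorElement_def]; group
    rw [this]; exact h2
  have hDTΦ : ⁅D, T⁆ ≤ Φ := by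
    rw [commutator_le]
    intro d hd t ht
    rw [commutatorElement_def]
    exact hd.2 t ht
  have hW1Φ : ⁅W1, T⁆ ≤ (frattini ↥W1).map W1.subtype := by
    calc ⁅W1, T⁆ = ⁅⁅W1, T⁆, T⁆ := by rw [hW1T, hW1T]
      _ ≤ ⁅D, T⁆ := commutator_mono hW1TD le_rfl
      _ ≤ Φ := hDTΦ
      _ ≤ _ := hΦfr
  have hTcop : (Nat.card T).Coprime p := by
    obtain ⟨k, hk⟩ := IsPGroup.iff_card.mp hTq
    rw [hk]
    exact Nat.Coprime.pow_left k ((Nat.coprime_primes hq hp).mpr hpq.symm)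
  have hcent := Cfsg.Agent.Helper24.le_centralizer_of_commutator_le_frattini W1 T hW1p hTcop hTW1
    hW1Φ
  have hW1bot : W1 = ⊥ := by
    rw [← hW1T]
    exact commutator_eq_bot_iff_le_centralizer.mpr hcent
  have hWT : W ≤ centralizer (T : Set G) := by
    rw [← commutator_eq_bot_iff_le_centralizer, ← hW1, hW1bot]
  intro u hu
  have huT : x * u * x⁻¹ * u⁻¹ ∈ T := by
    rw [hT, commutator_comm]
    have := commutator_mem_commutator hxX hu
    rwa [commutatorElement_def] at this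
  rw [mem_centralizer_iff]
  intro w hw
  exact (mem_centralizer_iff.mp (hWT hw) _ huT).symm

end Cfsg.Agent.Helper66.RefFrobA
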