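import Mathlib
import Cfsg.Agent.S0015
import Cfsg.Agent.S0636
import Cfsg.Agent.Lib.Helper66.ClassTwo
import Cfsg.Agent.Lib.Helper66.RefFrobA

/-!
# `Ω₁(Z₂(S))` for a `p`-group `S`, `p` odd

`exists_char_exp_p`: a noncyclic `p`-subgroup `S` (`p` odd) of a finite group `G` has a subgroup
`W ≤ S` of exponent `p` and order at least `p ^ 2` which is normalised by `N_G(S)`
(namely `W = Ω₁(Z₂(S))`).
-/

set_option autoImplicit false
set_option linter.style.haveILetI false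
set_option linter.unusedSectionVars false

namespace Cfsg.Agent.Helper66.OmegaZ2

open Subgroup
open scoped commutatorElement

/-- a normal subgroup of prime order of a finite nilpotent group is central. -/
theorem normal_prime_le_center {P : Type*} [Group P] [Group.IsNilpotent P] {p : ℕ}
    (hp : p.Prime) (N : Subgroup P) [N.Normal] (hN : Nat.card N = p) : N ≤ center P := by
  have hNbot : N ≠ ⊥ := by
    intro h
    rw [h, Subgroup.card_bot] at hN
    exact hp.one_lt.ne hN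
  have h1 := Cfsg.Agent.S0015.normal_inf_center_ne_bot N hNbot
  haveI : Fact (Nat.card N).Prime := ⟨hN ▸ hp⟩
  rcases Subgroup.eq_bot_or_eq_top_of_prime_card ((N ⊓ center P).subgroupOf N) with h | h
  · exfalso
    apply h1
    rw [eq_bot_iff]
    intro x hx
    have : (⟨x, hx.1⟩ : N) ∈ (N ⊓ center P).subgroupOf N := mem_subgroupOf.mpr hx
    rw [h, mem_bot] at this
    rw [mem_bot]
    exact congrArg Subtype.val this
  · intro x hx
    have : (⟨x, hx⟩ : N) ∈ (N ⊓ center P).subgroupOf N := by rw [h]; exact mem_top _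
    exact (mem_subgroupOf.mp this).2

/-- a normal subgroup of order `p ^ 2` of a finite `p`-group lies in the second centre. -/
theorem commutator_mem_center_of_card_sq {P : Type*} [Group P] [Finite P] {p : ℕ} [hp : Fact p.Prime]
    (hP : IsPGroup p P) (M : Subgroup P) [hMn : M.Normal] (hM : Nat.card M = p ^ 2) :
    ∀ m ∈ M, ∀ y : P, m * y * m⁻¹ * y⁻¹ ∈ center P := by
  haveI hnil : Group.IsNilpotent P := hP.isNilpotent
  have hMbot : M ≠ ⊥ := by
    intro h
    rw [h, Subgroup.card_bot] at hM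
    have := Nat.one_lt_pow (n := 2) (by norm_num) hp.out.one_lt
    omega
  obtain ⟨C, hC⟩ : ∃ C : Subgroup P, C = M ⊓ center P := ⟨_, rfl⟩
  have hCbot : C ≠ ⊥ := hC ▸ Cfsg.Agent.S0015.normal_inf_center_ne_bot M hMbot
  haveI hCn : C.Normal := by rw [hC]; infer_instance
  have hCM : C ≤ M := hC ▸ inf_le_left
  have hCZ : C ≤ center P := hC ▸ inf_le_right
  -- the quotient by C
  obtain ⟨π, hπdef⟩ : ∃ π : P →* P ⧸ C, π = QuotientGroup.mk' C := ⟨_, rfl⟩
  have hπsurj : Function.Surjective π := by rw [hπdef]; exact QuotientGroup.mk'_surjective C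
  have hπker : π.ker = C := by rw [hπdef]; exact QuotientGroup.ker_mk' C
  obtain ⟨N, hNdef⟩ : ∃ N : Subgroup (P ⧸ C), N = M.map π := ⟨_, rfl⟩
  haveI hNn : N.Normal := hNdef ▸ hMn.map π hπsurj
  have hcard : Nat.card N * Nat.card C = Nat.card M := by
    have h1 : N.index = M.index := by
      rw [hNdef]; exact Subgroup.index_map_eq M hπsurj (hπker.symm ▸ hCM)
    have h2 := Subgroup.card_mul_index N
    have h3 := Subgroup.card_mul_index M
    have h4 := Subgroup.card_mul_index C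
    have h5 : Nat.card (P ⧸ C) = C.index := rfl
    have hMi : 0 < M.index := Nat.pos_of_ne_zero (Subgroup.index_ne_zero_of_finite)
    rw [h1, h5] at h2
    have : Nat.card N * Nat.card C * M.index = Nat.card M * M.index := by
      calc Nat.card N * Nat.card C * M.index = Nat.card C * (Nat.card N * M.index) := by ring
        _ = Nat.card C * C.index := by rw [h2]
        _ = Nat.card P := h4
        _ = Nat.card M * M.index := h3.symm
    exact Nat.eq_of_mul_eq_mul_right hMi this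
  have hNcent : N ≤ center (P ⧸ C) := by
    have hCdvd : Nat.card C ∣ p ^ 2 := hM ▸ Subgroup.card_dvd_of_le hCM
    obtain ⟨k, hk2, hk⟩ := (Nat.dvd_prime_pow hp.out).mp hCdvd
    have hk0 : k ≠ 0 := by
      rintro rfl
      rw [pow_zero] at hk
      exact hCbot (Subgroup.card_eq_one.mp hk)
    have hk12 : k = 1 ∨ k = 2 := by omega
    rcases hk12 with rfl | rfl
    · have hNp : Nat.card N = p := by
        rw [hk, hM, pow_one] at hcard
        have : Nat.card N * p = p * p := by rw [hcard]; ring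
        exact Nat.eq_of_mul_eq_mul_right hp.out.pos this
      haveI : Group.IsNilpotent (P ⧸ C) := inferInstance
      exact normal_prime_le_center hp.out N hNp
    · have hN1 : Nat.card N = 1 := by
        rw [hk, hM] at hcard
        have hpos : 0 < p ^ 2 := pow_pos hp.out.pos 2
        have : Nat.card N * p ^ 2 = 1 * p ^ 2 := by rw [hcard, one_mul]
        exact Nat.eq_of_mul_eq_mul_right hpos this
      rw [Subgroup.card_eq_one.mp hN1]
      exact bot_le
  intro m hm y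
  have h1 : π m ∈ center (P ⧸ C) := hNcent (hNdef ▸ ⟨m, hm, rfl⟩)
  have h2 : π (m * y * m⁻¹ * y⁻¹) = 1 := by
    rw [map_mul, map_mul, map_mul, map_inv, map_inv]
    have := Subgroup.mem_center_iff.mp h1 (π y)
    calc π m * π y * (π m)⁻¹ * (π y)⁻¹ = (π y * π m) * (π m)⁻¹ * (π y)⁻¹ := by rw [this]
      _ = 1 := by group
  have h3 : m * y * m⁻¹ * y⁻¹ ∈ π.ker := h2
  rw [hπker] at h3
  exact hCZ h3

variable {G : Type*} [Group G]

/-- `Ω₁(Z₂(S))` as a subgroup of the ambient group (`p` an odd prime). -/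
def omegaZ2 (S : Subgroup G) {p : ℕ} (hp : p.Prime) (hp2 : p ≠ 2) : Subgroup G where
  carrier := {x | x ∈ S ∧ x ^ p = 1 ∧
    ∀ y ∈ S, ∀ z ∈ S, (x * y * x⁻¹ * y⁻¹) * z = z * (x * y * x⁻¹ * y⁻¹)}
  one_mem' := ⟨one_mem _, one_pow _, fun y _ z _ => by simp⟩
  mul_mem' := by
    rintro a b ⟨haS, hap, hac⟩ ⟨hbS, hbp, hbc⟩
    refine ⟨mul_mem haS hbS, ?_, ?_⟩
    · -- (a b)^p = 1 by the class two formula
      obtain ⟨d, hd⟩ : ∃ d : G, d = b * a * b⁻¹ * a⁻¹ := ⟨_, rfl⟩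
      have hdz : ∀ z ∈ S, d * z = z * d := fun z hz => hd ▸ hbc a haS z hz
      obtain ⟨c, hc⟩ : ∃ c : G, c = b⁻¹ * a⁻¹ * b * a := ⟨_, rfl⟩
      have hcd : c = d := by
        have h1 : c = b⁻¹ * (a⁻¹ * (d * a)) * b := by rw [hc, hd]; group
        rw [h1, hdz a haS]
        have h2 : b⁻¹ * (a⁻¹ * (a * d)) * b = b⁻¹ * (d * b) := by group
        rw [h2, hdz b hbS]
        group
      have hca : Commute c a := hcd ▸ hdz a haS
      have hcb : Commute c b := hcd ▸ hdz b hbS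
      have h1 := Cfsg.Agent.Helper66.mul_pow_class_two a b c hc hca hcb p
      have h2 := Cfsg.Agent.Helper66.comm_pow_class_two a b c hc hcb p
      rw [hbp] at h2
      have hcp : c ^ p = 1 := by rw [← h2]; group
      obtain ⟨k, hk⟩ := Cfsg.Agent.Helper66.dvd_tri_of_odd_prime p hp hp2
      rw [h1, hap, hbp, hk, pow_mul, hcp, one_pow]
      simp
    · intro y hy z hz
      obtain ⟨e, he⟩ : ∃ e : G, e = b * y * b⁻¹ * y⁻¹ := ⟨_, rfl⟩
      obtain ⟨f, hf⟩ : ∃ f : G, f = a * y * a⁻¹ * y⁻¹ := ⟨_, rfl⟩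
      have hez : ∀ z ∈ S, e * z = z * e := fun z hz => he ▸ hbc y hy z hz
      have hfz : ∀ z ∈ S, f * z = z * f := fun z hz => hf ▸ hac y hy z hz
      have h1 : a * b * y * (a * b)⁻¹ * y⁻¹ = e * f := by
        have : a * b * y * (a * b)⁻¹ * y⁻¹ = (a * e) * a⁻¹ * f := by rw [he, hf]; group
        rw [this, ← hez a haS]
        group
      rw [h1]
      calc e * f * z = e * (f * z) := by group
        _ = e * (z * f) := by rw [hfz z hz]
        _ = (e * z) * f := by group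
        _ = (z * e) * f := by rw [hez z hz]
        _ = z * (e * f) := by group
  inv_mem' := by
    rintro a ⟨haS, hap, hac⟩
    refine ⟨inv_mem haS, by rw [inv_pow, hap, inv_one], ?_⟩
    intro y hy z hz
    obtain ⟨f, hf⟩ : ∃ f : G, f = a * y * a⁻¹ * y⁻¹ := ⟨_, rfl⟩
    have hfz : ∀ z ∈ S, f * z = z * f := fun z hz => hf ▸ hac y hy z hz
    have hfiz : ∀ z ∈ S, f⁻¹ * z = z * f⁻¹ := by
      intro z hz
      have := hfz z hz
      calc f⁻¹ * z = f⁻¹ * (z * f) * f⁻¹ := by group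
        _ = f⁻¹ * (f * z) * f⁻¹ := by rw [this]
        _ = z * f⁻¹ := by group
    have h1 : a⁻¹ * y * a⁻¹⁻¹ * y⁻¹ = f⁻¹ := by
      have : a⁻¹ * y * a⁻¹⁻¹ * y⁻¹ = a⁻¹ * (f⁻¹ * a) := by rw [hf]; group
      rw [this, hfiz a haS]
      group
    rw [h1]
    exact hfiz z hz

theorem mem_omegaZ2 (S : Subgroup G) {p : ℕ} (hp : p.Prime) (hp2 : p ≠ 2) (x : G) :
    x ∈ omegaZ2 S hp hp2 ↔ x ∈ S ∧ x ^ p = 1 ∧
      ∀ y ∈ S, ∀ z ∈ S, (x * y * x⁻¹ * y⁻¹) * z = z * (x * y * x⁻¹ * y⁻¹) := Iff.rfl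

theorem omegaZ2_le (S : Subgroup G) {p : ℕ} (hp : p.Prime) (hp2 : p ≠ 2) :
    omegaZ2 S hp hp2 ≤ S := fun _ hx => hx.1

theorem pow_eq_one_of_mem_omegaZ2 (S : Subgroup G) {p : ℕ} (hp : p.Prime) (hp2 : p ≠ 2) {x : G}
    (hx : x ∈ omegaZ2 S hp hp2) : x ^ p = 1 := hx.2.1

/-- `N_G(S)` normalises `Ω₁(Z₂(S))`. -/
theorem normalizer_le_normalizer_omegaZ2 [Finite G] (S : Subgroup G) {p : ℕ} (hp : p.Prime)
    (hp2 : p ≠ 2) : normalizer (S : Set G) ≤ normalizer ((omegaZ2 S hp hp2 : Subgroup G) : Set G) := by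
  intro g hg
  apply Cfsg.Agent.Helper66.RefFrobA.mem_normalizer_of_conj_mem
  rintro x ⟨hxS, hxp, hxc⟩
  have hgi : g⁻¹ ∈ normalizer (S : Set G) := inv_mem hg
  refine ⟨(mem_normalizer_iff.mp hg x).mp hxS, by rw [conj_pow, hxp]; simp, ?_⟩
  intro y hy z hz
  have hy' : g⁻¹ * y * g⁻¹⁻¹ ∈ S := (mem_normalizer_iff.mp hgi y).mp hy
  have hz' : g⁻¹ * z * g⁻¹⁻¹ ∈ S := (mem_normalizer_iff.mp hgi z).mp hz
  have h1 := hxc _ hy' _ hz'
  obtain ⟨f, hf⟩ : ∃ f : G, f = x * (g⁻¹ * y * g⁻¹⁻¹) * x⁻¹ * (g⁻¹ * y * g⁻¹⁻¹)⁻¹ := ⟨_, rfl⟩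
  rw [← hf] at h1
  have h2 : g * x * g⁻¹ * y * (g * x * g⁻¹)⁻¹ * y⁻¹ = g * f * g⁻¹ := by rw [hf]; group
  rw [h2]
  calc g * f * g⁻¹ * z = g * (f * (g⁻¹ * z * g⁻¹⁻¹)) * g⁻¹ := by group
    _ = g * ((g⁻¹ * z * g⁻¹⁻¹) * f) * g⁻¹ := by rw [h1]
    _ = z * (g * f * g⁻¹) := by group

/-- **`Ω₁(Z₂(S))` has order at least `p ^ 2`** for a noncyclic `p`-group `S`, `p` odd; more
precisely it contains a normal elementary abelian subgroup of `S` of order `p ^ 2`. -/
theorem exists_le_omegaZ2 [Finite G] (S : Subgroup G) {p : ℕ} (hp : p.Prime) (hp2 : p ≠ 2)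
    (hS : IsPGroup p S) (hnc : ¬ IsCyclic S) :
    ∃ A : Subgroup G, A ≤ omegaZ2 S hp hp2 ∧ S ≤ normalizer (A : Set G) ∧
      (∀ a ∈ A, ∀ b ∈ A, a * b = b * a) ∧ Nat.card A = p ^ 2 := by
  haveI : Fact p.Prime := ⟨hp⟩
  have htop : ¬ IsCyclic (⊤ : Subgroup S) := by
    intro h
    exact hnc (isCyclic_of_surjective (Subgroup.topEquiv : (⊤ : Subgroup S) ≃* S)
      Subgroup.topEquiv.surjective)
  obtain ⟨M, -, hMn, hMc, hMp, hMcard⟩ := Cfsg.Agent.S0636.main hp2 hS (⊤ : Subgroup S) htop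
  haveI := hMn
  have hZ2 := commutator_mem_center_of_card_sq hS M hMcard
  refine ⟨M.map S.subtype, ?_, ?_, ?_, ?_⟩
  · rintro _ ⟨m, hm, rfl⟩
    refine ⟨m.2, ?_, ?_⟩
    · have := hMp m hm
      have h2 := congrArg Subtype.val this
      simpa using h2
    · intro y hy z hz
      have h1 := hZ2 m hm ⟨y, hy⟩
      have h2 := Subgroup.mem_center_iff.mp h1 ⟨z, hz⟩
      have h3 := congrArg Subtype.val h2
      simp only [Subgroup.coe_mul, Subgroup.coe_inv] at h3
      exact h3.symm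
  · intro s hs
    apply Cfsg.Agent.Helper66.RefFrobA.mem_normalizer_of_conj_mem
    rintro _ ⟨m, hm, rfl⟩
    refine ⟨⟨s, hs⟩ * m * ⟨s, hs⟩⁻¹, hMn.conj_mem m hm ⟨s, hs⟩, ?_⟩
    simp
  · rintro _ ⟨a, ha, rfl⟩ _ ⟨b, hb, rfl⟩
    have := hMc a ha b hb
    have h2 := congrArg Subtype.val this
    simpa using h2
  · rw [Subgroup.card_map_of_injective S.subtype_injective, hMcard]

/-- **Main statement.**  A noncyclic `p`-subgroup `S` (`p` odd) has a subgroup `W ≤ S` of exponent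
`p`, of order at least `p ^ 2`, normalised by `N_G(S)`. -/
theorem exists_char_exp_p [Finite G] (S : Subgroup G) {p : ℕ} (hp : p.Prime) (hp2 : p ≠ 2)
    (hS : IsPGroup p S) (hnc : ¬ IsCyclic S) :
    ∃ W : Subgroup G, W ≤ S ∧ normalizer (S : Set G) ≤ normalizer (W : Set G) ∧
      (∀ w ∈ W, w ^ p = 1) ∧ p ^ 2 ≤ Nat.card W ∧ ¬ IsCyclic W := by
  obtain ⟨A, hAW, -, hAc, hAcard⟩ := exists_le_omegaZ2 S hp hp2 hS hnc
  have hexp : ∀ w ∈ omegaZ2 S hp hp2, w ^ p = 1 := fun w hw => hw.2.1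
  refine ⟨omegaZ2 S hp hp2, omegaZ2_le S hp hp2, normalizer_le_normalizer_omegaZ2 S hp hp2,
    hexp, ?_, ?_⟩
  · rw [← hAcard]
    exact Nat.le_of_dvd Nat.card_pos (Subgroup.card_dvd_of_le hAW)
  · intro hcyc
    obtain ⟨g, hg⟩ := hcyc.exists_generator
    have hgp : g ^ p = 1 := Subtype.ext (by simpa using hexp g g.2)
    have hcard : Nat.card (omegaZ2 S hp hp2) ≤ p := by
      rw [← orderOf_eq_card_of_forall_mem_zpowers hg]
      exact Nat.le_of_dvd hp.pos (orderOf_dvd_of_pow_eq_one hgp)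
    have h2 : p ^ 2 ≤ Nat.card (omegaZ2 S hp hp2) := by
      rw [← hAcard]
      exact Nat.le_of_dvd Nat.card_pos (Subgroup.card_dvd_of_le hAW)
    have : p < p ^ 2 := by
      have := hp.one_lt
      nlinarith
    omega

end Cfsg.Agent.Helper66.OmegaZ2
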