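import Mathlib.GroupTheory.GroupAction.Quotient
import Mathlib.GroupTheory.Index
import Mathlib.Algebra.Pointwise.Stabilizer
import Mathlib.Algebra.Group.Pointwise.Set.Card
import Mathlib.GroupTheory.GroupAction.SubMulAction
import Mathlib.GroupTheory.Sylow

set_option autoImplicit false

namespace Cfsg.Agent.Helper66

open MulAction
open scoped Pointwise

/-- Class formula with indices. -/
theorem card_eq_sum_index {G X : Type*} [Group G] [Finite G] [MulAction G X] [Finite X] :
    Nat.card X = ∑ᶠ ω : Quotient (orbitRel G X), (stabilizer G ω.out).index := by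
  classical
  have : Fintype (Quotient (orbitRel G X)) := Fintype.ofFinite _
  rw [Nat.card_congr (selfEquivSigmaOrbitsQuotientStabilizer G X), Nat.card_sigma,
    finsum_eq_sum_of_fintype]
  rfl

/-- If every stabilizer has index divisible by `d` then `d` divides the cardinality. -/
theorem dvd_card_of_dvd_index {G X : Type*} [Group G] [Finite G] [MulAction G X] [Finite X] (d : ℕ)
    (h : ∀ x : X, d ∣ (stabilizer G x).index) : d ∣ Nat.card X := by
  classical
  have : Fintype (Quotient (orbitRel G X)) := Fintype.ofFinite _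
  rw [card_eq_sum_index (G := G), finsum_eq_sum_of_fintype]
  exact Finset.dvd_sum fun ω _ => h _

/-- If every stabilizer has index `m` then the cardinality is `m` times the number of orbits. -/
theorem card_eq_mul_card_orbits {G X : Type*} [Group G] [Finite G] [MulAction G X] [Finite X] (m : ℕ)
    (h : ∀ x : X, (stabilizer G x).index = m) :
    Nat.card X = m * Nat.card (Quotient (orbitRel G X)) := by
  classical
  have : Fintype (Quotient (orbitRel G X)) := Fintype.ofFinite _
  rw [card_eq_sum_index (G := G), finsum_eq_sum_of_fintype]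
  simp only [h, Finset.sum_const, Finset.card_univ, smul_eq_mul, Nat.card_eq_fintype_card]
  ring

/-- The stabilizer of a finite set of group elements under left multiplication has order
dividing the size of the set. -/
theorem card_stabilizer_dvd_ncard {G : Type*} [Group G] (S : Set G) :
    Nat.card (stabilizer G S) ∣ S.ncard := by
  set T := stabilizer G S with hT
  have key : S⁻¹ = (QuotientGroup.mk : G → G ⧸ T) ⁻¹' ((QuotientGroup.mk : G → G ⧸ T) '' S⁻¹) := by
    apply Set.Subset.antisymm (Set.subset_preimage_image _ _)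
    rintro x ⟨y, hy, hxy⟩
    rw [QuotientGroup.eq] at hxy
    -- y⁻¹ * x ∈ T
    have h1 : (y⁻¹ * x)⁻¹ ∈ T := T.inv_mem hxy
    have h2 : (y⁻¹ * x)⁻¹ • S = S := mem_stabilizer_iff.mp h1
    have h3 : (y⁻¹ * x)⁻¹ • y⁻¹ ∈ (y⁻¹ * x)⁻¹ • S := Set.smul_mem_smul_set (Set.mem_inv.mp hy)
    rw [h2] at h3
    have h4 : (y⁻¹ * x)⁻¹ • y⁻¹ = x⁻¹ := by simp [smul_eq_mul]
    rw [h4] at h3
    exact Set.mem_inv.mpr h3
  have := QuotientGroup.card_preimage_mk T ((QuotientGroup.mk : G → G ⧸ T) '' S⁻¹)
  rw [← key, Nat.card_coe_set_eq, Set.ncard_inv] at this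
  exact ⟨_, this⟩

end Cfsg.Agent.Helper66
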