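import Mathlib
import Cfsg.Agent.Lib.Helper2.Nilpotent

/-!
# ORD7920 (Dz) for helper83's S2490 lemma server: a central involution of the normalizer.
-/

set_option autoImplicit false
set_option linter.style.haveILetI false
set_option linter.unusedVariables false

namespace Cfsg.Agent.Helper66.Ord7920

/-- the centralizer is normalized by the normalizer. -/
theorem dz_conj_mem_centralizer {G : Type*} [Group G] (P : Subgroup G) {n c : G}
    (hn : n ∈ Subgroup.normalizer (P : Set G)) (hc : c ∈ Subgroup.centralizer (P : Set G)) :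
    n * c * n⁻¹ ∈ Subgroup.centralizer (P : Set G) := by
  rw [Subgroup.mem_centralizer_iff] at hc ⊢
  intro p hp
  have hp' : n⁻¹ * p * n ∈ P := (Subgroup.mem_normalizer_iff''.mp hn p).mp hp
  have h1 := hc (n⁻¹ * p * n) hp'
  calc p * (n * c * n⁻¹) = n * ((n⁻¹ * p * n) * c) * n⁻¹ := by group
    _ = n * (c * (n⁻¹ * p * n)) * n⁻¹ := by rw [h1]
    _ = n * c * n⁻¹ * p := by group

/-- (Dz) a central involution of the normalizer. -/
theorem exists_central_involution {G : Type*} [Group G] [Finite G] (P : Subgroup G)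
    (hP : Nat.card P = 11) {a : ℕ} (h2 : Nat.card (Subgroup.normalizer (P : Set G)) = 2 ^ a * 11)
    (hC : Even (Nat.card (Subgroup.centralizer (P : Set G)))) :
    ∃ z : G, orderOf z = 2 ∧ z ∈ Subgroup.centralizer (P : Set G) ∧
      ∀ n ∈ Subgroup.normalizer (P : Set G), n * z = z * n := by
  classical
  haveI : Fact (Nat.Prime 2) := ⟨Nat.prime_two⟩
  have hCN : Subgroup.centralizer (P : Set G) ≤ Subgroup.normalizer (P : Set G) :=
    Subgroup.centralizer_le_normalizer _
  have hPN : P ≤ Subgroup.normalizer (P : Set G) := Subgroup.le_normalizer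
  obtain ⟨z0, hz0⟩ := exists_prime_orderOf_dvd_card' 2 (hC.two_dvd)
  let z0N : ↥(Subgroup.normalizer (P : Set G)) := ⟨z0.1, hCN z0.2⟩
  have hz0N : orderOf z0N = 2 := by
    rw [← hz0, ← Subgroup.orderOf_coe z0N, ← Subgroup.orderOf_coe z0]
  have hZp : IsPGroup 2 (Subgroup.zpowers z0N) := by
    apply IsPGroup.of_card (n := 1)
    rw [Nat.card_zpowers, hz0N]; norm_num
  obtain ⟨R, hR⟩ := hZp.exists_le_sylow
  set Rg : Subgroup G := (R : Subgroup (Subgroup.normalizer (P : Set G))).map
    (Subgroup.normalizer (P : Set G)).subtype with hRg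
  have hRgN : Rg ≤ Subgroup.normalizer (P : Set G) := by
    rintro _ ⟨r, _, rfl⟩; exact r.2
  have hRgp : IsPGroup 2 Rg := R.2.map _
  have hz0R : z0.1 ∈ Rg := ⟨z0N, hR (Subgroup.mem_zpowers _), rfl⟩
  have hRcard : 2 ^ a ∣ Nat.card Rg := by
    have h1 : Nat.card Rg = Nat.card (R : Subgroup (Subgroup.normalizer (P : Set G))) :=
      Subgroup.card_map_of_injective (Subgroup.subtype_injective _)
    rw [h1]
    have h3 : Nat.card (R : Subgroup (Subgroup.normalizer (P : Set G))) *
        (R : Subgroup (Subgroup.normalizer (P : Set G))).index = 2 ^ a * 11 := by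
      rw [Subgroup.card_mul_index, h2]
    have h4 : ¬ 2 ∣ (R : Subgroup (Subgroup.normalizer (P : Set G))).index := R.not_dvd_index
    have h5 : (2 ^ a).Coprime (R : Subgroup (Subgroup.normalizer (P : Set G))).index :=
      Nat.Coprime.pow_left a ((Nat.Prime.coprime_iff_not_dvd Nat.prime_two).mpr h4)
    exact h5.dvd_of_dvd_mul_right (Dvd.intro 11 h3.symm)
  let K' : Subgroup ↥Rg := (Subgroup.centralizer (P : Set G)).subgroupOf Rg
  haveI hK'n : K'.Normal := ⟨by
    intro c hc r
    rw [Subgroup.mem_subgroupOf] at hc ⊢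
    simpa using dz_conj_mem_centralizer P (hRgN r.2) hc⟩
  have hK'ne : K' ≠ ⊥ := by
    intro h
    have h1 : (⟨z0.1, hz0R⟩ : ↥Rg) ∈ K' := by
      rw [Subgroup.mem_subgroupOf]; exact z0.2
    rw [h, Subgroup.mem_bot] at h1
    have h3 : z0.1 = 1 := congrArg Subtype.val h1
    have h4 : z0 = 1 := Subtype.ext h3
    rw [h4, orderOf_one] at hz0
    norm_num at hz0
  haveI : Group.IsNilpotent ↥Rg := hRgp.isNilpotent
  have hZ := Cfsg.Agent.Helper2.normal_inf_center_ne_bot K' hK'ne
  set Z : Subgroup ↥Rg := K' ⊓ Subgroup.center ↥Rg with hZdef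
  have hZp2 : IsPGroup 2 Z := hRgp.to_subgroup Z
  have h2Z : 2 ∣ Nat.card Z := by
    obtain ⟨k, hk⟩ := hZp2.exists_card_eq
    rcases k with _ | k
    · exfalso; apply hZ
      exact Subgroup.card_eq_one.mp (by simpa using hk)
    · rw [hk, pow_succ]; exact dvd_mul_left 2 _
  obtain ⟨z, hz⟩ := exists_prime_orderOf_dvd_card' 2 h2Z
  have hzC : ((z : ↥Rg) : G) ∈ Subgroup.centralizer (P : Set G) :=
    Subgroup.mem_subgroupOf.mp z.2.1
  refine ⟨((z : ↥Rg) : G), ?_, hzC, ?_⟩
  · rw [Subgroup.orderOf_coe, Subgroup.orderOf_coe]; exact hz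
  · have hzR : ∀ r ∈ Rg, r * ((z : ↥Rg) : G) = ((z : ↥Rg) : G) * r := by
      intro r hr
      have h1 := (Subgroup.mem_center_iff.mp z.2.2) ⟨r, hr⟩
      exact congrArg Subtype.val h1
    have hzP : ∀ p ∈ P, p * ((z : ↥Rg) : G) = ((z : ↥Rg) : G) * p := by
      intro p hp
      exact (Subgroup.mem_centralizer_iff.mp hzC p hp)
    have hsup : P ⊔ Rg = Subgroup.normalizer (P : Set G) := by
      apply Subgroup.eq_of_le_of_card_ge (sup_le hPN hRgN)
      have h11 : 11 ∣ Nat.card (P ⊔ Rg : Subgroup G) := hP ▸ Subgroup.card_dvd_of_le le_sup_left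
      have h2a : 2 ^ a ∣ Nat.card (P ⊔ Rg : Subgroup G) :=
        hRcard.trans (Subgroup.card_dvd_of_le le_sup_right)
      have hcop : (2 ^ a).Coprime 11 := by
        apply Nat.Coprime.pow_left; norm_num
      have h3 := hcop.mul_dvd_of_dvd_of_dvd h2a h11
      rw [h2]; exact Nat.le_of_dvd Nat.card_pos h3
    have hle : P ⊔ Rg ≤ Subgroup.centralizer {((z : ↥Rg) : G)} := by
      apply sup_le
      · intro p hp
        rw [Subgroup.mem_centralizer_iff]
        intro h hh
        rw [Set.mem_singleton_iff] at hh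
        rw [hh]; exact (hzP p hp).symm
      · intro r hr
        rw [Subgroup.mem_centralizer_iff]
        intro h hh
        rw [Set.mem_singleton_iff] at hh
        rw [hh]; exact (hzR r hr).symm
    intro n hn
    rw [← hsup] at hn
    have h1 := hle hn
    rw [Subgroup.mem_centralizer_iff] at h1
    exact (h1 _ (Set.mem_singleton _)).symm

end Cfsg.Agent.Helper66.Ord7920
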