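import Cfsg.Agent.S3993
import Mathlib.GroupTheory.OrderOfElement
import Mathlib.GroupTheory.Sylow
import Mathlib.GroupTheory.PGroup
import Mathlib.Algebra.BigOperators.Group.Finset.Basic
import Mathlib.GroupTheory.NoncommCoprod
import Mathlib.GroupTheory.SpecificGroups.Cyclic
import Mathlib.GroupTheory.Index
import Mathlib.GroupTheory.Exponent

set_option autoImplicit false
set_option linter.unusedSectionVars false
set_option linter.style.haveILetI false

namespace Cfsg.Agent.Helper66

/-- The solutions of `g ^ m = 1`, counted by order over a duplicate-free list of the divisors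
of `m`. -/
theorem card_pow_eq_one_eq_sum {G : Type*} [Group G] [Finite G] (m : ℕ) (L : List ℕ)
    (hnd : L.Nodup) (hL : ∀ d, d ∈ L ↔ d ∣ m) :
    Nat.card {g : G // g ^ m = 1} = (L.map (fun d => Nat.card {g : G // orderOf g = d})).sum := by
  classical
  have : Fintype G := Fintype.ofFinite G
  rw [← List.sum_toFinset _ hnd]
  have h1 : Nat.card {g : G // g ^ m = 1} = (Finset.univ.filter (fun g : G => g ^ m = 1)).card := by
    rw [Nat.card_eq_fintype_card, Fintype.card_subtype]
  rw [h1, Finset.card_eq_sum_card_fiberwise (f := orderOf) (t := L.toFinset)]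
  · apply Finset.sum_congr rfl
    intro d hd
    rw [Nat.card_eq_fintype_card, Fintype.card_subtype]
    congr 1
    ext g
    simp only [Finset.mem_filter, Finset.mem_univ, true_and]
    constructor
    · rintro ⟨_, h⟩; exact h
    · intro h
      refine ⟨?_, h⟩
      have hdm : d ∣ m := (hL d).mp (List.mem_toFinset.mp hd)
      rw [← h] at hdm
      exact orderOf_dvd_iff_pow_eq_one.mp hdm
  · intro g hg
    simp only [Finset.coe_filter, Finset.mem_univ, true_and, Set.mem_ofPred_eq] at hg
    simp only [Finset.mem_coe, List.mem_toFinset]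
    exact (hL _).mpr (orderOf_dvd_of_pow_eq_one hg)

/-- Arithmetic helper: `p ∣ 1 + n` and `p ∣ a + b n` with `0 < |a - b| ≤ 2` is impossible for
`p ≥ 3`. -/
theorem dvd_arith_aux (p n a b : ℕ) (hp : 3 ≤ p) (h1 : p ∣ 1 + n) (h2 : p ∣ a + b * n)
    (h : a + 1 = b ∨ a + 2 = b ∨ a = b + 1) : False := by
  have h1' : (p : ℤ) ∣ 1 + (n : ℤ) := by exact_mod_cast Int.natCast_dvd_natCast.mpr h1
  have h2' : (p : ℤ) ∣ (a : ℤ) + b * n := by exact_mod_cast Int.natCast_dvd_natCast.mpr h2
  have h3 : (p : ℤ) ∣ (a : ℤ) - b := by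
    have := dvd_sub h2' (dvd_mul_of_dvd_right h1' (b : ℤ))
    have e : (a : ℤ) + b * n - b * (1 + n) = a - b := by ring
    rw [e] at this
    exact this
  have h4 : ((a : ℤ) - b).natAbs ≤ 2 ∧ 0 < ((a : ℤ) - b).natAbs := by
    rcases h with h | h | h <;> omega
  have h5 : p ∣ ((a : ℤ) - b).natAbs := Int.natCast_dvd.mp h3
  have h6 := Nat.le_of_dvd h4.2 h5
  omega

/-- Order-type data: `s m` counts the elements of order `m`, and these counts take the values
`1` and `n ≠ 1` only (on orders that occur), `n` being attained. -/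
structure OrderType2 (G : Type*) [Group G] (n : ℕ) (s : ℕ → ℕ) : Prop where
  hs : ∀ m, s m = Nat.card {g : G // orderOf g = m}
  hV : ∀ m, (∃ g : G, orderOf g = m) → s m = 1 ∨ s m = n
  hatt : ∃ m, (∃ g : G, orderOf g = m) ∧ s m = n
  hn : n ≠ 1

namespace OrderType2

variable {G : Type*} [Group G] [Finite G] {n : ℕ} {s : ℕ → ℕ}

theorem s_zero (T : OrderType2 G n s) (m : ℕ) (hm : ¬ ∃ g : G, orderOf g = m) : s m = 0 := by
  rw [T.hs m, Nat.card_eq_zero]
  left
  exact ⟨fun ⟨g, hg⟩ => hm ⟨g, hg⟩⟩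

theorem s_ne_zero (T : OrderType2 G n s) (m : ℕ) (hex : ∃ g : G, orderOf g = m) : s m ≠ 0 := by
  obtain ⟨g, hg⟩ := hex
  rw [T.hs m]
  have : Nonempty {g : G // orderOf g = m} := ⟨⟨g, hg⟩⟩
  exact Nat.card_pos.ne'

theorem s_one (T : OrderType2 G n s) : s 1 = 1 := by
  rw [T.hs 1, Nat.card_eq_one_iff_unique]
  refine ⟨⟨?_⟩, ⟨⟨1, orderOf_one⟩⟩⟩
  rintro ⟨a, ha⟩ ⟨b, hb⟩
  rw [orderOf_eq_one_iff] at ha hb
  exact Subtype.ext (ha.trans hb.symm)

theorem s_ge3 (T : OrderType2 G n s) (m : ℕ) (hm : 3 ≤ m) (hex : ∃ g : G, orderOf g = m) :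
    s m = n := by
  rcases T.hV m hex with h | h
  · exfalso
    obtain ⟨g, hg⟩ := hex
    rw [T.hs m, Nat.card_eq_one_iff_unique] at h
    obtain ⟨hsub, -⟩ := h
    have h1 : (⟨g, hg⟩ : {g : G // orderOf g = m}) = ⟨g⁻¹, by rw [orderOf_inv]; exact hg⟩ :=
      Subsingleton.elim _ _
    have h2 : g = g⁻¹ := congrArg Subtype.val h1
    have h3 : g ^ 2 = 1 := by
      rw [sq]
      nth_rewrite 2 [h2]
      exact mul_inv_cancel g
    have h4 := orderOf_dvd_of_pow_eq_one h3
    rw [hg] at h4
    have := Nat.le_of_dvd (by norm_num) h4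
    omega
  · exact h

theorem s_cases (T : OrderType2 G n s) (m : ℕ) (hm : 3 ≤ m) : s m = 0 ∨ s m = n := by
  by_cases hex : ∃ g : G, orderOf g = m
  · exact Or.inr (T.s_ge3 m hm hex)
  · exact Or.inl (T.s_zero m hex)

theorem frob (T : OrderType2 G n s) (m : ℕ) (L : List ℕ) (hm : m ∣ Nat.card G) (hnd : L.Nodup)
    (hL : ∀ d, d ∈ L ↔ d ∣ m) : m ∣ (L.map s).sum := by
  have h1 := Cfsg.Agent.S3993.result (G := G) m hm
  rw [card_pow_eq_one_eq_sum m L hnd hL] at h1
  have h2 : s = fun d => Nat.card {g : G // orderOf g = d} := funext T.hs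
  rw [h2]
  exact h1

theorem cauchy (p : ℕ) (hp : p.Prime) (hd : p ∣ Nat.card G) : ∃ g : G, orderOf g = p := by
  haveI := Fact.mk hp
  exact exists_prime_orderOf_dvd_card' p hd

/-- (A) `p ∣ 1 + n` for every odd prime divisor of the group order. -/
theorem dvd_one_add (T : OrderType2 G n s) (p : ℕ) (hp : p.Prime) (hp3 : 3 ≤ p)
    (hd : p ∣ Nat.card G) : p ∣ 1 + n := by
  have h1 := T.frob p [1, p] hd (by simp; omega) (by intro d; simp [Nat.dvd_prime hp])
  simp only [List.map_cons, List.map_nil, List.sum_cons, List.sum_nil, add_zero] at h1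
  rw [T.s_one, T.s_ge3 p hp3 (cauchy p hp hd)] at h1
  exact h1

/-- (B) no elements of order `p²` for odd `p`. -/
theorem s_sq_eq_zero (T : OrderType2 G n s) (p : ℕ) (hp : p.Prime) (hp3 : 3 ≤ p)
    (hd : p ^ 2 ∣ Nat.card G) : s (p ^ 2) = 0 := by
  have hpd : p ∣ Nat.card G := (dvd_pow_self p (by norm_num)).trans hd
  have hA := T.dvd_one_add p hp hp3 hpd
  have hlt : p < p ^ 2 := by nlinarith
  have h1 := T.frob (p ^ 2) [1, p, p ^ 2] hd (by simp; omega) (by
    intro d
    rw [Nat.dvd_prime_pow hp]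
    simp only [List.mem_cons, List.not_mem_nil, or_false]
    constructor
    · rintro (rfl | rfl | rfl)
      · exact ⟨0, by norm_num, by simp⟩
      · exact ⟨1, by norm_num, by simp⟩
      · exact ⟨2, le_refl _, rfl⟩
    · rintro ⟨k, hk, rfl⟩
      interval_cases k <;> simp)
  simp only [List.map_cons, List.map_nil, List.sum_cons, List.sum_nil, add_zero] at h1
  rw [T.s_one, T.s_ge3 p hp3 (cauchy p hp hpd)] at h1
  rcases T.s_cases (p ^ 2) (by omega) with h | h
  · exact h
  · exfalso
    rw [h] at h1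
    have h2 : p ∣ 1 + 2 * n := by
      have hpp2 : p ∣ p ^ 2 := Dvd.intro p (by ring)
      have := hpp2.trans h1
      have e : 1 + 2 * n = 1 + (n + n) := by ring
      rw [e]; exact this
    exact dvd_arith_aux p n 1 2 hp3 hA h2 (Or.inl rfl)

/-- (C) at most one odd prime divides the group order. -/
theorem odd_prime_unique (T : OrderType2 G n s) (p q : ℕ) (hp : p.Prime) (hq : q.Prime)
    (hp3 : 3 ≤ p) (hq3 : 3 ≤ q) (hpd : p ∣ Nat.card G) (hqd : q ∣ Nat.card G) : p = q := by
  by_contra hne
  have hA := T.dvd_one_add p hp hp3 hpd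
  have hco : Nat.Coprime p q := (Nat.coprime_primes hp hq).mpr hne
  have hd : p * q ∣ Nat.card G := Nat.Coprime.mul_dvd_of_dvd_of_dvd hco hpd hqd
  have hlt1 : p < p * q := by nlinarith
  have hlt2 : q < p * q := by nlinarith
  have h1 := T.frob (p * q) [1, p, q, p * q] hd (by simp; omega) (by
    intro d
    simp only [List.mem_cons, List.not_mem_nil, or_false]
    constructor
    · rintro (rfl | rfl | rfl | rfl)
      · exact one_dvd _
      · exact dvd_mul_right _ _
      · exact dvd_mul_left _ _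
      · exact dvd_rfl
    · intro hdd
      obtain ⟨x, y, hx, hy, rfl⟩ := (Nat.dvd_mul).mp hdd
      rcases (Nat.dvd_prime hp).mp hx with rfl | rfl <;>
        rcases (Nat.dvd_prime hq).mp hy with rfl | rfl <;> simp)
  simp only [List.map_cons, List.map_nil, List.sum_cons, List.sum_nil, add_zero] at h1
  rw [T.s_one, T.s_ge3 p hp3 (cauchy p hp hpd), T.s_ge3 q hq3 (cauchy q hq hqd)] at h1
  have h2 : p ∣ 1 + (n + (n + s (p * q))) := (dvd_mul_right p q).trans h1
  rcases T.s_cases (p * q) (by omega) with h | h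
  · rw [h] at h2
    have h3 : p ∣ 1 + 2 * n := by convert h2 using 1; ring
    exact dvd_arith_aux p n 1 2 hp3 hA h3 (Or.inl rfl)
  · rw [h] at h2
    have h3 : p ∣ 1 + 3 * n := by convert h2 using 1; ring
    exact dvd_arith_aux p n 1 3 hp3 hA h3 (Or.inr (Or.inl rfl))

/-- (D) if `2` and an odd prime `p` divide the order, the involution is unique and elements of
order `2p` exist. -/
theorem s_two_eq_one (T : OrderType2 G n s) (p : ℕ) (hp : p.Prime) (hp3 : 3 ≤ p)
    (hpd : p ∣ Nat.card G) (h2d : 2 ∣ Nat.card G) : s 2 = 1 ∧ s (2 * p) = n := by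
  have hA := T.dvd_one_add p hp hp3 hpd
  have hco : Nat.Coprime 2 p := (Nat.coprime_primes Nat.prime_two hp).mpr (by omega)
  have hd : 2 * p ∣ Nat.card G := Nat.Coprime.mul_dvd_of_dvd_of_dvd hco h2d hpd
  have h1 := T.frob (2 * p) [1, 2, p, 2 * p] hd (by simp; omega) (by
    intro d
    simp only [List.mem_cons, List.not_mem_nil, or_false]
    constructor
    · rintro (rfl | rfl | rfl | rfl)
      · exact one_dvd _
      · exact dvd_mul_right _ _
      · exact dvd_mul_left _ _
      · exact dvd_rfl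
    · intro hdd
      obtain ⟨x, y, hx, hy, rfl⟩ := (Nat.dvd_mul).mp hdd
      rcases (Nat.dvd_prime Nat.prime_two).mp hx with rfl | rfl <;>
        rcases (Nat.dvd_prime hp).mp hy with rfl | rfl <;> simp)
  simp only [List.map_cons, List.map_nil, List.sum_cons, List.sum_nil, add_zero] at h1
  rw [T.s_one, T.s_ge3 p hp3 (cauchy p hp hpd)] at h1
  have h2 : p ∣ 1 + (s 2 + (n + s (2 * p))) := (dvd_mul_left p 2).trans h1
  have hs2 : s 2 = 1 := by
    rcases T.hV 2 (cauchy 2 Nat.prime_two h2d) with h | h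
    · exact h
    · exfalso
      rw [h] at h2
      rcases T.s_cases (2 * p) (by omega) with h' | h'
      · rw [h'] at h2
        have h3 : p ∣ 1 + 2 * n := by convert h2 using 1; ring
        exact dvd_arith_aux p n 1 2 hp3 hA h3 (Or.inl rfl)
      · rw [h'] at h2
        have h3 : p ∣ 1 + 3 * n := by convert h2 using 1; ring
        exact dvd_arith_aux p n 1 3 hp3 hA h3 (Or.inr (Or.inl rfl))
  refine ⟨hs2, ?_⟩
  rcases T.s_cases (2 * p) (by omega) with h' | h'
  · exfalso
    rw [hs2, h'] at h2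
    have h3 : p ∣ 2 + 1 * n := by convert h2 using 1; ring
    exact dvd_arith_aux p n 2 1 hp3 hA h3 (Or.inr (Or.inr rfl))
  · exact h'

/-- (G) with a unique involution and `4 ∣ |G|` there are elements of order `4` and
`4 ∣ 2 + n`. -/
theorem s_four_of_s_two_eq_one (T : OrderType2 G n s) (hs2 : s 2 = 1) (h4d : 4 ∣ Nat.card G) :
    s 4 = n ∧ 4 ∣ 2 + n := by
  have h1 := T.frob 4 [1, 2, 4] h4d (by simp) (by
    intro d
    simp only [List.mem_cons, List.not_mem_nil, or_false]
    constructor
    · rintro (rfl | rfl | rfl) <;> norm_num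
    · intro hdd
      have := Nat.le_of_dvd (by norm_num) hdd
      interval_cases d <;> simp_all)
  simp only [List.map_cons, List.map_nil, List.sum_cons, List.sum_nil, add_zero] at h1
  rw [T.s_one, hs2] at h1
  rcases T.s_cases 4 (by norm_num) with h | h
  · exfalso
    rw [h] at h1
    omega
  · rw [h] at h1
    exact ⟨h, by omega⟩

/-- (F) if the involutions number `n` there is no element of order `4`. -/
theorem s_four_of_s_two_eq_n (T : OrderType2 G n s) (hs2 : s 2 = n) (h4d : 4 ∣ Nat.card G) :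
    s 4 = 0 := by
  have h1 := T.frob 4 [1, 2, 4] h4d (by simp) (by
    intro d
    simp only [List.mem_cons, List.not_mem_nil, or_false]
    constructor
    · rintro (rfl | rfl | rfl) <;> norm_num
    · intro hdd
      have := Nat.le_of_dvd (by norm_num) hdd
      interval_cases d <;> simp_all)
  simp only [List.map_cons, List.map_nil, List.sum_cons, List.sum_nil, add_zero] at h1
  rw [T.s_one, hs2] at h1
  rcases T.s_cases 4 (by norm_num) with h | h
  · exact h
  · exfalso
    rw [h] at h1
    omega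

/-- (H) with a unique involution there is no element of order `8`. -/
theorem s_eight_eq_zero (T : OrderType2 G n s) (hs2 : s 2 = 1) (h8d : 8 ∣ Nat.card G) :
    s 8 = 0 := by
  have h4d : 4 ∣ Nat.card G := (by norm_num : 4 ∣ 8).trans h8d
  obtain ⟨hs4, h4n⟩ := T.s_four_of_s_two_eq_one hs2 h4d
  have h1 := T.frob 8 [1, 2, 4, 8] h8d (by simp) (by
    intro d
    simp only [List.mem_cons, List.not_mem_nil, or_false]
    constructor
    · rintro (rfl | rfl | rfl | rfl) <;> norm_num
    · intro hdd
      have := Nat.le_of_dvd (by norm_num) hdd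
      interval_cases d <;> simp_all)
  simp only [List.map_cons, List.map_nil, List.sum_cons, List.sum_nil, add_zero] at h1
  rw [T.s_one, hs2, hs4] at h1
  rcases T.s_cases 8 (by norm_num) with h | h
  · exact h
  · exfalso
    rw [h] at h1
    omega

/-- (E) if an odd prime divides the order then `4` does not. -/
theorem not_four_dvd (T : OrderType2 G n s) (p : ℕ) (hp : p.Prime) (hp3 : 3 ≤ p)
    (hpd : p ∣ Nat.card G) (h4d : 4 ∣ Nat.card G) : False := by
  have hA := T.dvd_one_add p hp hp3 hpd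
  have h2d : 2 ∣ Nat.card G := (by norm_num : 2 ∣ 4).trans h4d
  obtain ⟨hs2, hs2p⟩ := T.s_two_eq_one p hp hp3 hpd h2d
  obtain ⟨hs4, -⟩ := T.s_four_of_s_two_eq_one hs2 h4d
  have hco : Nat.Coprime 4 p := by
    have : Nat.Coprime 2 p := (Nat.coprime_primes Nat.prime_two hp).mpr (by omega)
    exact Nat.Coprime.pow_left 2 this
  have hd : 4 * p ∣ Nat.card G := Nat.Coprime.mul_dvd_of_dvd_of_dvd hco h4d hpd
  have hp4 : p ≠ 4 := by
    rintro rfl
    exact absurd hp (by decide)
  have h1 := T.frob (4 * p) [1, 2, 4, p, 2 * p, 4 * p] hd (by simp; omega) (by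
    intro d
    simp only [List.mem_cons, List.not_mem_nil, or_false]
    constructor
    · rintro (rfl | rfl | rfl | rfl | rfl | rfl)
      · exact one_dvd _
      · exact Dvd.dvd.mul_right (by norm_num) _
      · exact dvd_mul_right _ _
      · exact dvd_mul_left _ _
      · exact Nat.mul_dvd_mul (by norm_num) dvd_rfl
      · exact dvd_rfl
    · intro hdd
      obtain ⟨x, y, hx, hy, rfl⟩ := (Nat.dvd_mul).mp hdd
      have hx4 := Nat.le_of_dvd (by norm_num) hx
      rcases (Nat.dvd_prime hp).mp hy with rfl | rfl <;> interval_cases x <;> simp_all)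
  simp only [List.map_cons, List.map_nil, List.sum_cons, List.sum_nil, add_zero] at h1
  rw [T.s_one, hs2, hs4, T.s_ge3 p hp3 (cauchy p hp hpd), hs2p] at h1
  have h2 : p ∣ 1 + (1 + (n + (n + (n + s (4 * p))))) := (dvd_mul_left p 4).trans h1
  rcases T.s_cases (4 * p) (by omega) with h | h
  · rw [h] at h2
    have h3 : p ∣ 2 + 3 * n := by convert h2 using 1; ring
    exact dvd_arith_aux p n 2 3 hp3 hA h3 (Or.inl rfl)
  · rw [h] at h2
    have h3 : p ∣ 2 + 4 * n := by convert h2 using 1; ring
    exact dvd_arith_aux p n 2 4 hp3 hA h3 (Or.inr (Or.inl rfl))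

end OrderType2



/-- A copy of `Fin k` carrying no algebraic instances. -/
def FinCopy (k : ℕ) : Type := Fin k

instance (k : ℕ) : Finite (FinCopy k) := inferInstanceAs (Finite (Fin k))

/-- Every finite group has an isomorphic copy living in `Type`. -/
theorem exists_type_zero_copy (S : Type*) [Group S] [Finite S] :
    ∃ (P : Type) (_ : Group P) (_ : Finite P), Nonempty (S ≃* P) := by
  let e : FinCopy (Nat.card S) ≃ S := (Finite.equivFin S).symm
  let _ : Group (FinCopy (Nat.card S)) := e.group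
  exact ⟨FinCopy (Nat.card S), e.group, inferInstance, ⟨e.mulEquiv.symm⟩⟩

/-- From an element of order `p ^ j` we get elements of every order `p ^ i`, `i ≤ j`. -/
theorem exists_orderOf_eq_pow_of_le {G : Type*} [Group G] (p i j : ℕ) (hp : p.Prime) (hij : i ≤ j)
    (g : G) (hg : orderOf g = p ^ j) : ∃ w : G, orderOf w = p ^ i := by
  refine ⟨g ^ (p ^ (j - i)), ?_⟩
  rw [orderOf_pow_of_dvd (pow_ne_zero _ hp.ne_zero) (by rw [hg]; exact pow_dvd_pow p (by omega)),
    hg, Nat.pow_div (by omega) hp.pos]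
  congr 1
  omega

/-- A `p`-group without elements of order `p²` has exponent dividing `p`. -/
theorem pow_eq_one_of_no_sq {Q : Type*} [Group Q] (p : ℕ) (hp : p.Prime) (hQ : IsPGroup p Q)
    (hno : ¬ ∃ g : Q, orderOf g = p ^ 2) (g : Q) : g ^ p = 1 := by
  have : Fact p.Prime := ⟨hp⟩
  obtain ⟨j, hj⟩ := IsPGroup.iff_orderOf.mp hQ g
  by_cases hj2 : 2 ≤ j
  · exact absurd (exists_orderOf_eq_pow_of_le p 2 j hp hj2 g hj) hno
  · have : j = 0 ∨ j = 1 := by omega
    rcases this with rfl | rfl
    · rw [pow_zero, orderOf_eq_one_iff] at hj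
      rw [hj, one_pow]
    · rw [pow_one] at hj
      rw [← hj, pow_orderOf_eq_one]

/-- A group with a central involution `t` and a subgroup `S` of index `2` and odd order is
`Z₂ × S`. -/
theorem nonempty_mulEquiv_prod_of_central_involution {G : Type*} [Group G] [Finite G] (t : G)
    (ht : orderOf t = 2) (htc : ∀ g : G, g * t = t * g) (S : Subgroup G) (hS : S.index = 2)
    (hodd : Odd (Nat.card S)) : Nonempty (G ≃* Multiplicative (ZMod 2) × S) := by
  have hcomm : ∀ (a : Subgroup.zpowers t) (x : S),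
      Commute ((Subgroup.zpowers t).subtype a) (S.subtype x) := by
    rintro ⟨a, ha⟩ x
    obtain ⟨k, rfl⟩ := Subgroup.mem_zpowers_iff.mp ha
    show t ^ k * (x : G) = (x : G) * t ^ k
    exact ((Commute.zpow_right (show Commute (x : G) t from htc x) k)).eq.symm
  have hZcard : Nat.card (Subgroup.zpowers t) = 2 := by rw [Nat.card_zpowers, ht]
  have hinj : Function.Injective
      (MonoidHom.noncommCoprod (Subgroup.zpowers t).subtype S.subtype hcomm) := by
    rw [MonoidHom.noncommCoprod_injective]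
    refine ⟨Subgroup.subtype_injective _, Subgroup.subtype_injective _, ?_⟩
    rw [Subgroup.range_subtype, Subgroup.range_subtype]
    apply Subgroup.disjoint_of_coprime_natCard
    rw [hZcard]
    exact (Nat.coprime_two_left).mpr hodd
  have hcard : Nat.card G ≤ Nat.card (Subgroup.zpowers t × S) := by
    rw [Nat.card_prod, hZcard, ← S.card_mul_index, hS, mul_comm]
  have hbij := hinj.bijective_of_nat_card_le hcard
  have e1 : Subgroup.zpowers t × S ≃* G := MulEquiv.ofBijective _ hbij
  have e2 : Subgroup.zpowers t ≃* Multiplicative (ZMod 2) := by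
    apply mulEquivOfCyclicCardEq
    rw [hZcard, Nat.card_eq_fintype_card]
    rfl
  exact ⟨e1.symm.trans (MulEquiv.prodCongr e2 (MulEquiv.refl S))⟩


end Cfsg.Agent.Helper66
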