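import Cfsg.Agent.Lib.Helper66.OrdersFour
import Cfsg.Agent.Lib.Helper90.MinNonNilp
import Cfsg.Agent.S0144
import Cfsg.Prelude.Def_LieExceptional

set_option autoImplicit false

namespace Cfsg.Agent.Helper66

section Basic
variable {G : Type*} [Group G]

theorem pow_four_or_cube_of_ord
    (hord : ∀ g : G, orderOf g = 1 ∨ orderOf g = 2 ∨ orderOf g = 3 ∨ orderOf g = 4) (g : G) :
    g ^ 4 = 1 ∨ g ^ 3 = 1 := by
  rcases hord g with h | h | h | h
  · left; rw [orderOf_eq_one_iff.mp h, one_pow]
  · left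
    have := pow_orderOf_eq_one g
    rw [h] at this
    calc g ^ 4 = (g ^ 2) ^ 2 := by rw [← pow_mul]
      _ = 1 := by rw [this, one_pow]
  · right
    have := pow_orderOf_eq_one g
    rwa [h] at this
  · left
    have := pow_orderOf_eq_one g
    rwa [h] at this

theorem eq_one_of_pow_four_of_cube (g : G) (h4 : g ^ 4 = 1) (h3 : g ^ 3 = 1) : g = 1 := by
  calc g = g ^ 4 * (g ^ 3)⁻¹ := by group
    _ = 1 := by rw [h4, h3, inv_one, mul_one]

/-- An element commuting with an element of order 3 has order dividing 3. -/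
theorem cube_of_commute_of_ord
    (hord : ∀ g : G, orderOf g = 1 ∨ orderOf g = 2 ∨ orderOf g = 3 ∨ orderOf g = 4)
    {a b : G} (hab : Commute a b) (ha : orderOf a = 3) : b ^ 3 = 1 := by
  rcases hord b with h | h | h | h
  · rw [orderOf_eq_one_iff.mp h, one_pow]
  · exfalso
    have := hab.orderOf_mul_eq_mul_orderOf_of_coprime (by rw [ha, h]; norm_num)
    rw [ha, h] at this
    rcases hord (a * b) with h' | h' | h' | h' <;> omega
  · have := pow_orderOf_eq_one b
    rwa [h] at this
  · exfalso
    have := hab.orderOf_mul_eq_mul_orderOf_of_coprime (by rw [ha, h]; norm_num)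
    rw [ha, h] at this
    rcases hord (a * b) with h' | h' | h' | h' <;> omega

/-- A 2-element commuting with an element of order 3 is trivial. -/
theorem eq_one_of_commute_of_ord
    (hord : ∀ g : G, orderOf g = 1 ∨ orderOf g = 2 ∨ orderOf g = 3 ∨ orderOf g = 4)
    {a b : G} (hab : Commute a b) (ha : orderOf a = 3) (hb : b ^ 4 = 1) : b = 1 :=
  eq_one_of_pow_four_of_cube b hb (cube_of_commute_of_ord hord hab ha)

theorem orderOf_eq_three_of_cube {g : G} (h3 : g ^ 3 = 1) (h1 : g ≠ 1) : orderOf g = 3 := by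
  have hp3 : Fact (Nat.Prime 3) := ⟨Nat.prime_three⟩
  exact orderOf_eq_prime h3 h1

/-- An element whose cube is 1 and which commutes with a nontrivial 2-element is trivial. -/
theorem eq_one_of_commute_of_ord'
    (hord : ∀ g : G, orderOf g = 1 ∨ orderOf g = 2 ∨ orderOf g = 3 ∨ orderOf g = 4)
    {a b : G} (hab : Commute a b) (ha : a ^ 3 = 1) (hb : b ^ 4 = 1) (hb1 : b ≠ 1) : a = 1 := by
  by_contra ha1
  exact hb1 (eq_one_of_commute_of_ord hord hab (orderOf_eq_three_of_cube ha ha1) hb)

theorem isCNGroup_of_ord [Finite G]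
    (hord : ∀ g : G, orderOf g = 1 ∨ orderOf g = 2 ∨ orderOf g = 3 ∨ orderOf g = 4) :
    Cfsg.IsCNGroup G := by
  intro g hg
  rcases pow_four_or_cube_of_ord hord g with h4 | h3
  · -- centralizer is a 2-group
    have hp2 : Fact (Nat.Prime 2) := ⟨Nat.prime_two⟩
    have hP : IsPGroup 2 (Subgroup.centralizer ({g} : Set G)) := by
      intro c
      refine ⟨2, ?_⟩
      apply Subtype.ext
      rw [Subgroup.coe_pow, Subgroup.coe_one]
      have hc : Commute (c : G) g := by
        have := c.2
        rw [Subgroup.mem_centralizer_singleton_iff] at this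
        exact this
      rcases pow_four_or_cube_of_ord hord (c : G) with h | h
      · exact h
      · rw [eq_one_of_commute_of_ord' hord hc h h4 hg, one_pow]
    exact hP.isNilpotent
  · have hp3 : Fact (Nat.Prime 3) := ⟨Nat.prime_three⟩
    have hP : IsPGroup 3 (Subgroup.centralizer ({g} : Set G)) := by
      intro c
      refine ⟨1, ?_⟩
      apply Subtype.ext
      rw [Subgroup.coe_pow, Subgroup.coe_one, pow_one]
      have hc : Commute g (c : G) := by
        have := c.2
        rw [Subgroup.mem_centralizer_singleton_iff] at this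
        exact this.symm
      exact cube_of_commute_of_ord hord hc (orderOf_eq_three_of_cube h3 hg)
    exact hP.isNilpotent

theorem prime_dvd_card_of_ord [Finite G]
    (hord : ∀ g : G, orderOf g = 1 ∨ orderOf g = 2 ∨ orderOf g = 3 ∨ orderOf g = 4)
    (r : ℕ) (hr : r.Prime) (hdvd : r ∣ Nat.card G) : r = 2 ∨ r = 3 := by
  have := Fact.mk hr
  obtain ⟨g, hg⟩ := exists_prime_orderOf_dvd_card' (G := G) r hdvd
  rcases hord g with h | h | h | h
  · rw [h] at hg; exact absurd hg.symm hr.ne_one
  · left; omega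
  · right; omega
  · exfalso
    rw [h] at hg
    rw [← hg] at hr
    norm_num at hr

theorem isSolvable_of_ord [Finite G]
    (hord : ∀ g : G, orderOf g = 1 ∨ orderOf g = 2 ∨ orderOf g = 3 ∨ orderOf g = 4) :
    Group.IsSolvable G :=
  Cfsg.Agent.S0144.aux 2 3 Nat.prime_two Nat.prime_three (Nat.card G) G rfl
    (prime_dvd_card_of_ord hord)

theorem not_isNilpotent_of_ord [Finite G]
    (hord : ∀ g : G, orderOf g = 1 ∨ orderOf g = 2 ∨ orderOf g = 3 ∨ orderOf g = 4)
    (g2 g3 : G) (h2 : orderOf g2 = 2) (h3 : orderOf g3 = 3) : ¬ Group.IsNilpotent G := by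
  intro hnil
  have hp2 : Fact (Nat.Prime 2) := ⟨Nat.prime_two⟩
  have hS : IsPGroup 2 (Subgroup.zpowers g2) := by
    apply IsPGroup.of_card (n := 1)
    rw [Nat.card_zpowers, h2, pow_one]
  have hmem := Cfsg.Agent.Helper90.mem_centralizer_of_coprime_of_isNilpotent 2
    (Subgroup.zpowers g2) hS g3 (by rw [h3]; norm_num)
  have hc : Commute g3 g2 := by
    rw [Subgroup.mem_centralizer_iff] at hmem
    exact (hmem g2 (Subgroup.mem_zpowers g2)).symm
  have h4 : g2 ^ 4 = 1 := by
    have := pow_orderOf_eq_one g2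
    rw [h2] at this
    calc g2 ^ 4 = (g2 ^ 2) ^ 2 := by rw [← pow_mul]
      _ = 1 := by rw [this, one_pow]
  have := eq_one_of_commute_of_ord hord hc h3 h4
  rw [this, orderOf_one] at h2
  omega

/-- The order hypothesis passes to quotients. -/
theorem ord_quotient
    (hord : ∀ g : G, orderOf g = 1 ∨ orderOf g = 2 ∨ orderOf g = 3 ∨ orderOf g = 4)
    (N : Subgroup G) [N.Normal] (q : G ⧸ N) :
    orderOf q = 1 ∨ orderOf q = 2 ∨ orderOf q = 3 ∨ orderOf q = 4 := by
  obtain ⟨g, rfl⟩ := QuotientGroup.mk_surjective q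
  have hd : orderOf (QuotientGroup.mk' N g) ∣ orderOf g := orderOf_map_dvd _ g
  have hpos : 0 < orderOf (QuotientGroup.mk' N g) := by
    apply Nat.pos_of_ne_zero
    intro h0
    rw [h0, zero_dvd_iff] at hd
    rcases hord g with h | h | h | h <;> omega
  change orderOf (QuotientGroup.mk' N g) = 1 ∨ orderOf (QuotientGroup.mk' N g) = 2 ∨
    orderOf (QuotientGroup.mk' N g) = 3 ∨ orderOf (QuotientGroup.mk' N g) = 4
  rcases hord g with h | h | h | h
  · rw [h] at hd
    left; exact Nat.dvd_one.mp hd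
  · rw [h] at hd
    have := (Nat.dvd_prime Nat.prime_two).mp hd
    omega
  · rw [h] at hd
    have := (Nat.dvd_prime Nat.prime_three).mp hd
    omega
  · rw [h] at hd
    have hle := Nat.le_of_dvd (by norm_num) hd
    have : orderOf (QuotientGroup.mk' N g) ≠ 3 := by
      intro h3
      rw [h3] at hd
      omega
    omega

end Basic

end Cfsg.Agent.Helper66
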