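import Cfsg.Agent.Lib.Helper66.OrdersFourBasic
import Cfsg.Agent.Lib.Helper90.SimpleCrit
import Cfsg.Prelude.Def_Solvable
import Cfsg.Prelude.Def_Transfer

set_option autoImplicit false

namespace Cfsg.Agent.Helper66

open scoped Pointwise

section Frob
variable {G : Type*} [Group G]

/-- Fixed-point-freeness of a Frobenius complement on a normal complement. -/
theorem frob_fpf (K E : Subgroup G) (hKE : K ⊓ E = ⊥) (hF : Cfsg.IsFrobeniusComplement E)
    (k : G) (hk : k ∈ K) (e : G) (he : e ∈ E) (he1 : e ≠ 1) (hc : k * e = e * k) : k = 1 := by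
  by_cases hkE : k ∈ E
  · have : k ∈ K ⊓ E := ⟨hk, hkE⟩
    rw [hKE] at this
    exact Subgroup.mem_bot.mp this
  · exfalso
    have h1 := hF.2.2 k hkE
    have h2 : MulAut.conj k • e ∈ MulAut.conj k • E := Subgroup.smul_mem_pointwise_smul e _ E he
    rw [MulAut.smul_def, MulAut.conj_apply] at h2
    have h3 : k * e * k⁻¹ = e := by rw [hc]; group
    rw [h3] at h2
    have : e ∈ E ⊓ MulAut.conj k • E := ⟨he, h2⟩
    rw [h1] at this
    exact he1 (Subgroup.mem_bot.mp this)

/-- Structure of the complement: cyclic, or quaternion of order 8 (with an involution). -/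
theorem frob_compl_structure
    (hord : ∀ g : G, orderOf g = 1 ∨ orderOf g = 2 ∨ orderOf g = 3 ∨ orderOf g = 4)
    (E : Subgroup G)
    (hE : IsCyclic E ∨ ∃ C Q : Subgroup G, C ⊔ Q = E ∧ (∀ a ∈ C, ∀ b ∈ Q, a * b = b * a) ∧
      IsCyclic C ∧ Odd (Nat.card C) ∧ ∃ n : ℕ, Nonempty (↥Q ≃* QuaternionGroup (2 ^ n))) :
    IsCyclic E ∨ (Nonempty (↥E ≃* QuaternionGroup 2) ∧ ∃ t ∈ E, orderOf t = 2) := by
  rcases hE with hcyc | ⟨C, Q, hCQ, hcomm, -, hCo, n, ⟨ψ⟩⟩
  · exact Or.inl hcyc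
  · -- an element of order 4 in Q
    have hw : orderOf ((ψ.symm (QuaternionGroup.xa 0) : ↥Q) : G) = 4 := by
      rw [Subgroup.orderOf_coe, MulEquiv.orderOf_eq, QuaternionGroup.orderOf_xa]
    obtain ⟨w, hwQ, hw4⟩ : ∃ w ∈ Q, orderOf w = 4 := ⟨_, (ψ.symm (QuaternionGroup.xa 0)).2, hw⟩
    have hw44 : w ^ 4 = 1 := by rw [← hw4, pow_orderOf_eq_one]
    have hz4 : (w ^ 2) ^ 4 = 1 := by
      calc (w ^ 2) ^ 4 = (w ^ 4) ^ 2 := by rw [← pow_mul, ← pow_mul]
        _ = 1 := by rw [hw44, one_pow]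
    have hz2 : (w ^ 2) ^ 2 = 1 := by
      calc (w ^ 2) ^ 2 = w ^ 4 := by rw [← pow_mul]
        _ = 1 := hw44
    have hz1 : w ^ 2 ≠ 1 := by
      intro h
      have := orderOf_dvd_of_pow_eq_one h
      rw [hw4] at this
      omega
    have hzQ : w ^ 2 ∈ Q := Q.pow_mem hwQ 2
    have hC : C = ⊥ := by
      rw [eq_bot_iff]
      intro c hc
      rw [Subgroup.mem_bot]
      have hcz : Commute c (w ^ 2) := hcomm c hc _ hzQ
      have hodd : Odd (orderOf c) := Odd.of_dvd_nat hCo (Subgroup.orderOf_dvd_natCard C hc)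
      have hc3 : c ^ 3 = 1 := by
        rcases hord c with h | h | h | h
        · rw [orderOf_eq_one_iff.mp h, one_pow]
        · rw [h] at hodd; exact absurd hodd (by decide)
        · rw [← h, pow_orderOf_eq_one]
        · rw [h] at hodd; exact absurd hodd (by decide)
      exact eq_one_of_commute_of_ord' hord hcz hc3 hz4 hz1
    have hQE : Q = E := by rw [← hCQ, hC, bot_sup_eq]
    subst hQE
    have ha : orderOf ((ψ.symm (QuaternionGroup.a 1) : ↥Q) : G) = 2 * 2 ^ n := by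
      rw [Subgroup.orderOf_coe, MulEquiv.orderOf_eq, QuaternionGroup.orderOf_a_one]
    have hn : n = 0 ∨ n = 1 := by
      have h2n : 2 ^ n ≤ 2 := by
        rcases hord ((ψ.symm (QuaternionGroup.a 1) : ↥Q) : G) with h | h | h | h <;> omega
      rcases n with _ | _ | n
      · left; rfl
      · right; rfl
      · exfalso
        have : 2 ^ (n + 1 + 1) = 4 * 2 ^ n := by ring
        have hpos : 0 < 2 ^ n := Nat.pos_of_ne_zero (by positivity)
        omega
    rcases hn with rfl | rfl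
    · left
      rw [pow_zero] at ψ
      have := QuaternionGroup.quaternionGroup_one_isCyclic
      exact isCyclic_of_surjective ψ.symm ψ.symm.surjective
    · right
      rw [pow_one] at ψ
      refine ⟨⟨ψ⟩, w ^ 2, hzQ, ?_⟩
      have hp2 : Fact (Nat.Prime 2) := ⟨Nat.prime_two⟩
      exact orderOf_eq_prime hz2 hz1


/-- Frobenius case, the complement contains an involution. -/
theorem frob_case_invol [Finite G]
    (hord : ∀ g : G, orderOf g = 1 ∨ orderOf g = 2 ∨ orderOf g = 3 ∨ orderOf g = 4)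
    (g4 : G) (h4 : orderOf g4 = 4)
    (K E : Subgroup G) [hK : K.Normal] (hc : Subgroup.IsComplement' K E)
    (hF : Cfsg.IsFrobeniusComplement E)
    (hE : IsCyclic E ∨ Nonempty (↥E ≃* QuaternionGroup 2))
    (t : G) (htE : t ∈ E) (ht : orderOf t = 2) :
    Cfsg.IsElementaryAbelian 3 K ∧
      ((IsCyclic (G ⧸ K) ∧ K.index = 4) ∨ Nonempty (G ⧸ K ≃* QuaternionGroup 2)) := by
  have hKE : K ⊓ E = ⊥ := hc.disjoint.eq_bot
  have ht1 : t ≠ 1 := by
    intro h
    rw [h, orderOf_one] at ht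
    omega
  have htt : t * t = 1 := by
    have := pow_orderOf_eq_one t
    rwa [ht, pow_two] at this
  have hfpf : ∀ n ∈ K, t * n = n * t → n = 1 := by
    intro n hn hcomm
    exact frob_fpf K E hKE hF n hn t htE ht1 hcomm.symm
  have hinv := Cfsg.Agent.Helper90.inverts_of_fixedPointFree K t htt hfpf
  -- K is abelian
  have hab : ∀ x ∈ K, ∀ y ∈ K, x * y = y * x := by
    intro x hx y hy
    have h1 := hinv (x * y) (K.mul_mem hx hy)
    have h2 : t * (x * y) * t⁻¹ = (t * x * t⁻¹) * (t * y * t⁻¹) := by group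
    rw [h2, hinv x hx, hinv y hy] at h1
    calc x * y = ((x * y)⁻¹)⁻¹ := by rw [inv_inv]
      _ = (x⁻¹ * y⁻¹)⁻¹ := by rw [h1]
      _ = y * x := by group
  -- K has exponent 3
  have hexp : ∀ x ∈ K, x ^ 3 = 1 := by
    intro x hx
    rcases pow_four_or_cube_of_ord hord x with h | h
    · have hx2 : x ^ 2 = 1 := by
        apply hfpf _ (K.pow_mem hx 2)
        have h1 := hinv (x ^ 2) (K.pow_mem hx 2)
        have h2 : (x ^ 2)⁻¹ = x ^ 2 := by
          calc (x ^ 2)⁻¹ = (x ^ 2)⁻¹ * x ^ 4 := by rw [h, mul_one]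
            _ = x ^ 2 := by group
        rw [h2] at h1
        calc t * x ^ 2 = t * x ^ 2 * t⁻¹ * t := by group
          _ = x ^ 2 * t := by rw [h1]
      have hx1 : x = 1 := by
        apply hfpf x hx
        have h1 := hinv x hx
        have h2 : x⁻¹ = x := by
          calc x⁻¹ = x⁻¹ * x ^ 2 := by rw [hx2, mul_one]
            _ = x := by group
        rw [h2] at h1
        calc t * x = t * x * t⁻¹ * t := by group
          _ = x * t := by rw [h1]
      rw [hx1, one_pow]
    · exact h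
  have hEA : Cfsg.IsElementaryAbelian 3 K :=
    ⟨⟨⟨fun a b => Subtype.ext (hab a a.2 b b.2)⟩⟩, hexp⟩
  refine ⟨hEA, ?_⟩
  -- the quotient
  let φ : G ⧸ K ≃* ↥E := hc.symm.QuotientMulEquiv
  have hg42 : g4 ^ 2 ∉ K := by
    intro hmem
    have := hexp _ hmem
    rw [← pow_mul] at this
    have := orderOf_dvd_of_pow_eq_one this
    rw [h4] at this
    omega
  have he4 : orderOf (φ (QuotientGroup.mk' K g4)) = 2 ^ (1 + 1) := by
    have hp2 : Fact (Nat.Prime 2) := ⟨Nat.prime_two⟩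
    apply orderOf_eq_prime_pow
    · intro h
      rw [pow_one, ← map_pow, ← map_pow] at h
      have := (MulEquiv.map_eq_one_iff φ).mp h
      rw [QuotientGroup.mk'_apply, QuotientGroup.eq_one_iff] at this
      exact hg42 this
    · rw [← map_pow, ← map_pow]
      have : g4 ^ 2 ^ (1 + 1) = 1 := by
        have := pow_orderOf_eq_one g4
        rwa [h4] at this
      rw [this, map_one, map_one]
  rcases hE with hcyc | ⟨⟨ψ⟩⟩
  · left
    obtain ⟨g, hg⟩ := hcyc.exists_generator
    have hcardE : Nat.card ↥E = orderOf (g : G) := by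
      rw [Subgroup.orderOf_coe, orderOf_eq_card_of_forall_mem_zpowers hg]
    have hdvd : 2 ^ (1 + 1) ∣ Nat.card ↥E := by
      rw [← he4]
      exact orderOf_dvd_natCard _
    have hcard4 : Nat.card ↥E = 4 := by
      rw [hcardE] at hdvd ⊢
      rcases hord (g : G) with h | h | h | h <;> rw [h] at hdvd ⊢ <;> omega
    refine ⟨isCyclic_of_surjective φ.symm φ.symm.surjective, ?_⟩
    rw [hc.symm.index_eq_card, hcard4]
  · right
    exact ⟨φ.trans ψ⟩


/-- Frobenius case, the complement contains no involution. -/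
theorem frob_case_no_invol [Finite G]
    (hord : ∀ g : G, orderOf g = 1 ∨ orderOf g = 2 ∨ orderOf g = 3 ∨ orderOf g = 4)
    (g4 : G) (h4 : orderOf g4 = 4)
    (K E : Subgroup G) [hK : K.Normal] (hc : Subgroup.IsComplement' K E)
    (hF : Cfsg.IsFrobeniusComplement E) (hcyc : IsCyclic E)
    (hno : ∀ t ∈ E, orderOf t ≠ 2) :
    IsPGroup 2 ↥K ∧ Monoid.exponent ↥K = 4 ∧ Group.nilpotencyClass ↥K ≤ 2 ∧ K.index = 3 := by
  have hKE : K ⊓ E = ⊥ := hc.disjoint.eq_bot
  have hp2 : Fact (Nat.Prime 2) := ⟨Nat.prime_two⟩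
  -- elements of E have order dividing 3
  have hE3 : ∀ e ∈ E, e ^ 3 = 1 := by
    intro e he
    rcases hord e with h | h | h | h
    · rw [orderOf_eq_one_iff.mp h, one_pow]
    · exact absurd h (hno e he)
    · rw [← h, pow_orderOf_eq_one]
    · exfalso
      have he4 : e ^ 4 = 1 := by rw [← h, pow_orderOf_eq_one]
      have h2 : (e ^ 2) ^ 2 = 1 := by rw [← pow_mul]; exact he4
      have h1 : e ^ 2 ≠ 1 := by
        intro h'
        have := orderOf_dvd_of_pow_eq_one h'
        rw [h] at this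
        omega
      exact hno _ (E.pow_mem he 2) (orderOf_eq_prime h2 h1)
  obtain ⟨g, hg⟩ := hcyc.exists_generator
  have hcardE : Nat.card ↥E = orderOf (g : G) := by
    rw [Subgroup.orderOf_coe, orderOf_eq_card_of_forall_mem_zpowers hg]
  have hg1 : (g : G) ≠ 1 := by
    intro h
    rw [h, orderOf_one] at hcardE
    exact hF.1 (Subgroup.card_eq_one.mp hcardE)
  have hg3 : orderOf (g : G) = 3 := orderOf_eq_three_of_cube (hE3 _ g.2) hg1
  have hidx : K.index = 3 := by rw [hc.symm.index_eq_card, hcardE, hg3]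
  obtain ⟨y, hyE, hy1, hy3⟩ : ∃ y ∈ E, y ≠ 1 ∧ orderOf y = 3 := ⟨g, g.2, hg1, hg3⟩
  have hyK : y ∉ K := by
    intro h
    have : y ∈ K ⊓ E := ⟨h, hyE⟩
    rw [hKE] at this
    exact hy1 (Subgroup.mem_bot.mp this)
  -- 2-elements lie in K
  have hcardQ : Nat.card (G ⧸ K) = 3 := by rw [← Subgroup.index_eq_card, hidx]
  have h2K : ∀ x : G, x ^ 4 = 1 → x ∈ K := by
    intro x hx
    have h1 : (QuotientGroup.mk' K x) ^ 4 = 1 := by rw [← map_pow, hx, map_one]
    have h2 : (QuotientGroup.mk' K x) ^ 3 = 1 := by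
      rw [← hcardQ]
      exact pow_card_eq_one'
    have := eq_one_of_pow_four_of_cube _ h1 h2
    rwa [QuotientGroup.mk'_apply, QuotientGroup.eq_one_iff] at this
  have hout : ∀ x : G, x ∉ K → x ^ 3 = 1 := by
    intro x hx
    rcases pow_four_or_cube_of_ord hord x with h | h
    · exact absurd (h2K x h) hx
    · exact h
  have H1 : ∀ x ∈ K, (x * y) ^ 3 = 1 := by
    intro x hx
    apply hout
    intro h
    apply hyK
    have := K.mul_mem (K.inv_mem hx) h
    rwa [inv_mul_cancel_left] at this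
  have H2 : ∀ x ∈ K, (x * y⁻¹) ^ 3 = 1 := by
    intro x hx
    apply hout
    intro h
    apply hyK
    have := K.mul_mem (K.inv_mem hx) h
    rw [inv_mul_cancel_left] at this
    have := K.inv_mem this
    rwa [inv_inv] at this
  have H3 : ∀ x ∈ K, x * y = y * x → x = 1 := by
    intro x hx hcomm
    exact frob_fpf K E hKE hF x hx y hyE hy1 hcomm
  have hK4 : ∀ x ∈ K, x ^ 4 = 1 := by
    intro x hx
    rcases pow_four_or_cube_of_ord hord x with h | h
    · exact h
    · rw [eq_one_of_cube_of_fpf K y H1 H2 H3 x hx h, one_pow]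
  have hK2 : IsPGroup 2 ↥K := by
    intro k
    refine ⟨2, ?_⟩
    apply Subtype.ext
    rw [Subgroup.coe_pow, Subgroup.coe_one]
    exact hK4 k k.2
  refine ⟨hK2, ?_, nilpotencyClass_le_two_of_cube K hK2 y H1 H2, hidx⟩
  apply Nat.dvd_antisymm
  · apply Monoid.exponent_dvd_of_forall_pow_eq_one
    intro k
    apply Subtype.ext
    rw [Subgroup.coe_pow, Subgroup.coe_one]
    exact hK4 k k.2
  · have hg4K : g4 ∈ K := h2K g4 (by rw [← h4, pow_orderOf_eq_one])
    have := Monoid.order_dvd_exponent (⟨g4, hg4K⟩ : ↥K)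
    rwa [Subgroup.orderOf_mk, h4] at this


/-- The Frobenius case of the structure theorem for groups with element orders `1, 2, 3, 4`. -/
theorem frob_case [Finite G]
    (hord : ∀ g : G, orderOf g = 1 ∨ orderOf g = 2 ∨ orderOf g = 3 ∨ orderOf g = 4)
    (g4 : G) (h4 : orderOf g4 = 4)
    (K E : Subgroup G) [hK : K.Normal] (hc : Subgroup.IsComplement' K E)
    (hF : Cfsg.IsFrobeniusComplement E)
    (hE : IsCyclic E ∨ ∃ C Q : Subgroup G, C ⊔ Q = E ∧ (∀ a ∈ C, ∀ b ∈ Q, a * b = b * a) ∧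
      IsCyclic C ∧ Odd (Nat.card C) ∧ ∃ n : ℕ, Nonempty (↥Q ≃* QuaternionGroup (2 ^ n))) :
    (IsPGroup 2 ↥K ∧ Monoid.exponent ↥K = 4 ∧ Group.nilpotencyClass ↥K ≤ 2 ∧ K.index = 3) ∨
    (Cfsg.IsElementaryAbelian 3 K ∧
      ((IsCyclic (G ⧸ K) ∧ K.index = 4) ∨ Nonempty (G ⧸ K ≃* QuaternionGroup 2))) := by
  rcases frob_compl_structure hord E hE with hcyc | ⟨hQ, t, htE, ht⟩
  · by_cases h : ∃ t ∈ E, orderOf t = 2
    · obtain ⟨t, htE, ht⟩ := h
      exact Or.inr (frob_case_invol hord g4 h4 K E hc hF (Or.inl hcyc) t htE ht)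
    · exact Or.inl (frob_case_no_invol hord g4 h4 K E hc hF hcyc
        (fun t ht h' => h ⟨t, ht, h'⟩))
  · exact Or.inr (frob_case_invol hord g4 h4 K E hc hF (Or.inr hQ) t htE ht)

end Frob

end Cfsg.Agent.Helper66
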