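import Cfsg.Agent.Lib.Helper66.OrdersFourBasic
import Cfsg.Agent.Lib.Helper22.Radical
import Cfsg.Prelude.Def_OddOrderLocal
import Cfsg.Prelude.Def_Transfer

set_option autoImplicit false

namespace Cfsg.Agent.Helper66

open scoped Pointwise

section ThreeStep
variable {G : Type*} [Group G]

theorem mem_zpowers_order_three {a b : G} (ha : orderOf a = 3) (hb : b ∈ Subgroup.zpowers a) :
    b = 1 ∨ b = a ∨ b = a⁻¹ := by
  obtain ⟨k, rfl⟩ := Subgroup.mem_zpowers_iff.mp hb
  have ha3 : a ^ 3 = 1 := by rw [← ha, pow_orderOf_eq_one]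
  have h1 := zpow_mod_orderOf a k
  rw [ha] at h1
  have h2 : 0 ≤ k % ((3 : ℕ) : ℤ) := Int.emod_nonneg _ (by norm_num)
  have h3 : k % ((3 : ℕ) : ℤ) < 3 := Int.emod_lt_of_pos _ (by norm_num)
  rw [← h1]
  obtain ⟨r, hr⟩ : ∃ r : ℤ, r = k % ((3 : ℕ) : ℤ) := ⟨_, rfl⟩
  rw [← hr] at h2 h3 ⊢
  have : r = 0 ∨ r = 1 ∨ r = 2 := by omega
  rcases this with rfl | rfl | rfl
  · left; exact zpow_zero a
  · right; left; exact zpow_one a
  · right; right
    rw [zpow_two]
    exact mul_self_of_cube a ha3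

theorem threeStep_core [Finite G]
    (hord : ∀ g : G, orderOf g = 1 ∨ orderOf g = 2 ∨ orderOf g = 3 ∨ orderOf g = 4)
    (N : Subgroup G) [hN : N.Normal] (hN2 : IsPGroup 2 N) (a : G) (ha3 : orderOf a = 3)
    (hMn : (N ⊔ Subgroup.zpowers a).Normal) (hMt : N ⊔ Subgroup.zpowers a ≠ ⊤)
    (hFr : ∀ x : G, x ∉ N ⊔ Subgroup.zpowers a → x * a * x⁻¹ * a⁻¹ ∉ N) :
    Cfsg.IsElementaryAbelian 2 N ∧ Nonempty (G ⧸ N ≃* Equiv.Perm (Fin 3)) := by
  have ha1 : a ≠ 1 := by
    intro h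
    rw [h, orderOf_one] at ha3
    omega
  have ha3' : a ^ 3 = 1 := by rw [← ha3, pow_orderOf_eq_one]
  have hN4 : ∀ x ∈ N, x ^ 4 = 1 := by
    intro x hx
    rcases pow_four_or_cube_of_ord hord x with h | h
    · exact h
    · obtain ⟨k, hk⟩ := hN2 ⟨x, hx⟩
      have hk' : x ^ 2 ^ k = 1 := by
        have := congrArg Subtype.val hk
        simpa using this
      have hd1 : orderOf x ∣ 3 := orderOf_dvd_of_pow_eq_one h
      have hd2 : orderOf x ∣ 2 ^ k := orderOf_dvd_of_pow_eq_one hk'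
      have hc : Nat.Coprime 3 (2 ^ k) := Nat.Coprime.pow_right k (by norm_num)
      rw [orderOf_eq_one_iff.mp (Nat.eq_one_of_dvd_coprimes hc hd1 hd2), one_pow]
  have haN : a ∉ N := fun h => ha1 (eq_one_of_pow_four_of_cube a (hN4 a h) ha3')
  have hainvN : a⁻¹ ∉ N := fun h => haN (by simpa using N.inv_mem h)
  obtain ⟨M, hM⟩ : ∃ M, M = N ⊔ Subgroup.zpowers a := ⟨_, rfl⟩
  rw [← hM] at hMn hMt hFr
  have hNM : N ≤ M := hM ▸ le_sup_left
  have haM : a ∈ M := by
    rw [hM]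
    exact (le_sup_right : Subgroup.zpowers a ≤ _) (Subgroup.mem_zpowers a)
  have hMmem : ∀ x ∈ M, ∃ n ∈ N, x = n ∨ x = n * a ∨ x = n * a⁻¹ := by
    intro x hx
    rw [hM, ← SetLike.mem_coe, Subgroup.normal_mul, Set.mem_mul] at hx
    obtain ⟨n, hn, b, hb, rfl⟩ := hx
    refine ⟨n, hn, ?_⟩
    rcases mem_zpowers_order_three ha3 hb with h | h | h
    · left; rw [h, mul_one]
    · right; left; rw [h]
    · right; right; rw [h]
  have hconj : ∀ x : G, x ∉ M → x * a * x⁻¹ * a ∈ N := by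
    intro x hx
    have h1 : x * a * x⁻¹ ∈ M := hMn.conj_mem a haM x
    obtain ⟨n, hn, h | h | h⟩ := hMmem _ h1
    · exfalso
      apply haN
      have := hN.conj_mem _ hn x⁻¹
      rw [← h] at this
      have e : x⁻¹ * (x * a * x⁻¹) * x⁻¹⁻¹ = a := by group
      rwa [e] at this
    · exfalso
      apply hFr x hx
      rw [h]
      simpa using hn
    · rw [h]
      simpa using hn
  obtain ⟨x₀, hx₀⟩ : ∃ x, x ∉ M := by
    by_contra hcon
    apply hMt
    rw [eq_top_iff]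
    intro x _
    by_contra hx
    exact hcon ⟨x, hx⟩
  have hidx2 : M.index = 2 := by
    rw [Subgroup.index_eq_two_iff]
    refine ⟨x₀, fun b => ?_⟩
    by_cases hb : b ∈ M
    · right
      refine ⟨hb, fun h => hx₀ ?_⟩
      have := M.mul_mem (M.inv_mem hb) h
      rwa [inv_mul_cancel_left] at this
    · left
      refine ⟨?_, hb⟩
      by_contra hbx
      apply hFr _ hbx
      have e : (b * x₀) * a * (b * x₀)⁻¹ * a⁻¹ =
          (b * (x₀ * a * x₀⁻¹ * a) * b⁻¹) * (a * (b * a * b⁻¹ * a)⁻¹ * a⁻¹) := by group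
      rw [e]
      exact N.mul_mem (hN.conj_mem _ (hconj x₀ hx₀) b)
        (hN.conj_mem _ (N.inv_mem (hconj b hb)) a)
  -- the index of N
  have hNA : N ⊓ Subgroup.zpowers a = ⊥ := by
    rw [eq_bot_iff]
    intro x hx
    rw [Subgroup.mem_bot]
    rcases mem_zpowers_order_three ha3 hx.2 with h | h | h
    · exact h
    · exact absurd (h ▸ hx.1) haN
    · exact absurd (h ▸ hx.1) hainvN
  have hrel : N.relIndex M = 3 := by
    rw [hM, Subgroup.relIndex_sup_left, ← Subgroup.inf_relIndex_right, hNA,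
      Subgroup.relIndex_bot_left, Nat.card_zpowers, ha3]
  have hidx6 : N.index = 6 := by
    rw [← Subgroup.relIndex_mul_index hNM, hrel, hidx2]
  have hS3 : Nonempty (G ⧸ N ≃* Equiv.Perm (Fin 3)) := by
    apply nonempty_mulEquiv_perm_fin_three
    · rw [← Subgroup.index_eq_card, hidx6]
    · intro q
      rcases ord_quotient hord N q with h | h | h | h <;> omega
  refine ⟨?_, hS3⟩
  -- cosets `N a`, `N a⁻¹` consist of elements of order 3
  have hmk1 : ∀ x ∈ N, QuotientGroup.mk' N x = 1 := by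
    intro x hx
    rw [QuotientGroup.mk'_apply, QuotientGroup.eq_one_iff]
    exact hx
  have hmka : QuotientGroup.mk' N a ≠ 1 := by
    intro h
    rw [QuotientGroup.mk'_apply, QuotientGroup.eq_one_iff] at h
    exact haN h
  have hmka3 : (QuotientGroup.mk' N a) ^ 3 = 1 := by rw [← map_pow, ha3', map_one]
  have hcube : ∀ g : G, QuotientGroup.mk' N g ≠ 1 → (QuotientGroup.mk' N g) ^ 3 = 1 →
      g ^ 3 = 1 := by
    intro g h1 h3
    rcases pow_four_or_cube_of_ord hord g with h | h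
    · exfalso
      apply h1
      apply eq_one_of_pow_four_of_cube _ _ h3
      rw [← map_pow, h, map_one]
    · exact h
  have H1 : ∀ x ∈ N, (x * a) ^ 3 = 1 := by
    intro x hx
    have e : QuotientGroup.mk' N (x * a) = QuotientGroup.mk' N a := by
      rw [map_mul, hmk1 x hx, one_mul]
    apply hcube
    · rw [e]; exact hmka
    · rw [e]; exact hmka3
  have H2 : ∀ x ∈ N, (x * a⁻¹) ^ 3 = 1 := by
    intro x hx
    have e : QuotientGroup.mk' N (x * a⁻¹) = (QuotientGroup.mk' N a)⁻¹ := by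
      rw [map_mul, hmk1 x hx, one_mul, map_inv]
    apply hcube
    · rw [e]; exact inv_ne_one.mpr hmka
    · rw [e, inv_pow, hmka3, inv_one]
  have H3' : ∀ x ∈ N, x * a⁻¹ = a⁻¹ * x → x = 1 := fpf_of_cube N hN2 a⁻¹ H2
  -- an involution inverting `a`
  obtain ⟨g, hgN, hg⟩ := exists_comm_eq_of_fpf N a⁻¹ H3' (x₀ * a * x₀⁻¹ * a)⁻¹
    (N.inv_mem (hconj x₀ hx₀))
  obtain ⟨u, hu⟩ : ∃ u, u = g⁻¹ * x₀ := ⟨_, rfl⟩
  have huM : u ∉ M := by
    intro h
    apply hx₀
    have := M.mul_mem (hNM hgN) h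
    rwa [hu, mul_inv_cancel_left] at this
  have huau : u * a * u⁻¹ = a⁻¹ := by
    rw [hu]
    calc (g⁻¹ * x₀) * a * (g⁻¹ * x₀)⁻¹ = g⁻¹ * ((x₀ * a * x₀⁻¹ * a)⁻¹)⁻¹ * a⁻¹ * g := by group
      _ = g⁻¹ * (a⁻¹ * g * a⁻¹⁻¹ * g⁻¹)⁻¹ * a⁻¹ * g := by rw [hg]
      _ = a⁻¹ := by group
  have hout4 : ∀ g : G, g ∉ M → g ^ 4 = 1 := by
    intro g hgM
    rcases pow_four_or_cube_of_ord hord g with h | h
    · exact h
    · exfalso
      apply hgM
      have h2 : g ^ 2 ∈ M := Subgroup.sq_mem_of_index_two hidx2 g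
      have e : g = (g ^ 2) ^ 2 * (g ^ 3)⁻¹ := by group
      rw [e, h, inv_one, mul_one]
      exact M.pow_mem h2 2
  have hu4 : u ^ 4 = 1 := hout4 u huM
  have huu : u * u = 1 := by
    have hc : Commute a (u * u) := by
      have : u * u * a = a * (u * u) := by
        calc u * u * a = u * (u * a * u⁻¹) * u := by group
          _ = u * a⁻¹ * u := by rw [huau]
          _ = (u * a * u⁻¹)⁻¹ * (u * u) := by group
          _ = a * (u * u) := by rw [huau, inv_inv]
      exact this.symm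
    have h24 : (u * u) ^ 4 = 1 := by
      calc (u * u) ^ 4 = (u ^ 4) ^ 2 := by rw [← pow_two, ← pow_mul, ← pow_mul]
        _ = 1 := by rw [hu4, one_pow]
    exact eq_one_of_commute_of_ord hord hc ha3 h24
  have huinv : u⁻¹ = u := inv_eq_of_mul_eq_one_right huu
  have hua : u * a * u = a⁻¹ := by
    have := huau
    rwa [huinv] at this
  have hx4' : ∀ x ∈ N, x * x * (x * x) = 1 := by
    intro x hx
    have := hN4 x hx
    calc x * x * (x * x) = x ^ 4 := by simp only [pow_succ, pow_zero, one_mul, mul_assoc]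
      _ = 1 := this
  have K0 : ∀ x ∈ N, (u * x) ^ 4 = 1 := by
    intro x hx
    apply hout4
    intro h
    apply huM
    have := M.mul_mem h (M.inv_mem (hNM hx))
    rwa [mul_inv_cancel_right] at this
  have K1 : ∀ x ∈ N, (u * a * x) ^ 4 = 1 := by
    intro x hx
    apply hout4
    intro h
    apply huM
    have := M.mul_mem (M.mul_mem h (M.inv_mem (hNM hx))) (M.inv_mem haM)
    rwa [mul_inv_cancel_right, mul_inv_cancel_right] at this
  have K2 : ∀ x ∈ N, (u * a⁻¹ * x) ^ 4 = 1 := by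
    intro x hx
    apply hout4
    intro h
    apply huM
    have := M.mul_mem (M.mul_mem h (M.inv_mem (hNM hx))) haM
    rwa [mul_inv_cancel_right, inv_mul_cancel_right] at this
  have hsq := sq_eq_one_of_symThree N hN2 a u huu hua hx4' H1 H2 K0 K1 K2
  have hab : ∀ x ∈ N, ∀ y ∈ N, x * y = y * x := by
    intro x hx y hy
    have h1 := hsq (x * y) (N.mul_mem hx hy)
    have h2 := hsq x hx
    have h3 := hsq y hy
    have e1 : x * y = (x * y)⁻¹ := eq_inv_of_mul_eq_one_left h1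
    have e2 : x⁻¹ = x := inv_eq_of_mul_eq_one_right h2
    have e3 : y⁻¹ = y := inv_eq_of_mul_eq_one_right h3
    rw [e1, mul_inv_rev, e2, e3]
  exact ⟨⟨⟨fun x y => Subtype.ext (hab x x.2 y y.2)⟩⟩, fun x hx => by rw [pow_two]; exact hsq x hx⟩

end ThreeStep

/-- The three-step case of the structure theorem for groups with element orders `1, 2, 3, 4`. -/
theorem threeStep_case {G : Type*} [Group G] [Finite G]
    (hord : ∀ g : G, orderOf g = 1 ∨ orderOf g = 2 ∨ orderOf g = 3 ∨ orderOf g = 4)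
    (p : ℕ) (hp : p.Prime) (h3 : Cfsg.IsThreeStepGroup p G) :
    ∃ (N : Subgroup G) (_ : N.Normal),
      Cfsg.IsElementaryAbelian 2 N ∧ Nonempty (G ⧸ N ≃* Equiv.Perm (Fin 3)) := by
  obtain ⟨hNne, A, hAne, hAc, hAo, hAp, hMn, hMt, -, -, hFr⟩ := h3
  have hpf : Fact p.Prime := ⟨hp⟩
  -- a generator of A
  obtain ⟨g, hg⟩ := hAc.exists_generator
  obtain ⟨a, haA, hag⟩ : ∃ a : G, a ∈ A ∧ a = (g : G) := ⟨g, g.2, rfl⟩
  have hAz : A = Subgroup.zpowers a := by
    apply le_antisymm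
    · intro x hx
      obtain ⟨k, hk⟩ := Subgroup.mem_zpowers_iff.mp (hg ⟨x, hx⟩)
      rw [Subgroup.mem_zpowers_iff]
      refine ⟨k, ?_⟩
      have := congrArg Subtype.val hk
      rw [Subgroup.coe_zpow] at this
      rw [hag]
      exact this
    · rw [Subgroup.zpowers_le]
      exact haA
  have ha1 : a ≠ 1 := by
    intro h
    apply hAne
    rw [hAz, h, Subgroup.zpowers_one_eq_bot]
  have hodd : Odd (orderOf a) := Odd.of_dvd_nat hAo (Subgroup.orderOf_dvd_natCard A haA)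
  have ha3 : orderOf a = 3 := by
    rcases hord a with h | h | h | h
    · exact absurd (orderOf_eq_one_iff.mp h) ha1
    · rw [h] at hodd; exact absurd hodd (by decide)
    · exact h
    · rw [h] at hodd; exact absurd hodd (by decide)
  have hcardA : Nat.card A = 3 := by rw [hAz, Nat.card_zpowers, ha3]
  rw [hcardA] at hAp
  -- p = 2
  have hp2 : p = 2 := by
    have hP : IsPGroup p (Cfsg.pCore p G) := Cfsg.Agent.Helper22.isPGroup_pCore p
    obtain ⟨x, hx, hx1⟩ : ∃ x ∈ Cfsg.pCore p G, x ≠ 1 := by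
      by_contra hcon
      apply hNne
      rw [eq_bot_iff]
      intro x hx
      rw [Subgroup.mem_bot]
      by_contra hx1
      exact hcon ⟨x, hx, hx1⟩
    obtain ⟨k, hk⟩ := hP ⟨x, hx⟩
    have hk' : x ^ p ^ k = 1 := by
      have := congrArg Subtype.val hk
      simpa using this
    obtain ⟨j, -, hj⟩ := (Nat.dvd_prime_pow hp).mp (orderOf_dvd_of_pow_eq_one hk')
    have hj0 : j ≠ 0 := by
      intro h0
      rw [h0, pow_zero] at hj
      exact hx1 (orderOf_eq_one_iff.mp hj)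
    have hdvd : p ∣ orderOf x := by
      rw [hj]
      exact dvd_pow_self p hj0
    rcases hord x with h | h | h | h
    · exact absurd (orderOf_eq_one_iff.mp h) hx1
    · rw [h] at hdvd
      exact (Nat.prime_dvd_prime_iff_eq hp Nat.prime_two).mp hdvd
    · exfalso
      rw [h] at hdvd
      have := (Nat.prime_dvd_prime_iff_eq hp Nat.prime_three).mp hdvd
      rw [this] at hAp
      norm_num at hAp
    · rw [h] at hdvd
      have : p ∣ 2 ^ 2 := hdvd
      exact (Nat.prime_dvd_prime_iff_eq hp Nat.prime_two).mp (hp.dvd_of_dvd_pow this)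
  subst hp2
  have hNn : (Cfsg.pCore 2 G).Normal := Subgroup.sSup_normal _ (fun _ h => h.1)
  have hN2 : IsPGroup 2 (Cfsg.pCore 2 G) := Cfsg.Agent.Helper22.isPGroup_pCore 2
  rw [hAz] at hMn hMt hFr
  refine ⟨Cfsg.pCore 2 G, hNn, ?_⟩
  exact threeStep_core hord (Cfsg.pCore 2 G) hN2 a ha3 hMn hMt
    (fun x hx => hFr x hx a (Subgroup.mem_zpowers a) ha1)

end Cfsg.Agent.Helper66
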