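import Mathlib.GroupTheory.Sylow
import Cfsg.Agent.Lib.Helper76.PSolvable
import Cfsg.Agent.Lib.Helper66.SylowSub

set_option autoImplicit false

namespace Cfsg.Agent.Helper66

/-- An element conjugating a finite subgroup into itself normalizes it. -/
theorem mem_normalizer_of_forall_conj_mem {G : Type*} [Group G] [Finite G] (R : Subgroup G) (g : G)
    (h : ∀ r ∈ R, g * r * g⁻¹ ∈ R) : g ∈ Subgroup.normalizer (R : Set G) := by
  rw [Subgroup.mem_normalizer_iff_map_conj_eq]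
  apply Subgroup.eq_of_le_of_card_ge
  · rintro _ ⟨r, hr, rfl⟩
    exact h r hr
  · rw [Subgroup.card_map_of_injective (MulAut.conj g).injective]

/-- In a `p`-solvable group `𝓗` whose Sylow `p`-subgroup `P'` has exponent `p`, if every subgroup
of order `p` is conjugate to a fixed subgroup `Z ≤ P'` of order `p` that is normalized by
`N(P')`, then `Z` is the only subgroup of order `p` in `P'`. -/
theorem unique_order_p_of_psolvable {𝓗 : Type*} [Group 𝓗] [Finite 𝓗] (p : ℕ) [Fact p.Prime]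
    (hsolv : Cfsg.IsPSolvable p 𝓗) (P' Z : Subgroup 𝓗)
    (hP'card : Nat.card P' = p ^ (Nat.card 𝓗).factorization p)
    (hexp : ∀ x ∈ P', x ^ p = 1)
    (hZP : Z ≤ P') (hZcard : Nat.card Z = p)
    (hZnorm : ∀ n ∈ Subgroup.normalizer (P' : Set 𝓗), ∀ z ∈ Z, n * z * n⁻¹ ∈ Z)
    (hconj : ∀ Y : Subgroup 𝓗, Nat.card Y = p → ∃ h : 𝓗, ∀ z ∈ Z, h * z * h⁻¹ ∈ Y)
    (X : Subgroup 𝓗) (hXP : X ≤ P') (hXcard : Nat.card X = p) : X = Z := by
  have hpp : p.Prime := Fact.out
  -- conjugates of `Z`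
  have hconj' : ∀ Y : Subgroup 𝓗, Nat.card Y = p →
      ∃ h : 𝓗, Y = Z.map (MulAut.conj h).toMonoidHom := by
    intro Y hY
    obtain ⟨h, hh⟩ := hconj Y hY
    refine ⟨h, (Subgroup.eq_of_le_of_card_ge ?_ ?_).symm⟩
    · rintro _ ⟨z, hz, rfl⟩
      exact hh z hz
    · rw [Subgroup.card_map_of_injective (MulAut.conj h).injective, hY, hZcard]
  -- a maximal normal `p'`-subgroup
  obtain ⟨R₀, -, hR₀max⟩ := Finite.exists_le_maximal
    (p := fun N : Subgroup 𝓗 => N.Normal ∧ (Nat.card N).Coprime p) (a := ⊥)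
    ⟨inferInstance, by simp⟩
  have hR₀n : R₀.Normal := hR₀max.1.1
  have hR₀cop : (Nat.card R₀).Coprime p := hR₀max.1.2
  have hp𝓗 : p ∣ Nat.card 𝓗 := by
    rw [← hZcard]; exact Subgroup.card_subgroup_dvd_card Z
  have hR₀top : R₀ < ⊤ := by
    rw [lt_top_iff_ne_top]
    intro h
    rw [h, Subgroup.card_top] at hR₀cop
    have := Nat.Coprime.eq_one_of_dvd hR₀cop.symm hp𝓗
    exact hpp.one_lt.ne' this
  obtain ⟨L, hLn, hRL, -, hfac⟩ := Cfsg.Agent.Helper76.IsPSolvable.exists_step hsolv R₀ ⊤ hR₀top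
  have hLcard := Cfsg.Agent.Helper76.card_eq_card_mul_relIndex R₀ L hRL.le
  obtain ⟨m, hm⟩ : ∃ m : ℕ, R₀.relIndex L = p ^ m := by
    rcases hfac with h | h
    · exact h
    · exfalso
      have h1 : (Nat.card L).Coprime p := by
        rw [hLcard]; exact Nat.Coprime.mul_left hR₀cop h
      exact hRL.not_ge (hR₀max.2 ⟨hLn, h1⟩ hRL.le)
  have hm0 : m ≠ 0 := by
    rintro rfl
    rw [pow_zero, Subgroup.relIndex_eq_one] at hm
    exact hRL.not_ge hm
  rw [hm] at hLcard
  have hpL : p ∣ Nat.card L := by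
    rw [hLcard]
    exact Dvd.dvd.mul_left (dvd_pow_self p hm0) _
  -- `Z ≤ L`
  obtain ⟨y, hy⟩ := exists_prime_orderOf_dvd_card' (G := L) p hpL
  have hycard : Nat.card (Subgroup.zpowers (y : 𝓗)) = p := by
    rw [Nat.card_zpowers, Subgroup.orderOf_coe, hy]
  have hyL : Subgroup.zpowers (y : 𝓗) ≤ L := by
    rw [Subgroup.zpowers_le]; exact y.2
  have hsubL : ∀ Y : Subgroup 𝓗, Nat.card Y = p → Y ≤ L := by
    intro Y hY
    obtain ⟨h₀, hh₀⟩ := hconj' _ hycard
    obtain ⟨h₁, hh₁⟩ := hconj' Y hY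
    have hZL : Z ≤ L := by
      intro z hz
      have h1 : h₀ * z * h₀⁻¹ ∈ L := hyL (by rw [hh₀]; exact ⟨z, hz, rfl⟩)
      have h2 := hLn.conj_mem _ h1 h₀⁻¹
      simpa [mul_assoc] using h2
    rw [hh₁]
    rintro _ ⟨z, hz, rfl⟩
    exact hLn.conj_mem _ (hZL hz) h₁
  have hP'L : P' ≤ L := by
    intro x hx
    by_cases hx1 : x = 1
    · rw [hx1]; exact L.one_mem
    · have ho : orderOf x = p := orderOf_eq_prime (hexp x hx) hx1
      have h1 : Nat.card (Subgroup.zpowers x) = p := by rw [Nat.card_zpowers, ho]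
      exact hsubL _ h1 (Subgroup.mem_zpowers x)
  -- orders
  have ham : (Nat.card 𝓗).factorization p = m := by
    apply le_antisymm
    · have h1 : p ^ (Nat.card 𝓗).factorization p ∣ Nat.card R₀ * p ^ m := by
        rw [← hP'card, ← hLcard]; exact Subgroup.card_dvd_of_le hP'L
      have h2 : p ^ (Nat.card 𝓗).factorization p ∣ p ^ m :=
        Nat.Coprime.dvd_of_dvd_mul_left (Nat.Coprime.pow_left _ hR₀cop.symm) h1
      exact (Nat.pow_dvd_pow_iff_le_right hpp.one_lt).mp h2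
    · have h1 : p ^ m ∣ Nat.card 𝓗 :=
        (Dvd.intro_left _ hLcard.symm).trans (Subgroup.card_subgroup_dvd_card L)
      exact (hpp.pow_dvd_iff_le_factorization Nat.card_pos.ne').mp h1
  rw [ham] at hP'card
  have hLfac : (Nat.card L).factorization p = m := by
    rw [hLcard, Nat.factorization_mul Nat.card_pos.ne' (pow_ne_zero m hpp.ne_zero),
      Nat.factorization_pow]
    have h0 : (Nat.card R₀).factorization p = 0 :=
      Nat.factorization_eq_zero_of_not_dvd (fun h => by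
        have := Nat.Coprime.eq_one_of_dvd hR₀cop.symm h
        exact hpp.one_lt.ne' this)
    simp [h0, hpp.factorization_self]
  -- `L = R₀ P'`
  have hsup : R₀ ⊔ P' = L := by
    apply Subgroup.eq_of_le_of_card_ge (sup_le hRL.le hP'L)
    have h1 : Nat.card R₀ ∣ Nat.card (R₀ ⊔ P' : Subgroup 𝓗) := Subgroup.card_dvd_of_le le_sup_left
    have h2 : Nat.card P' ∣ Nat.card (R₀ ⊔ P' : Subgroup 𝓗) := Subgroup.card_dvd_of_le le_sup_right
    rw [hP'card] at h2
    have h3 : Nat.card R₀ * p ^ m ∣ Nat.card (R₀ ⊔ P' : Subgroup 𝓗) :=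
      Nat.Coprime.mul_dvd_of_dvd_of_dvd (Nat.Coprime.pow_right _ hR₀cop) h1 h2
    rw [hLcard]
    exact Nat.le_of_dvd Nat.card_pos h3
  have hdisj : P' ⊓ R₀ = ⊥ := by
    apply disjoint_iff.mp
    apply Subgroup.disjoint_of_coprime_natCard
    rw [hP'card]
    exact Nat.Coprime.pow_left _ hR₀cop.symm
  -- Frattini
  obtain ⟨h, hh⟩ := hconj X hXcard
  have hBL : P'.map (MulAut.conj h).toMonoidHom ≤ L := by
    rintro _ ⟨x, hx, rfl⟩
    exact hLn.conj_mem _ (hP'L hx) h
  obtain ⟨l, hlL, hl⟩ := exists_conj_of_card_eq p L P' (P'.map (MulAut.conj h).toMonoidHom)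
    hP'L hBL (by rw [hLfac, hP'card])
    (by rw [Subgroup.card_map_of_injective (MulAut.conj h).injective, hLfac, hP'card])
  rw [← hsup] at hlL
  obtain ⟨r, hr, y', hy', hry⟩ := Subgroup.mem_sup_of_normal_left.mp hlL
  -- `n' = y' * l⁻¹ * h` normalizes `P'`
  have hn' : y' * l⁻¹ * h ∈ Subgroup.normalizer (P' : Set 𝓗) := by
    apply mem_normalizer_of_forall_conj_mem
    intro x hx
    have h1 : l⁻¹ * (h * x * h⁻¹) * l ∈ P' := (hl _).mp ⟨x, hx, rfl⟩
    have h2 : y' * l⁻¹ * h * x * (y' * l⁻¹ * h)⁻¹ = y' * (l⁻¹ * (h * x * h⁻¹) * l) * y'⁻¹ := by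
      group
    rw [h2]
    exact P'.mul_mem (P'.mul_mem hy' h1) (P'.inv_mem hy')
  have hh_eq : h = r * (y' * l⁻¹ * h) := by
    rw [← hry]; group
  -- conjugation by `h` preserves `Z`
  have hZh : ∀ z ∈ Z, h * z * h⁻¹ ∈ Z := by
    intro z hz
    have hz₁ : (y' * l⁻¹ * h) * z * (y' * l⁻¹ * h)⁻¹ ∈ Z := hZnorm _ hn' z hz
    obtain ⟨z₁, hz₁def⟩ : ∃ z₁ : 𝓗, z₁ = (y' * l⁻¹ * h) * z * (y' * l⁻¹ * h)⁻¹ := ⟨_, rfl⟩
    rw [← hz₁def] at hz₁
    have h1 : h * z * h⁻¹ = r * z₁ * r⁻¹ := by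
      rw [hz₁def]
      conv_lhs => rw [hh_eq]
      group
    have h2 : r * z₁ * r⁻¹ ∈ P' := by rw [← h1]; exact hXP (hh z hz)
    have h3 : r * z₁ * r⁻¹ * z₁⁻¹ ∈ P' ⊓ R₀ := by
      refine Subgroup.mem_inf.mpr ⟨P'.mul_mem h2 (P'.inv_mem (hZP hz₁)), ?_⟩
      have h4 : r * z₁ * r⁻¹ * z₁⁻¹ = r * (z₁ * r⁻¹ * z₁⁻¹) := by group
      rw [h4]
      exact R₀.mul_mem hr (hR₀n.conj_mem _ (R₀.inv_mem hr) z₁)
    rw [hdisj, Subgroup.mem_bot] at h3
    have h5 : r * z₁ * r⁻¹ = z₁ := by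
      have := mul_inv_eq_one.mp h3
      exact this
    rw [h1, h5]
    exact hz₁
  have e1 : Z.map (MulAut.conj h).toMonoidHom = Z := by
    apply Subgroup.eq_of_le_of_card_ge
    · rintro _ ⟨z, hz, rfl⟩
      exact hZh z hz
    · rw [Subgroup.card_map_of_injective (MulAut.conj h).injective]
  have e2 : Z.map (MulAut.conj h).toMonoidHom = X := by
    apply Subgroup.eq_of_le_of_card_ge
    · rintro _ ⟨z, hz, rfl⟩
      exact hh z hz
    · rw [Subgroup.card_map_of_injective (MulAut.conj h).injective, hXcard, hZcard]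
  rw [← e2, e1]

/-- The centre of a noncommutative group of order `p³` has order `p`. -/
theorem card_center_of_card_cube {Q : Type*} [Group Q] [Finite Q] (p : ℕ) [Fact p.Prime]
    (hcard : Nat.card Q = p ^ 3) (hnc : ¬ ∀ a b : Q, a * b = b * a) :
    Nat.card (Subgroup.center Q) = p := by
  have hpp : p.Prime := Fact.out
  have hQ : IsPGroup p Q := IsPGroup.of_card hcard
  have hnt : Nontrivial Q := by
    by_contra hnt
    rw [not_nontrivial_iff_subsingleton] at hnt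
    exact hnc (fun a b => by rw [Subsingleton.elim a 1, Subsingleton.elim b 1])
  have hcn : Nontrivial (Subgroup.center Q) := hQ.center_nontrivial
  have hdvd : Nat.card (Subgroup.center Q) ∣ p ^ 3 := by
    rw [← hcard]; exact Subgroup.card_subgroup_dvd_card _
  obtain ⟨j, hj, hj2⟩ := (Nat.dvd_prime_pow hpp).mp hdvd
  have hj0 : j ≠ 0 := by
    rintro rfl
    have := Finite.one_lt_card_iff_nontrivial.mpr hcn
    rw [hj2, pow_zero] at this
    omega
  have hj3 : j ≠ 3 := by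
    rintro rfl
    have h1 : Subgroup.center Q = ⊤ := by
      apply Subgroup.eq_top_of_card_eq
      rw [hj2, hcard]
    apply hnc
    intro a b
    have : b ∈ Subgroup.center Q := by rw [h1]; trivial
    exact Subgroup.mem_center_iff.mp this a
  have hj2' : j ≠ 2 := by
    rintro rfl
    have h1 := (Subgroup.center Q).card_mul_index
    rw [hj2, hcard] at h1
    have h2 : (Subgroup.center Q).index = p := by
      have h3 : p ^ 3 = p ^ 2 * p := by ring
      rw [h3] at h1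
      exact Nat.eq_of_mul_eq_mul_left (pow_pos hpp.pos 2) h1
    have h4 : Nat.card (Q ⧸ Subgroup.center Q) = p := h2
    have hcyc : IsCyclic (Q ⧸ Subgroup.center Q) := isCyclic_of_prime_card h4
    apply hnc
    intro a b
    have hc := MonoidHom.isMulCommutative_of_isCyclic_of_ker_le_center
      (QuotientGroup.mk' (Subgroup.center Q)) (by rw [QuotientGroup.ker_mk'])
    exact hc.is_comm.comm a b
  have : j = 1 := by omega
  rw [hj2, this, pow_one]

end Cfsg.Agent.Helper66
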