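import Mathlib
import Cfsg.Prelude.Def_FusionSystem
import Cfsg.Prelude.Def_KGroupFacts
import Cfsg.Agent.Lib.Helper87.Psu3Defs
import Cfsg.Agent.Lib.Helper13.Herm

/-!
# PSU3F server (helper87, S5319): shared auxiliary facts (helper66)

Criterion for membership in `U2 q` (= `GU₂(q)`) in terms of the entries, and its converse.
-/

set_option autoImplicit false

namespace Cfsg.Agent.Helper66.Psu3

open Matrix Cfsg Cfsg.Agent.Helper87.Psl3 Cfsg.Agent.Helper87.Psu3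

variable {K : Type*} [Field K] {q : ℕ}

local notation "SL3" => Matrix.SpecialLinearGroup (Fin 3) K
local notation "GL2" => GL (Fin 2) K

/-- Frobenius is subtractive. -/
theorem aux_frob_sub [Fintype K] (hK : Fintype.card K = q ^ 2) (a b : K) :
    (a - b) ^ q = a ^ q - b ^ q := by
  have h := Cfsg.Agent.Helper13.frob_add hK (a - b) b
  rw [sub_add_cancel] at h
  rw [h]; ring

/-- `2 ≠ 0` in a field of order `q²`, `q` odd. -/
theorem aux_two_ne_zero [Fintype K] (hK : Fintype.card K = q ^ 2) (hodd : q % 2 = 1) :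
    (2 : K) ≠ 0 := by
  obtain ⟨p, m, hp, hc, hq⟩ := Cfsg.Agent.Helper13.exists_char_pow hK
  intro h2
  have h2' : ((2 : ℕ) : K) = 0 := by exact_mod_cast h2
  have hdvd : p ∣ 2 := (CharP.cast_eq_zero_iff K p 2).mp h2'
  have hp2 : p = 2 := (Nat.prime_dvd_prime_iff_eq hp Nat.prime_two).mp hdvd
  subst hp2
  rcases Nat.eq_zero_or_pos m with hm | hm
  · subst hm
    rw [pow_zero] at hq
    subst hq
    have : 1 < Fintype.card K := Fintype.one_lt_card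
    rw [hK] at this
    simp at this
  · have : 2 ∣ q := by rw [hq]; exact dvd_pow_self 2 (by omega)
    omega

/-- `2^q = 2`. -/
theorem aux_frob_two [Fintype K] (hK : Fintype.card K = q ^ 2) : (2 : K) ^ q = 2 := by
  have h := Cfsg.Agent.Helper13.frob_add hK (1 : K) 1
  rw [one_pow, one_add_one_eq_two] at h
  exact h

/-- entries of `iotaMat X *ᵥ u` -/
theorem aux_iotaMat_mulVec (X : GL2) (u : Fin 3 → K) :
    (iotaMat X *ᵥ u) 0 = (X : Matrix (Fin 2) (Fin 2) K) 0 0 * u 0 + (X : Matrix (Fin 2) (Fin 2) K) 0 1 * u 1 ∧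
    (iotaMat X *ᵥ u) 1 = (X : Matrix (Fin 2) (Fin 2) K) 1 0 * u 0 + (X : Matrix (Fin 2) (Fin 2) K) 1 1 * u 1 ∧
    (iotaMat X *ᵥ u) 2 = (((Matrix.GeneralLinearGroup.det X : Kˣ)⁻¹ : Kˣ) : K) * u 2 := by
  refine ⟨?_, ?_, ?_⟩ <;>
    simp [iotaMat, Matrix.mulVec, dotProduct, Fin.sum_univ_three]

/-- criterion: orthonormal columns give membership in `U2 q` -/
theorem aux_mem_U2_of_cols [Fintype K] (hK : Fintype.card K = q ^ 2) (X : GL2)
    (x00 x01 x10 x11 : K) (hX : (X : Matrix (Fin 2) (Fin 2) K) = !![x00, x01; x10, x11])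
    (h1 : x00 * x00 ^ q + x10 * x10 ^ q = 1)
    (h2 : x00 * x01 ^ q + x10 * x11 ^ q = 0)
    (h3 : x01 * x00 ^ q + x11 * x10 ^ q = 0)
    (h4 : x01 * x01 ^ q + x11 * x11 ^ q = 1) : X ∈ U2 q := by
  rw [mem_U2_iff, mem_SU_iff]
  intro u v
  have e00 : (X : Matrix (Fin 2) (Fin 2) K) 0 0 = x00 := by rw [hX]; rfl
  have e01 : (X : Matrix (Fin 2) (Fin 2) K) 0 1 = x01 := by rw [hX]; rfl
  have e10 : (X : Matrix (Fin 2) (Fin 2) K) 1 0 = x10 := by rw [hX]; rfl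
  have e11 : (X : Matrix (Fin 2) (Fin 2) K) 1 1 = x11 := by rw [hX]; rfl
  set d : K := (((Matrix.GeneralLinearGroup.det X : Kˣ)⁻¹ : Kˣ) : K) with hd
  -- the determinant has norm one
  have hdet : ((Matrix.GeneralLinearGroup.det X : Kˣ) : K) = x00 * x11 - x01 * x10 := by
    have : ((Matrix.GeneralLinearGroup.det X : Kˣ) : K) = (X : Matrix (Fin 2) (Fin 2) K).det := rfl
    rw [this, Matrix.det_fin_two, e00, e01, e10, e11]
  have hdδ : d * (x00 * x11 - x01 * x10) = 1 := by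
    rw [← hdet, hd, ← Units.val_mul, inv_mul_cancel, Units.val_one]
  have hδq : (x00 * x11 - x01 * x10) ^ q = x00 ^ q * x11 ^ q - x01 ^ q * x10 ^ q := by
    rw [aux_frob_sub hK, mul_pow, mul_pow]
  have hN : (x00 * x11 - x01 * x10) * (x00 * x11 - x01 * x10) ^ q = 1 := by
    rw [hδq]
    linear_combination (x01 * x01 ^ q + x11 * x11 ^ q) * h1 + h4
      - (x01 * x00 ^ q + x11 * x10 ^ q) * h2
  have hdq : d ^ q * (x00 * x11 - x01 * x10) ^ q = 1 := by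
    rw [← mul_pow, hdδ, one_pow]
  have hdd : d * d ^ q = 1 := by
    calc d * d ^ q = d * d ^ q * ((x00 * x11 - x01 * x10) * (x00 * x11 - x01 * x10) ^ q) := by
          rw [hN, mul_one]
      _ = (d * (x00 * x11 - x01 * x10)) * (d ^ q * (x00 * x11 - x01 * x10) ^ q) := by ring
      _ = 1 := by rw [hdδ, hdq, mul_one]
  obtain ⟨hu0, hu1, hu2⟩ := aux_iotaMat_mulVec X u
  obtain ⟨hv0, hv1, hv2⟩ := aux_iotaMat_mulVec X v
  rw [e00, e01] at hu0 hv0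
  rw [e10, e11] at hu1 hv1
  rw [← hd] at hu2 hv2
  have hv0q : ((iotaMat X *ᵥ v) 0) ^ q = x00 ^ q * v 0 ^ q + x01 ^ q * v 1 ^ q := by
    rw [hv0, Cfsg.Agent.Helper13.frob_add hK, mul_pow, mul_pow]
  have hv1q : ((iotaMat X *ᵥ v) 1) ^ q = x10 ^ q * v 0 ^ q + x11 ^ q * v 1 ^ q := by
    rw [hv1, Cfsg.Agent.Helper13.frob_add hK, mul_pow, mul_pow]
  have hv2q : ((iotaMat X *ᵥ v) 2) ^ q = d ^ q * v 2 ^ q := by
    rw [hv2, mul_pow]
  rw [iota_val]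
  unfold Cfsg.hermForm
  rw [Fin.sum_univ_three, Fin.sum_univ_three, hu0, hu1, hu2, hv0q, hv1q, hv2q]
  linear_combination (u 0 * v 0 ^ q) * h1 + (u 0 * v 1 ^ q) * h2 + (u 1 * v 0 ^ q) * h3
    + (u 1 * v 1 ^ q) * h4 + (u 2 * v 2 ^ q) * hdd

/-- converse: members of `U2 q` have orthonormal columns -/
theorem aux_cols_of_mem_U2 (hq : q ≠ 0) (X : GL2) (hXU : X ∈ U2 q) :
    (X : Matrix (Fin 2) (Fin 2) K) 0 0 * (X : Matrix (Fin 2) (Fin 2) K) 0 0 ^ q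
      + (X : Matrix (Fin 2) (Fin 2) K) 1 0 * (X : Matrix (Fin 2) (Fin 2) K) 1 0 ^ q = 1 ∧
    (X : Matrix (Fin 2) (Fin 2) K) 0 0 * (X : Matrix (Fin 2) (Fin 2) K) 0 1 ^ q
      + (X : Matrix (Fin 2) (Fin 2) K) 1 0 * (X : Matrix (Fin 2) (Fin 2) K) 1 1 ^ q = 0 ∧
    (X : Matrix (Fin 2) (Fin 2) K) 0 1 * (X : Matrix (Fin 2) (Fin 2) K) 0 0 ^ q
      + (X : Matrix (Fin 2) (Fin 2) K) 1 1 * (X : Matrix (Fin 2) (Fin 2) K) 1 0 ^ q = 0 ∧
    (X : Matrix (Fin 2) (Fin 2) K) 0 1 * (X : Matrix (Fin 2) (Fin 2) K) 0 1 ^ q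
      + (X : Matrix (Fin 2) (Fin 2) K) 1 1 * (X : Matrix (Fin 2) (Fin 2) K) 1 1 ^ q = 1 := by
  rw [mem_U2_iff, mem_SU_iff] at hXU
  have key : ∀ u v : Fin 3 → K, u 2 = 0 →
      ((X : Matrix (Fin 2) (Fin 2) K) 0 0 * u 0 + (X : Matrix (Fin 2) (Fin 2) K) 0 1 * u 1) *
        ((X : Matrix (Fin 2) (Fin 2) K) 0 0 * v 0 + (X : Matrix (Fin 2) (Fin 2) K) 0 1 * v 1) ^ q +
      ((X : Matrix (Fin 2) (Fin 2) K) 1 0 * u 0 + (X : Matrix (Fin 2) (Fin 2) K) 1 1 * u 1) *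
        ((X : Matrix (Fin 2) (Fin 2) K) 1 0 * v 0 + (X : Matrix (Fin 2) (Fin 2) K) 1 1 * v 1) ^ q
      = u 0 * v 0 ^ q + u 1 * v 1 ^ q := by
    intro u v hu
    have h := hXU u v
    rw [iota_val] at h
    unfold Cfsg.hermForm at h
    obtain ⟨hu0, hu1, hu2⟩ := aux_iotaMat_mulVec X u
    obtain ⟨hv0, hv1, hv2⟩ := aux_iotaMat_mulVec X v
    rw [Fin.sum_univ_three, Fin.sum_univ_three, hu0, hu1, hu2, hv0, hv1, hu] at h
    simpa using h
  have z : (0 : K) ^ q = 0 := zero_pow hq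
  refine ⟨?_, ?_, ?_, ?_⟩
  · have := key ![1, 0, 0] ![1, 0, 0] rfl
    simpa [z] using this
  · have := key ![1, 0, 0] ![0, 1, 0] rfl
    simpa [z] using this
  · have := key ![0, 1, 0] ![1, 0, 0] rfl
    simpa [z] using this
  · have := key ![0, 1, 0] ![0, 1, 0] rfl
    simpa [z] using this

end Cfsg.Agent.Helper66.Psu3
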