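import Mathlib
import Cfsg.Prelude.Def_FusionSystem
import Cfsg.Prelude.Def_KGroupFacts
import Cfsg.Agent.Lib.Helper87.Psu3Defs
import Cfsg.Agent.Lib.Helper66.Psu3Aux
import Cfsg.Agent.Lib.Helper14.HermCount

/-!
# PSU3F server (helper87, S5319), piece (C4U): unitary non-scalar square roots of `-1` are
`GU₂`-conjugate to `M0`.

`X = [[a,b],[c,-a]]` with `a^q = -a`, `b^q = -c`, `a² + bc = -1`.  For `ω = ±1` the vector
`v = (a, ω + c)` satisfies `h(Xv, v) = 0`, `h(v,v) = h(Xv,Xv) = r := 2 - ω (b - c)`; one of the two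
`r` is nonzero, and `r` is a norm.  `B = t [Xv | v]` with `t^(q+1) = r⁻¹` is unitary and
`X B = B M0`.
-/

set_option autoImplicit false

namespace Cfsg.Agent.Helper66.Psu3

open Matrix Cfsg Cfsg.Agent.Helper87.Psl3 Cfsg.Agent.Helper87.Psu3

variable {K : Type*} [Field K] {q : ℕ}

local notation "SL3" => Matrix.SpecialLinearGroup (Fin 3) K
local notation "GL2" => GL (Fin 2) K

/-- norms are onto the fixed field -/
theorem c4u_exists_norm [Fintype K] (hK : Fintype.card K = q ^ 2) (s : K) (hs0 : s ≠ 0)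
    (hs : s ^ q = s) : ∃ t : K, t * t ^ q = s := by
  classical
  have hcard := Cfsg.Agent.Helper14.card_norm_fiber hK s hs0 hs
  have hne : (Finset.univ.filter (fun a : K => a ^ (q + 1) = s)).Nonempty := by
    rw [← Finset.card_pos, hcard]; omega
  obtain ⟨t, ht⟩ := hne
  simp only [Finset.mem_filter, Finset.mem_univ, true_and] at ht
  exact ⟨t, by rw [← ht, pow_succ, mul_comm]⟩

theorem c4_conjU [Fintype K] (hK : Fintype.card K = q ^ 2) (hodd : q % 2 = 1) (X : GL2)
    (hXU : X ∈ U2 q) (hX : X * X = sc (-1)) (hns : ∀ c : Kˣ, X ≠ sc c) :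
    ∃ C : GL2, C ∈ U2 q ∧ C * X * C⁻¹ = M0 := by
  have h2 := aux_two_ne_zero hK hodd
  have hqodd : Odd q := Nat.odd_iff.mpr hodd
  have hq0 : q ≠ 0 := by omega
  have h2q := aux_frob_two hK (q := q) (K := K)
  -- entries
  set a := (X : Matrix (Fin 2) (Fin 2) K) 0 0 with ha
  set b := (X : Matrix (Fin 2) (Fin 2) K) 0 1 with hb
  set c := (X : Matrix (Fin 2) (Fin 2) K) 1 0 with hc
  set d := (X : Matrix (Fin 2) (Fin 2) K) 1 1 with hd
  have hXm : (X : Matrix (Fin 2) (Fin 2) K) = !![a, b; c, d] := by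
    ext i j; fin_cases i <;> fin_cases j <;> rfl
  have hsq : (X : Matrix (Fin 2) (Fin 2) K) * (X : Matrix (Fin 2) (Fin 2) K)
      = !![-1, 0; 0, -1] := by
    have := congrArg (fun Y : GL2 => (Y : Matrix (Fin 2) (Fin 2) K)) hX
    simp only [Units.val_mul] at this
    rw [this, sc, Matrix.GeneralLinearGroup.coe_scalar]
    ext i j; fin_cases i <;> fin_cases j <;> simp [Matrix.scalar_apply]
  rw [hXm] at hsq
  have e00 := congrFun (congrFun hsq 0) 0
  have e01 := congrFun (congrFun hsq 0) 1
  have e10 := congrFun (congrFun hsq 1) 0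
  have e11 := congrFun (congrFun hsq 1) 1
  simp [Matrix.mul_apply, Fin.sum_univ_two] at e00 e01 e10 e11
  have E00 : a * a + b * c = -1 := by linear_combination e00
  have E01 : a * b + b * d = 0 := by linear_combination e01
  have E10 : c * a + d * c = 0 := by linear_combination e10
  have E11 : c * b + d * d = -1 := by linear_combination e11
  -- trace zero
  have htr : a + d = 0 := by
    by_contra hne
    have hb0 : b = 0 := by
      have : b * (a + d) = 0 := by linear_combination E01
      rcases mul_eq_zero.mp this with h | h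
      · exact h
      · exact absurd h hne
    have hc0 : c = 0 := by
      have : c * (a + d) = 0 := by linear_combination E10
      rcases mul_eq_zero.mp this with h | h
      · exact h
      · exact absurd h hne
    have hadd : a = d := by
      have : (a - d) * (a + d) = 0 := by linear_combination E00 - E11
      rcases mul_eq_zero.mp this with h | h
      · exact sub_eq_zero.mp h
      · exact absurd h hne
    have ha0 : a ≠ 0 := by
      intro h
      rw [h, hb0] at E00
      simp at E00
    apply hns (Units.mk0 a ha0)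
    apply Units.ext
    rw [hXm, sc, Matrix.GeneralLinearGroup.coe_scalar]
    ext i j; fin_cases i <;> fin_cases j <;> simp [Matrix.scalar_apply, hb0, hc0, hadd]
  -- unitarity of `X`
  have hcols := aux_cols_of_mem_U2 hq0 X hXU
  have c1 : a * a ^ q + c * c ^ q = 1 := hcols.1
  have c2 : a * b ^ q + c * d ^ q = 0 := hcols.2.1
  have c3 : b * a ^ q + d * c ^ q = 0 := hcols.2.2.1
  have c4 : b * b ^ q + d * d ^ q = 1 := hcols.2.2.2
  have haq : a ^ q = -a := by
    linear_combination (-a) * c1 + (-c) * c3 + (a ^ q) * E00 + (c * c ^ q) * htr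
  have hcq : c ^ q = -b := by
    linear_combination (-b) * c1 + (-d) * c3 + (b * a ^ q) * htr + (c ^ q) * E11
  have hbq : b ^ q = -c := by
    linear_combination (-a) * c2 + (-c) * c4 + (b ^ q) * E00 + (c * d ^ q) * htr
  have hda : d = -a := by linear_combination htr
  -- the sign `ω`
  obtain ⟨w, hw2, hwq, hr0⟩ : ∃ w : K, w ^ 2 = 1 ∧ w ^ q = w ∧ 2 - w * (b - c) ≠ 0 := by
    by_cases h : 2 - (b - c) = 0
    · refine ⟨-1, by ring, hqodd.neg_one_pow, ?_⟩
      intro h'
      have : (2 : K) * 2 = 0 := by linear_combination h + h'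
      rcases mul_eq_zero.mp this with h3 | h3 <;> exact h2 h3
    · exact ⟨1, by ring, one_pow _, by simpa using h⟩
  set r : K := 2 - w * (b - c) with hr
  have hrq : r ^ q = r := by
    rw [hr, aux_frob_sub hK, mul_pow, aux_frob_sub hK, h2q, hwq, hbq, hcq]
    ring
  have hri0 : r⁻¹ ≠ 0 := inv_ne_zero hr0
  have hriq : (r⁻¹) ^ q = r⁻¹ := by rw [inv_pow, hrq]
  obtain ⟨t, ht⟩ := c4u_exists_norm hK r⁻¹ hri0 hriq
  have htr1 : t * t ^ q * r = 1 := by rw [ht]; exact inv_mul_cancel₀ hr0
  have ht0 : t ≠ 0 := by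
    intro h
    rw [h, zero_mul, zero_mul] at htr1
    exact zero_ne_one htr1
  have hw0 : w ≠ 0 := by
    intro h
    rw [h] at hw2
    simp at hw2
  -- the conjugating matrix
  have hdetval : (!![t * (w * b - 1), t * a; -(t * w * a), t * (w + c)] :
      Matrix (Fin 2) (Fin 2) K).det = -(w * t ^ 2 * r) := by
    rw [Matrix.det_fin_two_of, hr]
    linear_combination (t ^ 2 * c) * hw2 + (t ^ 2 * w) * E00
  have hdet : (!![t * (w * b - 1), t * a; -(t * w * a), t * (w + c)] :
      Matrix (Fin 2) (Fin 2) K).det ≠ 0 := by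
    rw [hdetval]
    exact neg_ne_zero.mpr (mul_ne_zero (mul_ne_zero hw0 (pow_ne_zero 2 ht0)) hr0)
  set B : GL2 := Matrix.GeneralLinearGroup.mkOfDetNeZero _ hdet with hB
  have hBm : (B : Matrix (Fin 2) (Fin 2) K)
      = !![t * (w * b - 1), t * a; -(t * w * a), t * (w + c)] := rfl
  -- `B` is unitary
  have q00 : (t * (w * b - 1)) ^ q = t ^ q * (-(w * c) - 1) := by
    rw [mul_pow, aux_frob_sub hK, mul_pow, hwq, hbq, one_pow]; ring
  have q01 : (t * a) ^ q = -(t ^ q * a) := by
    rw [mul_pow, haq]; ring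
  have q10 : (-(t * w * a)) ^ q = t ^ q * w * a := by
    rw [hqodd.neg_pow, mul_pow, mul_pow, hwq, haq]; ring
  have q11 : (t * (w + c)) ^ q = t ^ q * (w - b) := by
    rw [mul_pow, Cfsg.Agent.Helper13.frob_add hK, hwq, hcq]; ring
  have hBU : B ∈ U2 q := by
    apply aux_mem_U2_of_cols hK B _ _ _ _ hBm
    · rw [q00, q10, hr] at *
      linear_combination htr1 + (t * t ^ q * (-(b * c) - a ^ 2 )) * hw2
        + (-(t * t ^ q)) * E00
    · rw [q01, q11]
      linear_combination (-(t * t ^ q * a)) * hw2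
    · rw [q00, q10]
      linear_combination (t * t ^ q * a) * hw2
    · rw [q01, q11, hr] at *
      linear_combination htr1 + (t * t ^ q) * hw2 + (-(t * t ^ q)) * E00
  -- the conjugation relation
  have hconj : X * B = B * M0 := by
    apply Units.ext
    rw [Units.val_mul, Units.val_mul, hXm, M0_val, hBm]
    ext i j; fin_cases i <;> fin_cases j <;>
      simp [rot, Matrix.mul_apply, Fin.sum_univ_two] <;>
      (try first
        | ring1
        | linear_combination t * E00
        | linear_combination (t * w) * E00 + (t * w * a) * htr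
        | linear_combination (t * w) * E00 - (t * w * a) * htr
        | linear_combination (t * (w + c)) * htr)
  refine ⟨B⁻¹, (U2 q).inv_mem hBU, ?_⟩
  rw [inv_inv, mul_assoc, hconj, ← mul_assoc, inv_mul_cancel, one_mul]

end Cfsg.Agent.Helper66.Psu3
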