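import Mathlib
import Cfsg.Prelude.Def_FusionSystem
import Cfsg.Prelude.Def_KGroupFacts
import Cfsg.Agent.Lib.Helper87.Psu3Defs
import Cfsg.Agent.Lib.Helper66.Psu3Aux
import Cfsg.Agent.Lib.Helper94.Psl3W

/-!
# PSU3F server (helper87, S5319), piece (WU): a unitary 2-element `rot a b` with `a b ≠ 0`.
-/

set_option autoImplicit false

namespace Cfsg.Agent.Helper66.Psu3

open Matrix Cfsg Cfsg.Agent.Helper87.Psl3 Cfsg.Agent.Helper87.Psu3

variable {K : Type*} [Field K] {q : ℕ}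

local notation "SL3" => Matrix.SpecialLinearGroup (Fin 3) K
local notation "GL2" => GL (Fin 2) K

/-- `q² ≡ 1 mod 8` for odd `q` -/
theorem wu_sq_mod_eight (hodd : q % 2 = 1) : q ^ 2 % 8 = 1 := by
  have h := Nat.pow_mod q 2 8
  have hq8 : q % 8 = 1 ∨ q % 8 = 3 ∨ q % 8 = 5 ∨ q % 8 = 7 := by omega
  rcases hq8 with h' | h' | h' | h' <;> rw [h'] at h <;> simpa using h

/-- a square root of `-1` -/
theorem wu_exists_i [Fintype K] (hK : Fintype.card K = q ^ 2) (hodd : q % 2 = 1) :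
    ∃ i : K, i ^ 2 = -1 := by
  have h8 := wu_sq_mod_eight hodd
  have : IsSquare (-1 : K) := by
    rw [FiniteField.isSquare_neg_one_iff, hK]
    omega
  obtain ⟨i, hi⟩ := this
  exact ⟨i, by rw [pow_two]; exact hi.symm⟩

/-- a square root of `i` -/
theorem wu_exists_sqrt_i [Fintype K] (hK : Fintype.card K = q ^ 2) (hodd : q % 2 = 1)
    (i : K) (hi : i ^ 2 = -1) : ∃ l : K, l ^ 2 = i := by
  have h2 := aux_two_ne_zero hK hodd
  have h8 := wu_sq_mod_eight hodd
  have hchar : ringChar K ≠ 2 := by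
    intro h
    have := ringChar.Nat.cast_ringChar (R := K)
    rw [h] at this
    exact h2 (by exact_mod_cast this)
  have hi0 : i ≠ 0 := by
    intro h
    rw [h] at hi
    simp at hi
  have : IsSquare i := by
    rw [FiniteField.isSquare_iff hchar hi0, hK]
    obtain ⟨k, hk⟩ : ∃ k, q ^ 2 = 8 * k + 1 := ⟨q ^ 2 / 8, by omega⟩
    have : q ^ 2 / 2 = 4 * k := by omega
    rw [this, pow_mul]
    have : i ^ 4 = 1 := by
      have : i ^ 4 = (i ^ 2) ^ 2 := by ring
      rw [this, hi]; ring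
    rw [this, one_pow]
  obtain ⟨l, hl⟩ := this
  exact ⟨l, by rw [pow_two]; exact hl.symm⟩

theorem wu_rot_pow_eight_of_sq (a b : K) (h : rot a b * rot a b = rot 0 1) : (rot a b) ^ 8 = 1 := by
  have e2 : rot (0 : K) 1 * rot 0 1 = rot (-1) 0 := by
    rw [rot_mul]; congr 1 <;> ring
  have e3 : rot (-1 : K) 0 * rot (-1) 0 = rot 1 0 := by
    rw [rot_mul]; congr 1 <;> ring
  have h8 : (8 : ℕ) = 2 * 2 * 2 := by norm_num
  have p2 : rot a b ^ 2 = rot 0 1 := by rw [pow_two, h]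
  have p4 : (rot a b ^ 2) ^ 2 = rot (-1) 0 := by rw [p2, pow_two, e2]
  have p8 : ((rot a b ^ 2) ^ 2) ^ 2 = 1 := by rw [p4, pow_two, e3, rot_one]
  rw [h8, pow_mul, pow_mul, p8]

/-- packaging: a `rot a b` of 8-th power one with unitary columns lies in `P2U q` -/
theorem wu_package [Fintype K] (hK : Fintype.card K = q ^ 2) (a b : K)
    (h8 : (rot a b) ^ 8 = 1)
    (h1 : a * a ^ q + (-b) * (-b) ^ q = 1)
    (h2 : a * b ^ q + (-b) * a ^ q = 0)
    (h3 : b * a ^ q + a * (-b) ^ q = 0)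
    (h4 : b * b ^ q + a * a ^ q = 1) :
    ∃ W : GL2, W ∈ P2U q ∧ (W : Matrix (Fin 2) (Fin 2) K) = rot a b := by
  refine ⟨Units.ofPowEqOne (rot a b) 8 h8 (by norm_num), ?_, rfl⟩
  refine Subgroup.mem_inf.mpr ⟨?_, ?_⟩
  · rw [mem_P2_iff]
    refine ⟨(mem_Eu_iff _).2 ⟨a, b, rfl⟩, 3, ?_⟩
    have : (2 : ℕ) ^ 3 = 8 := by norm_num
    rw [this]
    exact Units.pow_ofPowEqOne h8 (by norm_num)
  · exact aux_mem_U2_of_cols hK _ a b (-b) a rfl h1 h2 h3 h4

theorem exists_witnessU [Fintype K] (hK : Fintype.card K = q ^ 2) (hodd : q % 2 = 1) :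
    ∃ a b : K, a ≠ 0 ∧ b ≠ 0 ∧
      ∃ W : GL2, W ∈ P2U q ∧ (W : Matrix (Fin 2) (Fin 2) K) = rot a b := by
  have h2 := aux_two_ne_zero hK hodd
  have hqodd : Odd q := Nat.odd_iff.mpr hodd
  obtain ⟨i, hi⟩ := wu_exists_i hK hodd
  have h2q := aux_frob_two hK (q := q) (K := K)
  -- `i^q = ± i`
  have hiq : i ^ q = i ∨ i ^ q = -i := by
    have : (i ^ q) ^ 2 = i ^ 2 := by
      rw [← pow_mul, mul_comm, pow_mul, hi, hqodd.neg_one_pow]
    exact sq_eq_sq_iff_eq_or_eq_neg.mp this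
  set h : K := 2⁻¹ with hh
  have hh2 : 2 * h = 1 := mul_inv_cancel₀ h2
  have hhq : h ^ q = h := by rw [hh, inv_pow, h2q]
  rcases hiq with hiq | hiq
  · -- `i^q = i` : `W² = M0`
    obtain ⟨l, hl⟩ := wu_exists_sqrt_i hK hodd i hi
    have hlq : l ^ q = l ∨ l ^ q = -l := by
      have : (l ^ q) ^ 2 = l ^ 2 := by
        rw [← pow_mul, mul_comm, pow_mul, hl, hiq]
      exact sq_eq_sq_iff_eq_or_eq_neg.mp this
    obtain ⟨e, he2, heq, hle⟩ : ∃ e : K, e ^ 2 = 1 ∧ e ^ q = e ∧ l ^ q = e * l := by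
      rcases hlq with hlq | hlq
      · exact ⟨1, by ring, one_pow _, by rw [hlq, one_mul]⟩
      · exact ⟨-1, by ring, hqodd.neg_one_pow, by rw [hlq]; ring⟩
    set a : K := l * (1 - e * i) * h with ha
    set b : K := -(i * l * (1 + e * i) * h) with hb
    have ha2 : a ^ 2 = e * h := by
      rw [ha]
      linear_combination ((1 - e * i) ^ 2 * h ^ 2) * hl + (i ^ 3 * h ^ 2) * he2
        + (i * h ^ 2 - 2 * e * h ^ 2) * hi + (e * h) * hh2
    have hb2 : b ^ 2 = e * h := by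
      rw [hb]
      linear_combination (i ^ 2 * (1 + e * i) ^ 2 * h ^ 2) * hl + (i ^ 5 * h ^ 2) * he2
        + (i ^ 3 * h ^ 2 + 2 * e * i ^ 2 * h ^ 2 - 2 * e * h ^ 2) * hi + (e * h) * hh2
    have hab : 2 * (a * b) = 1 := by
      rw [ha, hb]
      linear_combination (-(2 * i * (1 - e * i) * (1 + e * i) * h ^ 2)) * hl
        + (2 * i ^ 4 * h ^ 2) * he2 + (2 * i ^ 2 * h ^ 2 - 4 * h ^ 2) * hi + (2 * h + 1) * hh2
    have haq : a ^ q = e * a := by
      rw [ha, mul_pow, mul_pow, hle, hhq, aux_frob_sub hK, one_pow, mul_pow, heq, hiq]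
      ring
    have hbq : b ^ q = e * b := by
      rw [hb, hqodd.neg_pow, mul_pow, mul_pow, mul_pow, hle, hhq,
        Cfsg.Agent.Helper13.frob_add hK, one_pow, mul_pow, heq, hiq]
      ring
    have hnbq : (-b) ^ q = -(e * b) := by rw [hqodd.neg_pow, hbq]
    have heh : e * h ≠ 0 := by
      intro h0
      have : (e * h) * (2 * e) = 1 := by linear_combination (2 * h) * he2 + hh2
      rw [h0, zero_mul] at this
      exact zero_ne_one this
    have ha0 : a ≠ 0 := by
      intro h0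
      rw [h0] at ha2
      exact heh (by rw [← ha2]; ring)
    have hb0 : b ≠ 0 := by
      intro h0
      rw [h0] at hb2
      exact heh (by rw [← hb2]; ring)
    have hsq : rot a b * rot a b = rot 0 1 := by
      rw [rot_mul]
      congr 1
      · linear_combination ha2 - hb2
      · linear_combination hab
    have hsum : e * (a ^ 2 + b ^ 2) = 1 := by
      rw [ha2, hb2]
      linear_combination (2 * h) * he2 + hh2
    refine ⟨a, b, ha0, hb0, wu_package hK a b (wu_rot_pow_eight_of_sq a b hsq) ?_ ?_ ?_ ?_⟩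
    · rw [haq, hnbq]; linear_combination hsum
    · rw [haq, hbq]; ring
    · rw [haq, hnbq]; ring
    · rw [haq, hbq]; linear_combination hsum
  · -- `i^q = -i` : `W = rot c c`, `c = (1+i)/2`
    set c : K := (1 + i) * h with hc
    have hcq : c ^ q = (1 - i) * h := by
      rw [hc, mul_pow, hhq, Cfsg.Agent.Helper13.frob_add hK, one_pow, hiq]
      ring
    have hncq : (-c) ^ q = -((1 - i) * h) := by rw [hqodd.neg_pow, hcq]
    have hcc : 2 * (c * ((1 - i) * h)) = 1 := by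
      rw [hc]
      linear_combination (-(2 * h ^ 2)) * hi + (2 * h + 1) * hh2
    have hc0 : c ≠ 0 := by
      intro h0
      rw [h0] at hcc
      simp at hcc
    have hc4 : (2 * c ^ 2) ^ 4 = 1 := by
      have e1 : 2 * c ^ 2 = i := by
        rw [hc]
        linear_combination (2 * h ^ 2) * hi + (i * (2 * h + 1)) * hh2
      rw [e1]
      have : i ^ 4 = (i ^ 2) ^ 2 := by ring
      rw [this, hi]; ring
    have h8 := Cfsg.Agent.Helper94.Psl3.h94_rot_pow_eight c hc4
    refine ⟨c, c, hc0, hc0, wu_package hK c c h8 ?_ ?_ ?_ ?_⟩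
    · rw [hcq, hncq]; linear_combination hcc
    · rw [hcq]; ring
    · rw [hcq, hncq]; ring
    · rw [hcq]; linear_combination hcc

end Cfsg.Agent.Helper66.Psu3
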