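import Mathlib
import Cfsg.Agent.Lib.Helper93.RU0
import Cfsg.Agent.Lib.Helper64.SL3Defs

/-!
# helper66: SL3 (NZ) `nonvanishing` for helper64's server (S2278)
-/

set_option autoImplicit false

namespace Cfsg.Agent.Helper66.SL3

open Matrix Cfsg.Agent.Helper93.RU Cfsg.Agent.Helper64.SL3

variable {F : Type*} [Field F]

/-- (NZ) `Y = -(η-1)²(2η+1)/η²`, `T = (η²-1)³/η⁵`. -/
theorem nonvanishing (η : F) (hη : η ≠ 0) (h2 : η ^ 2 ≠ 1) (h21 : 2 * η + 1 ≠ 0) :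
    Yp η * η⁻¹ ≠ 0 ∧ rho0 η ≠ 0 := by
  have h1 : η - 1 ≠ 0 := by
    intro h
    apply h2
    have : η = 1 := sub_eq_zero.1 h
    rw [this, one_pow]
  have hY : Yp η = -((η - 1) ^ 2 * (2 * η + 1)) * η⁻¹ ^ 2 := by
    unfold Yp
    field_simp
    ring
  have hY0 : Yp η ≠ 0 := by
    rw [hY]
    exact mul_ne_zero (neg_ne_zero.2 (mul_ne_zero (pow_ne_zero 2 h1) h21))
      (pow_ne_zero 2 (inv_ne_zero hη))
  have hT0 : Tp η ≠ 0 := by
    unfold Tp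
    exact mul_ne_zero (pow_ne_zero 3 (sub_ne_zero.2 h2)) (pow_ne_zero 5 (inv_ne_zero hη))
  refine ⟨mul_ne_zero hY0 (inv_ne_zero hη), ?_⟩
  unfold rho0
  exact neg_ne_zero.2 (mul_ne_zero (mul_ne_zero hY0 hT0) (pow_ne_zero 2 (inv_ne_zero hη)))

end Cfsg.Agent.Helper66.SL3
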