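import Mathlib
import Cfsg.Agent.Lib.Helper93.RU0
import Cfsg.Agent.Lib.Helper64.SL3Defs
import Cfsg.Agent.Lib.Helper82.RUA
import Cfsg.Agent.Lib.Helper79.RUB1

/-!
# helper66: SL3 (P3) `comm_eq` for helper64's server (S2278)
-/

set_option autoImplicit false

namespace Cfsg.Agent.Helper66.SL3

open Matrix Cfsg.Agent.Helper93.RU Cfsg.Agent.Helper64.SL3

variable {F : Type*} [Field F]

/-- value of `SEl` (local copy of (V3)) -/
theorem SEl_valP3 (η : F) (hη : η ≠ 0) : (SEl η).1 = Smat η := by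
  have hd : (Smat η).det = 1 := by
    unfold Smat
    rw [Matrix.det_fin_three]
    simp
    field_simp
  simp [SEl, hd]

/-- the matrix of a transvection centred at `e₀` -/
theorem tvS_e0_valP3 (ψ : Fin (0 + 3) → F) (h0 : ψ 0 = 0) :
    (tvS (eV 0) ψ : SLm 0 F).1 = !![1, ψ 1, ψ 2; 0, 1, 0; 0, 0, 1] := by
  have hd : ψ ⬝ᵥ (eV 0 : Fin (0 + 3) → F) = 0 := by
    unfold eV
    rw [dotProduct_single, mul_one, h0]
  rw [Cfsg.Agent.Helper82.RU.tvS_val _ _ hd]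
  unfold tvM eV
  ext i j
  fin_cases i <;> fin_cases j <;> simp [Matrix.vecMulVec_apply, h0]

/-- the matrix of `x₁₂(c)` -/
theorem tvS_e1_valP3 (c : F) :
    (tvS (eV 1) (c • eV 2) : SLm 0 F).1 = !![1, 0, 0; 0, 1, c; 0, 0, 1] := by
  have hd : (c • eV 2 : Fin (0 + 3) → F) ⬝ᵥ (eV 1 : Fin (0 + 3) → F) = 0 := by
    unfold eV
    rw [dotProduct_single, mul_one]
    simp
  rw [Cfsg.Agent.Helper82.RU.tvS_val _ _ hd]
  unfold tvM eV
  ext i j
  fin_cases i <;> fin_cases j <;> simp [Matrix.vecMulVec_apply]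

/-- the matrix of the lower Jordan block -/
theorem lEl_one_valP3 : (lEl (1 : F) : SLm 0 F).1 = !![1, 0, 0; 1, 1, 0; 0, 1, 1] := by
  rw [Cfsg.Agent.Helper79.RU.lEl_val]
  unfold Lmat
  ext i j
  fin_cases i <;> fin_cases j <;> simp

/-- the inverse of the lower Jordan block -/
def LinvMatP3 (F : Type*) [Field F] : Matrix (Fin (0 + 3)) (Fin (0 + 3)) F :=
  !![1, 0, 0; -1, 1, 0; 1, -1, 1]

theorem LinvMatP3_det : (LinvMatP3 F).det = 1 := by
  unfold LinvMatP3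
  rw [Matrix.det_fin_three]
  simp

/-- the inverse of the lower Jordan block, as an element of `SL` -/
def LinvElP3 (F : Type*) [Field F] : SLm 0 F := ⟨LinvMatP3 F, LinvMatP3_det⟩

theorem lEl_inv_valP3 : ((lEl (1 : F) : SLm 0 F)⁻¹).1 = LinvMatP3 F := by
  have h : (lEl (1 : F) : SLm 0 F)⁻¹ = LinvElP3 F := by
    apply inv_eq_of_mul_eq_one_right
    apply Subtype.ext
    rw [Matrix.SpecialLinearGroup.coe_mul, lEl_one_valP3]
    show _ * LinvMatP3 F = 1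
    unfold LinvMatP3
    ext i j
    fin_cases i <;> fin_cases j <;> simp [Matrix.mul_apply, Fin.sum_univ_succ]
  rw [h]
  rfl

/-- (P3) -/
theorem comm_eq (η : F) (hη : η ≠ 0) :
    SEl η * ((lEl 1)⁻¹ * XEl η * lEl 1) * (SEl η)⁻¹ * ((lEl 1)⁻¹ * XEl η * lEl 1)⁻¹ =
      tvS (eV 0) (rho0 η • (eV 1 + eV 2)) := by
  rw [mul_inv_eq_iff_eq_mul, mul_inv_eq_iff_eq_mul]
  apply Subtype.ext
  have h0 : (rho0 η • (eV 1 + eV 2) : Fin (0 + 3) → F) 0 = 0 := by simp [eV]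
  unfold XEl
  simp only [Matrix.SpecialLinearGroup.coe_mul]
  rw [SEl_valP3 η hη, lEl_inv_valP3, tvS_e1_valP3, lEl_one_valP3, tvS_e0_valP3 _ h0]
  unfold Smat LinvMatP3 rho0 Tp Yp
  ext i j
  fin_cases i <;> fin_cases j <;> simp [Matrix.mul_apply, Fin.sum_univ_succ, eV] <;>
    (try field_simp) <;> (try ring)

end Cfsg.Agent.Helper66.SL3
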