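import Mathlib
import Cfsg.Agent.Lib.Helper93.RU0
import Cfsg.Agent.Lib.Helper64.SL3Defs
import Cfsg.Agent.Lib.Helper82.RUA

/-!
# helper66: SL3 (P4) `S_conj` for helper64's server (S2278)
-/

set_option autoImplicit false

namespace Cfsg.Agent.Helper66.SL3

open Matrix Cfsg.Agent.Helper93.RU Cfsg.Agent.Helper64.SL3

variable {F : Type*} [Field F]

/-- value of `SEl` (local copy of (V3)) -/
theorem SEl_valP4 (η : F) (hη : η ≠ 0) : (SEl η).1 = Smat η := by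
  have hd : (Smat η).det = 1 := by
    unfold Smat
    rw [Matrix.det_fin_three]
    simp
    field_simp
  simp [SEl, hd]

/-- the matrix of a transvection centred at `e₀` -/
theorem tvS_e0_valP4 (ψ : Fin (0 + 3) → F) (h0 : ψ 0 = 0) :
    (tvS (eV 0) ψ : SLm 0 F).1 = !![1, ψ 1, ψ 2; 0, 1, 0; 0, 0, 1] := by
  have hd : ψ ⬝ᵥ (eV 0 : Fin (0 + 3) → F) = 0 := by
    unfold eV
    rw [dotProduct_single, mul_one, h0]
  rw [Cfsg.Agent.Helper82.RU.tvS_val _ _ hd]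
  unfold tvM eV
  ext i j
  fin_cases i <;> fin_cases j <;> simp [Matrix.vecMulVec_apply, h0]

/-- (P4) -/
theorem S_conj (η : F) (hη : η ≠ 0) (ψ : Fin (0 + 3) → F) (h0 : ψ 0 = 0) :
    SEl η * tvS (eV 0) ψ * (SEl η)⁻¹ = tvS (eV 0) (η⁻¹ ^ 3 • ψ) := by
  rw [mul_inv_eq_iff_eq_mul]
  apply Subtype.ext
  have h0' : (η⁻¹ ^ 3 • ψ) 0 = 0 := by simp [h0]
  rw [Matrix.SpecialLinearGroup.coe_mul, Matrix.SpecialLinearGroup.coe_mul, SEl_valP4 η hη,
    tvS_e0_valP4 ψ h0, tvS_e0_valP4 _ h0']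
  unfold Smat
  ext i j
  fin_cases i <;> fin_cases j <;> simp [Matrix.mul_apply, Fin.sum_univ_succ] <;> (try field_simp) <;> (try ring)

end Cfsg.Agent.Helper66.SL3
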