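import Mathlib
import Cfsg.Agent.Lib.Helper93.RU0
import Cfsg.Agent.Lib.Helper64.SL3Defs
import Cfsg.Agent.Lib.Helper82.RUA

/-!
# helper66: SL3 (P5) `X_conj` for helper64's server (S2278)
-/

set_option autoImplicit false

namespace Cfsg.Agent.Helper66.SL3

open Matrix Cfsg.Agent.Helper93.RU Cfsg.Agent.Helper64.SL3

variable {F : Type*} [Field F]

/-- the matrix of a transvection centred at `e₀` -/
theorem tvS_e0_valP5 (ψ : Fin (0 + 3) → F) (h0 : ψ 0 = 0) :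
    (tvS (eV 0) ψ : SLm 0 F).1 = !![1, ψ 1, ψ 2; 0, 1, 0; 0, 0, 1] := by
  have hd : ψ ⬝ᵥ (eV 0 : Fin (0 + 3) → F) = 0 := by
    unfold eV
    rw [dotProduct_single, mul_one, h0]
  rw [Cfsg.Agent.Helper82.RU.tvS_val _ _ hd]
  unfold tvM eV
  ext i j
  fin_cases i <;> fin_cases j <;> simp [Matrix.vecMulVec_apply, h0]

/-- the matrix of `x₁₂(c)` -/
theorem tvS_e1_valP5 (c : F) :
    (tvS (eV 1) (c • eV 2) : SLm 0 F).1 = !![1, 0, 0; 0, 1, c; 0, 0, 1] := by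
  have hd : (c • eV 2 : Fin (0 + 3) → F) ⬝ᵥ (eV 1 : Fin (0 + 3) → F) = 0 := by
    unfold eV
    rw [dotProduct_single, mul_one]
    simp
  rw [Cfsg.Agent.Helper82.RU.tvS_val _ _ hd]
  unfold tvM eV
  ext i j
  fin_cases i <;> fin_cases j <;> simp [Matrix.vecMulVec_apply]

/-- (P5) -/
theorem X_conj (η ρ : F) :
    XEl η * tvS (eV 0) (ρ • (eV 1 + eV 2)) * (XEl η)⁻¹ =
      tvS (eV 0) (ρ • eV 1 + (ρ * (1 - Yp η * η⁻¹)) • eV 2) := by
  rw [mul_inv_eq_iff_eq_mul]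
  apply Subtype.ext
  have h0 : (ρ • (eV 1 + eV 2) : Fin (0 + 3) → F) 0 = 0 := by simp [eV]
  have h0' : (ρ • eV 1 + (ρ * (1 - Yp η * η⁻¹)) • eV 2 : Fin (0 + 3) → F) 0 = 0 := by simp [eV]
  unfold XEl
  rw [Matrix.SpecialLinearGroup.coe_mul, Matrix.SpecialLinearGroup.coe_mul, tvS_e1_valP5,
    tvS_e0_valP5 _ h0, tvS_e0_valP5 _ h0']
  ext i j
  fin_cases i <;> fin_cases j <;> simp [Matrix.mul_apply, Fin.sum_univ_succ, eV] <;> (try ring)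

end Cfsg.Agent.Helper66.SL3
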