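import Mathlib
import Cfsg.Agent.Lib.Helper62.SLN0

/-!
# SLN pieces G3, G3d, G3e (S2332): conjugation by the Levi factor.
-/

set_option autoImplicit false
set_option linter.unusedSectionVars false

namespace Cfsg.Agent.Helper66.SLN

open Matrix Module Cfsg.Agent.Helper93.U2 Cfsg.Agent.Helper62.SLN

section GRP

variable {F : Type*} [Field F] {κ : Type} [Fintype κ] [DecidableEq κ]

/-- piece G3 -/
theorem lEl_conj_uEl (A : SpecialLinearGroup κ F) (u : κ → F) :
    lEl A * uEl u * (lEl A)⁻¹ = uEl (vecMul u (A⁻¹ : SpecialLinearGroup κ F).1) := by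
  rw [mul_inv_eq_iff_eq_mul]
  apply Subtype.ext
  show (lEl A : Matrix (Unit ⊕ κ) (Unit ⊕ κ) F) * (uEl u : Matrix _ _ F) =
    (uEl (vecMul u (A⁻¹ : SpecialLinearGroup κ F).1) : Matrix _ _ F) * (lEl A : Matrix _ _ F)
  rw [lEl_val, uEl_val, uEl_val, fromBlocks_multiply, fromBlocks_multiply]
  have hAA : (A⁻¹ : SpecialLinearGroup κ F).1 * A.1 = 1 := by
    have := congrArg Subtype.val (inv_mul_cancel A)
    exact this
  have hrow : replicateRow Unit (vecMul u (A⁻¹ : SpecialLinearGroup κ F).1) * A.1 =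
      replicateRow Unit u := by
    rw [replicateRow_vecMul, Matrix.mul_assoc, hAA, Matrix.mul_one]
  simp only [Matrix.one_mul, Matrix.mul_one, Matrix.zero_mul, Matrix.mul_zero, add_zero, zero_add,
    hrow]

/-- piece G3d -/
theorem dEl_conj_uEl (a : F) (A : Matrix κ κ F) (h : a * A.det = 1) (u : κ → F) :
    dEl a A * uEl u * (dEl a A)⁻¹ = uEl (a • vecMul u A⁻¹) := by
  rw [mul_inv_eq_iff_eq_mul]
  apply Subtype.ext
  show (dEl a A : Matrix (Unit ⊕ κ) (Unit ⊕ κ) F) * (uEl u : Matrix _ _ F) =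
    (uEl (a • vecMul u A⁻¹) : Matrix _ _ F) * (dEl a A : Matrix _ _ F)
  rw [dEl_val a A h, uEl_val, uEl_val, fromBlocks_multiply, fromBlocks_multiply]
  have hdet : IsUnit A.det := by
    refine IsUnit.of_mul_eq_one a ?_
    rw [mul_comm]; exact h
  have hAA : A⁻¹ * A = 1 := Matrix.nonsing_inv_mul A hdet
  have hrow : replicateRow Unit (a • vecMul u A⁻¹) * A = a • replicateRow Unit u := by
    rw [replicateRow_smul, Matrix.smul_mul, replicateRow_vecMul, Matrix.mul_assoc, hAA,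
      Matrix.mul_one]
  simp only [Matrix.one_mul, Matrix.mul_one, Matrix.zero_mul, Matrix.mul_zero, add_zero, zero_add,
    hrow, Matrix.smul_mul]

/-- piece G3e : `dEl a A` normalises the Levi factor -/
theorem dEl_conj_lEl (a : F) (A : Matrix κ κ F) (h : a * A.det = 1) (B : SpecialLinearGroup κ F) :
    ((dEl a A * lEl B * (dEl a A)⁻¹ : SpecialLinearGroup (Unit ⊕ κ) F) :
      Matrix (Unit ⊕ κ) (Unit ⊕ κ) F) = fromBlocks 1 0 0 (A * B.1 * A⁻¹) := by
  have hdet : IsUnit A.det := by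
    refine IsUnit.of_mul_eq_one a ?_
    rw [mul_comm]; exact h
  have hAA : A⁻¹ * A = 1 := Matrix.nonsing_inv_mul A hdet
  have hAA' : A * A⁻¹ = 1 := Matrix.mul_nonsing_inv A hdet
  have hN : (fromBlocks (1 : Matrix Unit Unit F) 0 0 (A * B.1 * A⁻¹)).det = 1 := by
    rw [det_fromBlocks_zero₂₁, det_one, one_mul, det_mul, det_mul, B.2, mul_one, ← det_mul, hAA',
      det_one]
  have key : dEl a A * lEl B * (dEl a A)⁻¹ =
      (⟨fromBlocks (1 : Matrix Unit Unit F) 0 0 (A * B.1 * A⁻¹), hN⟩ :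
        SpecialLinearGroup (Unit ⊕ κ) F) := by
    refine mul_inv_eq_iff_eq_mul.2 ?_
    apply Subtype.ext
    show (dEl a A : Matrix (Unit ⊕ κ) (Unit ⊕ κ) F) * (lEl B : Matrix _ _ F) =
      fromBlocks (1 : Matrix Unit Unit F) 0 0 (A * B.1 * A⁻¹) * (dEl a A : Matrix _ _ F)
    rw [dEl_val a A h, lEl_val, fromBlocks_multiply, fromBlocks_multiply]
    simp only [Matrix.one_mul, Matrix.mul_one, Matrix.zero_mul, Matrix.mul_zero, add_zero,
      zero_add, Matrix.smul_mul, Matrix.mul_assoc, hAA]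
  rw [key]

end GRP

end Cfsg.Agent.Helper66.SLN
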