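import Mathlib
import Cfsg.Agent.Lib.Helper98.SPE0
import Cfsg.Agent.Lib.Helper66.SPEQ4

/-! # SPE server (helper98, S2333), piece Q5: `qv_single`, `bv_single` -/

set_option autoImplicit false

namespace Cfsg.Agent.Helper66.SPE

open Matrix Cfsg.Agent.Helper93.U2 Cfsg.Agent.Helper98.SPE

variable {F : Type*} [Field F] {n : ℕ}

theorem qv_single (S : Matrix (Fin n) (Fin n) F) (k : Fin n) :
    qv S (Pi.single k 1) = S k k := by
  unfold qv
  rw [Finset.sum_eq_single k]
  · rw [Finset.sum_eq_single k]
    · rw [if_pos le_rfl, Pi.single_eq_same, mul_one, mul_one]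
    · intro j _ hj
      split_ifs
      · rw [Pi.single_eq_of_ne hj, mul_zero]
      · rfl
    · intro h
      exact absurd (Finset.mem_univ k) h
  · intro i _ hi
    apply Finset.sum_eq_zero
    intro j _
    split_ifs
    · rw [Pi.single_eq_of_ne hi, mul_zero, zero_mul]
    · rfl
  · intro h
    exact absurd (Finset.mem_univ k) h

theorem bv_single (S : Matrix (Fin n) (Fin n) F) (k l : Fin n) (h : k < l) :
    bv S (Pi.single k 1) (Pi.single l 1) = S k l := by
  rw [bv_eq_sum, Finset.sum_eq_single k]
  · rw [Finset.sum_eq_single l]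
    · rw [if_pos h.le, Pi.single_eq_same, Pi.single_eq_same, Pi.single_eq_of_ne h.ne,
        zero_mul, add_zero, mul_one, mul_one]
    · intro j _ hj
      split_ifs
      · rw [Pi.single_eq_of_ne hj, Pi.single_eq_of_ne h.ne, mul_zero, zero_mul, add_zero,
          mul_zero]
      · rfl
    · intro h'
      exact absurd (Finset.mem_univ l) h'
  · intro i _ hi
    apply Finset.sum_eq_zero
    intro j _
    split_ifs with hij
    · rw [Pi.single_eq_of_ne hi, zero_mul, zero_add]
      by_cases hil : i = l
      · subst hil
        have hjk : j ≠ k := by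
          intro hjk
          subst hjk
          exact absurd (lt_of_lt_of_le h hij) (lt_irrefl _)
        rw [Pi.single_eq_of_ne hjk, mul_zero, mul_zero]
      · rw [Pi.single_eq_of_ne hil, zero_mul, mul_zero]
    · rfl
  · intro h'
    exact absurd (Finset.mem_univ k) h'

end Cfsg.Agent.Helper66.SPE
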