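import Mathlib
import Cfsg.Agent.Lib.Helper62.SUO0
import Cfsg.Agent.Lib.Helper53.SUOE3
import Cfsg.Agent.Lib.Helper66.SUOE2

/-!
# SUO piece E4 (S2282): if `e0` is a full centre and some `t ∈ Hs` moves it off `e0^⊥`, then every
isotropic vector is a full centre.
-/

set_option autoImplicit false
set_option linter.unusedSectionVars false
set_option linter.unusedVariables false
set_option quotPrecheck false

namespace Cfsg.Agent.Helper66.SUO

open Matrix Cfsg Cfsg.Agent.Helper13 Cfsg.Agent.Helper87.PsuA Cfsg.Agent.Helper62.SUO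

section E
variable {F : Type*} [Field F] [Fintype F] {q n : ℕ} (hF : Fintype.card F = q ^ 2)
  {Hs : Subgroup ↥(Cfsg.SU n F q)}

local notation "V" => Fin n → F
local notation "G" => ↥(Cfsg.SU n F q)
local notation "H" => Cfsg.hermForm n F q

include hF

theorem h66_H_ne_symm {x y : V} (h : H x y ≠ 0) : H y x ≠ 0 := fun h0 =>
  h (H_symm_zero hF h0)

/-- (E4) E2c twice, E3 -/
theorem WW_all {e0 : V} (he : e0 ∈ WW hF Hs) {t : G} (ht : t ∈ Hs)
    (hte : H (actv t e0) e0 ≠ 0) : ∀ v : V, v ≠ 0 → H v v = 0 → v ∈ WW hF Hs := by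
  have he1 : actv t e0 ∈ WW hF Hs := WW_act hF he ht
  have he0 : e0 ≠ 0 := by
    rintro rfl
    rw [H_zero_right hF] at hte
    exact hte rfl
  -- vectors not orthogonal to `e0`
  have hcase1 : ∀ v : V, H v v = 0 → H v e0 ≠ 0 → v ∈ WW hF Hs := fun v hvv hve =>
    WW_step hF he he1 hvv hte hve
  intro v hv hvv
  by_cases hve : H v e0 = 0
  · have hev : H e0 v = 0 := H_symm_zero hF hve
    obtain ⟨v', hv'v', hv'e, hv'v⟩ := Cfsg.Agent.Helper53.SUO.exists_opp hF he0 hv he.1 hev
    have hv'W : v' ∈ WW hF Hs := hcase1 v' hv'v' hv'e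
    exact WW_step hF hv'W he hvv (h66_H_ne_symm hF hv'e) (h66_H_ne_symm hF hv'v)
  · exact hcase1 v hvv hve

end E

end Cfsg.Agent.Helper66.SUO
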