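import Mathlib.GroupTheory.SpecificGroups.Quaternion
import Mathlib.GroupTheory.Index
import Mathlib.Algebra.CharP.Two
import Mathlib.GroupTheory.QuotientGroup.Basic
import Mathlib.GroupTheory.PGroup
import Mathlib.GroupTheory.Sylow
import Mathlib.GroupTheory.SpecificGroups.Cyclic
import Cfsg.Agent.S0016
import Cfsg.Agent.Lib.Helper76.OrderP4

set_option autoImplicit false

namespace Cfsg.Agent.Helper66


section Quat
open QuaternionGroup

/-- The parity homomorphism on a quaternion group `Q_{4m}` with `m` even. -/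
def quatParity (m : ℕ) (hm : 2 ∣ m) : QuaternionGroup m →* Multiplicative (ZMod 2) where
  toFun g := match g with
    | a i => Multiplicative.ofAdd (ZMod.castHom (dvd_mul_right 2 m) (ZMod 2) i)
    | xa i => Multiplicative.ofAdd (ZMod.castHom (dvd_mul_right 2 m) (ZMod 2) i)
  map_one' := by
    rw [one_def]
    simp
  map_mul' := by
    have hm0 : ((m : ℕ) : ZMod 2) = 0 := (ZMod.natCast_eq_zero_iff m 2).mpr hm
    rintro (i | i) (j | j)
    · simp only [a_mul_a, map_add, ofAdd_add]
    · simp only [a_mul_xa, map_sub, CharTwo.sub_eq_add, ofAdd_add, mul_comm]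
    · simp only [xa_mul_a, map_add, ofAdd_add]
    · simp only [xa_mul_xa, map_add, map_sub, map_natCast, hm0, zero_add, CharTwo.sub_eq_add,
        ofAdd_add, mul_comm]

theorem quatParity_a (m : ℕ) (hm : 2 ∣ m) (i : ZMod (2 * m)) :
    quatParity m hm (a i) = Multiplicative.ofAdd (ZMod.castHom (dvd_mul_right 2 m) (ZMod 2) i) := rfl

theorem quatParity_xa (m : ℕ) (hm : 2 ∣ m) (i : ZMod (2 * m)) :
    quatParity m hm (xa i) = Multiplicative.ofAdd (ZMod.castHom (dvd_mul_right 2 m) (ZMod 2) i) := rfl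

/-- A quaternion group `Q_{4m}` with `m` even and `m ≥ 3` has a commutative and a
noncommutative subgroup of the same order. -/
theorem quaternion_two_subgroups (m : ℕ) [NeZero m] (hm : 2 ∣ m) (hm3 : 3 ≤ m) :
    ∃ A B : Subgroup (QuaternionGroup m), Nat.card A = Nat.card B ∧
      (∀ x ∈ A, ∀ y ∈ A, x * y = y * x) ∧ ¬ (∀ x ∈ B, ∀ y ∈ B, x * y = y * x) := by
  refine ⟨Subgroup.zpowers (a 1), (quatParity m hm).ker, ?_, ?_, ?_⟩
  · rw [Nat.card_zpowers, orderOf_a_one]
    have hsurj : Function.Surjective (quatParity m hm) := by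
      intro z
      obtain ⟨z, rfl⟩ := Multiplicative.ofAdd.surjective z
      refine ⟨a (z.val : ZMod (2 * m)), ?_⟩
      rw [quatParity_a]
      congr 1
      simp
    have h1 : (quatParity m hm).ker.index = 2 := by
      rw [Subgroup.index_ker, MonoidHom.range_eq_top.mpr hsurj, Subgroup.card_top]
      simp
    have h2 := (quatParity m hm).ker.card_mul_index
    rw [h1, Nat.card_eq_fintype_card (α := QuaternionGroup m), QuaternionGroup.card] at h2
    omega
  · intro x hx y hy
    obtain ⟨k, rfl⟩ := Subgroup.mem_zpowers_iff.mp hx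
    obtain ⟨l, rfl⟩ := Subgroup.mem_zpowers_iff.mp hy
    exact (Commute.zpow_zpow_self _ k l).eq
  · intro h
    have h1 : a (2 : ZMod (2 * m)) ∈ (quatParity m hm).ker := by
      rw [MonoidHom.mem_ker, quatParity_a]
      have : (ZMod.castHom (dvd_mul_right 2 m) (ZMod 2)) (2 : ZMod (2 * m)) = 0 := by
        rw [map_ofNat]
        decide
      rw [this]
      rfl
    have h2 : xa (0 : ZMod (2 * m)) ∈ (quatParity m hm).ker := by
      rw [MonoidHom.mem_ker, quatParity_xa, map_zero]
      rfl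
    have h3 := h _ h1 _ h2
    rw [a_mul_xa, xa_mul_a] at h3
    have h4 : (0 : ZMod (2 * m)) - 2 = 0 + 2 := by
      injection h3
    have h5 : ((4 : ℕ) : ZMod (2 * m)) = 0 := by
      have : (4 : ZMod (2 * m)) = (0 + 2) - (0 - 2) := by ring
      rw [← h4, sub_self] at this
      exact_mod_cast this
    rw [ZMod.natCast_eq_zero_iff] at h5
    have := Nat.le_of_dvd (by norm_num) h5
    omega

end Quat

/-- `|HK|` divides `|H| |K|` when `K` is normal. -/
theorem card_sup_dvd_of_normal {G : Type*} [Group G] [Finite G] (H K : Subgroup G) [K.Normal] :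
    Nat.card (H ⊔ K : Subgroup G) ∣ Nat.card H * Nat.card K := by
  have h1 : K.relIndex (H ⊔ K) = K.relIndex H := Subgroup.relIndex_sup_right H K
  have h2 : K.relIndex (H ⊔ K) * (H ⊔ K).index = K.index := Subgroup.relIndex_mul_index le_sup_right
  have h3 := K.card_mul_index
  have h4 := (H ⊔ K).card_mul_index
  have hpos : 0 < (H ⊔ K).index := Nat.pos_of_ne_zero Subgroup.index_ne_zero_of_finite
  have h5 : Nat.card (H ⊔ K : Subgroup G) = Nat.card K * K.relIndex H := by
    apply Nat.eq_of_mul_eq_mul_right hpos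
    rw [h4, mul_assoc, ← h1, h2, h3]
  rw [h5, mul_comm]
  exact Nat.mul_dvd_mul (Subgroup.relIndex_dvd_card K H) dvd_rfl

/-- A group generated by two commuting elements of orders dividing `n` has order dividing
`n ^ 2`. -/
theorem card_dvd_sq_of_two_gen_comm {R : Type*} [Group R] [Finite R] (n : ℕ) (x y : R)
    (hgen : Subgroup.closure ({x, y} : Set R) = ⊤) (hxy : x * y = y * x)
    (hx : x ^ n = 1) (hy : y ^ n = 1) : Nat.card R ∣ n ^ 2 := by
  have hnorm : (Subgroup.zpowers y).Normal := by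
    rw [← Subgroup.normalizer_eq_top_iff, eq_top_iff, ← hgen, Subgroup.closure_le]
    have hcent : ∀ z : R, z * y = y * z → z ∈ Subgroup.normalizer ((Subgroup.zpowers y : Subgroup R) : Set R) := by
      intro z hz
      apply Subgroup.centralizer_le_normalizer
      rw [Subgroup.mem_centralizer_iff]
      intro w hw
      obtain ⟨k, rfl⟩ := Subgroup.mem_zpowers_iff.mp hw
      exact ((Commute.zpow_left (show Commute y z from hz.symm) k)).eq
    intro z hz
    rcases hz with rfl | rfl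
    · exact hcent _ hxy
    · exact hcent _ rfl
  have htop : (Subgroup.zpowers x ⊔ Subgroup.zpowers y : Subgroup R) = ⊤ := by
    rw [eq_top_iff, ← hgen, Subgroup.closure_le]
    intro z hz
    rcases hz with rfl | rfl
    · exact Subgroup.mem_sup_left (Subgroup.mem_zpowers _)
    · exact Subgroup.mem_sup_right (Subgroup.mem_zpowers _)
  have h1 := card_sup_dvd_of_normal (Subgroup.zpowers x) (Subgroup.zpowers y)
  rw [htop, Subgroup.card_top, Nat.card_zpowers, Nat.card_zpowers] at h1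
  rw [sq]
  exact h1.trans (Nat.mul_dvd_mul (orderOf_dvd_of_pow_eq_one hx) (orderOf_dvd_of_pow_eq_one hy))

/-- A group generated by `x, y` of orders dividing `n` whose commutator is central of order
dividing `n` has order dividing `n ^ 3`. -/
theorem card_dvd_cube_of_two_gen {M : Type*} [Group M] [Finite M] (n : ℕ) (x y : M)
    (hgen : Subgroup.closure ({x, y} : Set M) = ⊤)
    (hc : x * y * x⁻¹ * y⁻¹ ∈ Subgroup.center M)
    (hx : x ^ n = 1) (hy : y ^ n = 1) (hcn : (x * y * x⁻¹ * y⁻¹) ^ n = 1) :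
    Nat.card M ∣ n ^ 3 := by
  obtain ⟨c, hcdef⟩ : ∃ c : M, c = x * y * x⁻¹ * y⁻¹ := ⟨_, rfl⟩
  rw [← hcdef] at hc hcn
  have hZle : Subgroup.zpowers c ≤ Subgroup.center M := by
    rw [Subgroup.zpowers_le]; exact hc
  have hZn : (Subgroup.zpowers c).Normal := by
    refine ⟨fun z hz g => ?_⟩
    have := Subgroup.mem_center_iff.mp (hZle hz) g
    have h2 : g * z * g⁻¹ = z := by rw [this, mul_inv_cancel_right]
    rw [h2]; exact hz
  have hcardZ : Nat.card (Subgroup.zpowers c) ∣ n := by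
    rw [Nat.card_zpowers]; exact orderOf_dvd_of_pow_eq_one hcn
  have hquot : Nat.card (M ⧸ Subgroup.zpowers c) ∣ n ^ 2 := by
    apply card_dvd_sq_of_two_gen_comm n (QuotientGroup.mk' _ x) (QuotientGroup.mk' _ y)
    · have h1 : Subgroup.map (QuotientGroup.mk' (Subgroup.zpowers c)) (Subgroup.closure {x, y}) = ⊤ := by
        rw [hgen, ← MonoidHom.range_eq_map, MonoidHom.range_eq_top]
        exact QuotientGroup.mk'_surjective _
      rw [MonoidHom.map_closure, Set.image_pair] at h1
      exact h1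
    · have h1 : (QuotientGroup.mk' (Subgroup.zpowers c)) (x * y * x⁻¹ * y⁻¹) = 1 := by
        rw [QuotientGroup.mk'_apply, QuotientGroup.eq_one_iff, ← hcdef]
        exact Subgroup.mem_zpowers c
      rw [map_mul, map_mul, map_mul, map_inv, map_inv] at h1
      calc (QuotientGroup.mk' _ x) * (QuotientGroup.mk' _ y)
          = ((QuotientGroup.mk' _ x) * (QuotientGroup.mk' _ y) * (QuotientGroup.mk' _ x)⁻¹ *
              (QuotientGroup.mk' _ y)⁻¹) * ((QuotientGroup.mk' _ y) * (QuotientGroup.mk' _ x)) := by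
            group
        _ = (QuotientGroup.mk' _ y) * (QuotientGroup.mk' _ x) := by rw [h1, one_mul]
    · rw [← map_pow, hx, map_one]
    · rw [← map_pow, hy, map_one]
  have h1 := (Subgroup.zpowers c).card_mul_index
  rw [← h1, pow_succ, mul_comm]
  exact Nat.mul_dvd_mul hquot hcardZ


/-- Commutativity passes along an isomorphism of subgroups. -/
theorem comm_of_mulEquiv {Q : Type*} [Group Q] (A B : Subgroup Q) (f : A ≃* B)
    (hA : ∀ x ∈ A, ∀ y ∈ A, x * y = y * x) : ∀ x ∈ B, ∀ y ∈ B, x * y = y * x := by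
  intro x hx y hy
  have h1 : f.symm ⟨x, hx⟩ * f.symm ⟨y, hy⟩ = f.symm ⟨y, hy⟩ * f.symm ⟨x, hx⟩ :=
    Subtype.ext (hA _ (f.symm ⟨x, hx⟩).2 _ (f.symm ⟨y, hy⟩).2)
  rw [← map_mul, ← map_mul] at h1
  have h2 := f.symm.injective h1
  exact congrArg Subtype.val h2

/-- A `2`-group in which subgroups of equal order are isomorphic cannot be a generalized
quaternion group of order at least `16`. -/
theorem not_iso_quaternion {Q : Type*} [Group Q] [Finite Q]
    (hiso : ∀ A B : Subgroup Q, Nat.card A = Nat.card B → Nonempty (A ≃* B)) (n : ℕ)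
    (e : Q ≃* QuaternionGroup (2 ^ (n + 2))) : False := by
  have hne : NeZero (2 ^ (n + 2)) := ⟨pow_ne_zero _ (by norm_num)⟩
  have h2 : 2 ∣ 2 ^ (n + 2) := dvd_pow_self 2 (by omega)
  have h3 : 3 ≤ 2 ^ (n + 2) := by
    have : 2 ^ 2 ≤ 2 ^ (n + 2) := Nat.pow_le_pow_right (by norm_num) (by omega)
    omega
  obtain ⟨A', B', hcard, hA', hB'⟩ := quaternion_two_subgroups (2 ^ (n + 2)) h2 h3
  obtain ⟨f⟩ := hiso (A'.map e.symm.toMonoidHom) (B'.map e.symm.toMonoidHom) (by
    rw [Subgroup.card_map_of_injective e.symm.injective,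
      Subgroup.card_map_of_injective e.symm.injective, hcard])
  apply hB'
  have hA : ∀ x ∈ A'.map e.symm.toMonoidHom, ∀ y ∈ A'.map e.symm.toMonoidHom, x * y = y * x := by
    rintro _ ⟨x, hx, rfl⟩ _ ⟨y, hy, rfl⟩
    show e.symm x * e.symm y = e.symm y * e.symm x
    rw [← map_mul, ← map_mul, hA' x hx y hy]
  have hB := comm_of_mulEquiv _ _ f hA
  intro x hx y hy
  have h4 := hB (e.symm x) ⟨x, hx, rfl⟩ (e.symm y) ⟨y, hy, rfl⟩
  rw [← map_mul, ← map_mul] at h4
  exact e.symm.injective h4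


/-- A `p`-group with two distinct subgroups of order `p` contains a subgroup of order `p²`
and exponent `p`. -/
theorem exists_exponent_p_sq {Q : Type*} [Group Q] [Finite Q] (p : ℕ) [Fact p.Prime]
    (hQ : IsPGroup p Q) (H K : Subgroup Q) (hH : Nat.card H = p) (hK : Nat.card K = p)
    (hHK : H ≠ K) : ∃ E : Subgroup Q, Nat.card E = p ^ 2 ∧ ∀ e ∈ E, e ^ p = 1 := by
  have hpp : p.Prime := Fact.out
  have hnt : Nontrivial Q := by
    have h1 : 1 < Nat.card H := by rw [hH]; exact hpp.one_lt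
    have h2 : Nat.card H ≤ Nat.card Q := Subgroup.card_le_card_group H
    exact Finite.one_lt_card_iff_nontrivial.mp (lt_of_lt_of_le h1 h2)
  have hcn : Nontrivial (Subgroup.center Q) := hQ.center_nontrivial
  have hdvd : p ∣ Nat.card (Subgroup.center Q) := by
    rcases (hQ.to_subgroup (Subgroup.center Q)).card_eq_or_dvd with h | h
    · have := Finite.one_lt_card_iff_nontrivial.mpr hcn
      omega
    · exact h
  obtain ⟨z, hz⟩ := exists_prime_orderOf_dvd_card' p hdvd
  have hz₀ : orderOf (z : Q) = p := by rw [Subgroup.orderOf_coe]; exact hz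
  have hZle : Subgroup.zpowers (z : Q) ≤ Subgroup.center Q := by
    rw [Subgroup.zpowers_le]; exact z.2
  have hZn : (Subgroup.zpowers (z : Q)).Normal := by
    refine ⟨fun w hw g => ?_⟩
    have := Subgroup.mem_center_iff.mp (hZle hw) g
    have h2 : g * w * g⁻¹ = w := by rw [this, mul_inv_cancel_right]
    rw [h2]; exact hw
  have hZcard : Nat.card (Subgroup.zpowers (z : Q)) = p := by rw [Nat.card_zpowers, hz₀]
  obtain ⟨H₁, hH₁, hH₁ne⟩ : ∃ H₁ : Subgroup Q, Nat.card H₁ = p ∧ H₁ ≠ Subgroup.zpowers (z : Q) := by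
    by_cases h : H = Subgroup.zpowers (z : Q)
    · exact ⟨K, hK, fun h' => hHK (h.trans h'.symm)⟩
    · exact ⟨H, hH, h⟩
  refine ⟨H₁ ⊔ Subgroup.zpowers (z : Q), ?_, ?_⟩
  · have h1 := card_sup_dvd_of_normal H₁ (Subgroup.zpowers (z : Q))
    rw [hH₁, hZcard, ← sq] at h1
    obtain ⟨j, hj, hj2⟩ := (Nat.dvd_prime_pow hpp).mp h1
    have hle1 : H₁ ≤ H₁ ⊔ Subgroup.zpowers (z : Q) := le_sup_left
    have hle2 : Subgroup.zpowers (z : Q) ≤ H₁ ⊔ Subgroup.zpowers (z : Q) := le_sup_right
    have hj1 : j ≠ 0 := by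
      rintro rfl
      have h3 := Subgroup.card_le_of_le hle1
      rw [hj2, hH₁, pow_zero] at h3
      have := hpp.one_lt
      omega
    have hj1' : j ≠ 1 := by
      rintro rfl
      rw [pow_one] at hj2
      have e1 : H₁ = H₁ ⊔ Subgroup.zpowers (z : Q) :=
        Subgroup.eq_of_le_of_card_ge hle1 (by rw [hj2, hH₁])
      have e2 : Subgroup.zpowers (z : Q) = H₁ ⊔ Subgroup.zpowers (z : Q) :=
        Subgroup.eq_of_le_of_card_ge hle2 (by rw [hj2, hZcard])
      exact hH₁ne (e1.trans e2.symm)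
    have hj2' : j = 2 := by omega
    rw [hj2, hj2']
  · intro e he
    obtain ⟨h, hh, w, hw, rfl⟩ := Subgroup.mem_sup_of_normal_right.mp he
    have hcomm : Commute h w := (Subgroup.mem_center_iff.mp (hZle hw) h)
    rw [hcomm.mul_pow]
    have h1 : h ^ p = 1 := by
      have : (⟨h, hh⟩ : H₁) ^ Nat.card H₁ = 1 := pow_card_eq_one'
      rw [hH₁] at this
      exact congrArg Subtype.val this
    have h2 : w ^ p = 1 := by
      have : (⟨w, hw⟩ : Subgroup.zpowers (z : Q)) ^ Nat.card (Subgroup.zpowers (z : Q)) = 1 :=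
        pow_card_eq_one'
      rw [hZcard] at this
      exact congrArg Subtype.val this
    rw [h1, h2, one_mul]

/-- If subgroups of equal order are isomorphic and some subgroup of order `p²` has exponent `p`,
the whole `p`-group has exponent `p`. -/
theorem pow_eq_one_of_iso {Q : Type*} [Group Q] [Finite Q] (p : ℕ) [Fact p.Prime]
    (hQ : IsPGroup p Q)
    (hiso : ∀ A B : Subgroup Q, Nat.card A = Nat.card B → Nonempty (A ≃* B))
    (E : Subgroup Q) (hE : Nat.card E = p ^ 2) (hEp : ∀ e ∈ E, e ^ p = 1) (x : Q) : x ^ p = 1 := by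
  have hpp : p.Prime := Fact.out
  by_contra hx
  obtain ⟨j, hj⟩ := IsPGroup.iff_orderOf.mp hQ x
  have hj2 : 2 ≤ j := by
    by_contra hlt
    apply hx
    have : j = 0 ∨ j = 1 := by omega
    rcases this with rfl | rfl
    · rw [pow_zero, orderOf_eq_one_iff] at hj
      rw [hj, one_pow]
    · rw [pow_one] at hj
      rw [← hj, pow_orderOf_eq_one]
  obtain ⟨w, hw⟩ : ∃ w : Q, w = x ^ (p ^ (j - 2)) := ⟨_, rfl⟩
  have hwo : orderOf w = p ^ 2 := by
    rw [hw, orderOf_pow_of_dvd (pow_ne_zero _ hpp.ne_zero) (by rw [hj]; exact pow_dvd_pow p (by omega)),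
      hj]
    rw [Nat.pow_div (by omega) hpp.pos]
    congr 1
    omega
  obtain ⟨f⟩ := hiso (Subgroup.zpowers w) E (by rw [Nat.card_zpowers, hwo, hE])
  have h1 : (f ⟨w, Subgroup.mem_zpowers w⟩ : Q) ^ p = 1 := hEp _ (f ⟨w, Subgroup.mem_zpowers w⟩).2
  have h2 : f (⟨w, Subgroup.mem_zpowers w⟩ ^ p) = 1 := by
    rw [map_pow]
    exact Subtype.ext h1
  have h3 : (⟨w, Subgroup.mem_zpowers w⟩ : Subgroup.zpowers w) ^ p = 1 := by
    have := f.injective (h2.trans (map_one f).symm)
    exact this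
  have h4 : w ^ p = 1 := congrArg Subtype.val h3
  have h5 := orderOf_dvd_of_pow_eq_one h4
  rw [hwo] at h5
  have h6 := Nat.le_of_dvd hpp.pos h5
  have := hpp.one_lt
  nlinarith


/-- The subgroup generated by `x, y` of orders dividing `n` whose commutator is central of order
dividing `n` has order dividing `n ^ 3`. -/
theorem card_closure_pair_dvd_cube {Q : Type*} [Group Q] [Finite Q] (n : ℕ) (x y : Q)
    (hc : x * y * x⁻¹ * y⁻¹ ∈ Subgroup.center Q)
    (hx : x ^ n = 1) (hy : y ^ n = 1) (hcn : (x * y * x⁻¹ * y⁻¹) ^ n = 1) :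
    Nat.card (Subgroup.closure ({x, y} : Set Q)) ∣ n ^ 3 := by
  obtain ⟨M, hM⟩ : ∃ M : Subgroup Q, M = Subgroup.closure ({x, y} : Set Q) := ⟨_, rfl⟩
  have hxM : x ∈ M := by rw [hM]; exact Subgroup.subset_closure (by simp)
  have hyM : y ∈ M := by rw [hM]; exact Subgroup.subset_closure (by simp)
  have hgen : Subgroup.closure ({⟨x, hxM⟩, ⟨y, hyM⟩} : Set M) = ⊤ := by
    have h2 : ((↑) : M → Q) ⁻¹' ({x, y} : Set Q) = {⟨x, hxM⟩, ⟨y, hyM⟩} := by
      ext w
      simp [Subtype.ext_iff]
    rw [← h2]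
    subst hM
    exact Subgroup.closure_closure_coe_preimage
  rw [← hM]
  refine card_dvd_cube_of_two_gen (M := M) n ⟨x, hxM⟩ ⟨y, hyM⟩ hgen ?_ ?_ ?_ ?_
  · rw [Subgroup.mem_center_iff]
    intro g
    apply Subtype.ext
    exact Subgroup.mem_center_iff.mp hc g
  · exact Subtype.ext hx
  · exact Subtype.ext hy
  · exact Subtype.ext hcn

/-- A `p`-group of order at least `p⁴` has a commutative subgroup of order `p³`. -/
theorem exists_comm_subgroup_card_cube {Q : Type*} [Group Q] [Finite Q] (p : ℕ) [Fact p.Prime]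
    (h4 : p ^ 4 ∣ Nat.card Q) :
    ∃ A₀ : Subgroup Q, Nat.card A₀ = p ^ 3 ∧ ∀ x ∈ A₀, ∀ y ∈ A₀, x * y = y * x := by
  have hpp : p.Prime := Fact.out
  obtain ⟨Q₄, hQ₄⟩ := Sylow.exists_subgroup_card_pow_prime p h4
  by_cases hc : IsMulCommutative Q₄
  · obtain ⟨K, hK⟩ := Sylow.exists_subgroup_card_pow_prime (G := Q₄) p (n := 3)
      (by rw [hQ₄]; exact pow_dvd_pow p (by norm_num))
    refine ⟨K.map Q₄.subtype, ?_, ?_⟩
    · rw [Subgroup.card_map_of_injective Q₄.subtype_injective, hK]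
    · rintro _ ⟨x, _, rfl⟩ _ ⟨y, _, rfl⟩
      exact congrArg Subtype.val (hc.is_comm.comm x y)
  · obtain ⟨A, hAidx, hA⟩ := Cfsg.Agent.Helper76.exists_abelian_index_p p hQ₄ hc
    refine ⟨A.map Q₄.subtype, ?_, ?_⟩
    · rw [Subgroup.card_map_of_injective Q₄.subtype_injective]
      have h1 := A.card_mul_index
      rw [hAidx, hQ₄] at h1
      have h2 : p ^ 4 = p ^ 3 * p := by ring
      rw [h2] at h1
      exact Nat.eq_of_mul_eq_mul_right hpp.pos h1
    · rintro _ ⟨x, hx, rfl⟩ _ ⟨y, hy, rfl⟩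
      exact congrArg Subtype.val (hA x hx y hy)

/-- A noncommutative `p`-group of exponent `p` has a noncommutative subgroup of order `p³`. -/
theorem exists_noncomm_subgroup_card_cube {Q : Type*} [Group Q] [Finite Q] (p : ℕ)
    [Fact p.Prime] (hQ : IsPGroup p Q) (hexp : ∀ x : Q, x ^ p = 1)
    (hnc : ¬ ∀ a b : Q, a * b = b * a) :
    ∃ M : Subgroup Q, Nat.card M = p ^ 3 ∧ ¬ ∀ x ∈ M, ∀ y ∈ M, x * y = y * x := by
  have hpp : p.Prime := Fact.out
  have hZ : Subgroup.center Q ≠ ⊤ := by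
    intro h
    apply hnc
    intro a b
    have : b ∈ Subgroup.center Q := by rw [h]; trivial
    exact Subgroup.mem_center_iff.mp this a
  have hnt : Nontrivial (Q ⧸ Subgroup.center Q) := by
    apply Finite.one_lt_card_iff_nontrivial.mp
    have h1 : (Subgroup.center Q).index ≠ 1 := fun h => hZ (Subgroup.index_eq_one.mp h)
    have h2 : (Subgroup.center Q).index ≠ 0 := Subgroup.index_ne_zero_of_finite
    have h3 : Nat.card (Q ⧸ Subgroup.center Q) = (Subgroup.center Q).index := rfl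
    omega
  have hQZ : IsPGroup p (Q ⧸ Subgroup.center Q) := hQ.to_quotient _
  have hcn : Nontrivial (Subgroup.center (Q ⧸ Subgroup.center Q)) := hQZ.center_nontrivial
  obtain ⟨⟨ybar, hybar⟩, hne⟩ := exists_ne (1 : Subgroup.center (Q ⧸ Subgroup.center Q))
  obtain ⟨y, rfl⟩ := QuotientGroup.mk_surjective ybar
  have hyZ : y ∉ Subgroup.center Q := by
    intro hy
    apply hne
    apply Subtype.ext
    exact (QuotientGroup.eq_one_iff y).mpr hy
  obtain ⟨x, hxy⟩ : ∃ x : Q, x * y ≠ y * x := by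
    by_contra hall
    apply hyZ
    rw [Subgroup.mem_center_iff]
    intro g
    by_contra hg
    exact hall ⟨g, hg⟩
  have hcZ : x * y * x⁻¹ * y⁻¹ ∈ Subgroup.center Q := by
    rw [← QuotientGroup.eq_one_iff]
    have h1 := Subgroup.mem_center_iff.mp hybar (QuotientGroup.mk x)
    rw [QuotientGroup.mk_mul, QuotientGroup.mk_mul, QuotientGroup.mk_mul, QuotientGroup.mk_inv,
      QuotientGroup.mk_inv, h1]
    group
  have hxM : x ∈ Subgroup.closure ({x, y} : Set Q) := Subgroup.subset_closure (by simp)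
  have hyM : y ∈ Subgroup.closure ({x, y} : Set Q) := Subgroup.subset_closure (by simp)
  have hcard : Nat.card (Subgroup.closure ({x, y} : Set Q)) ∣ p ^ 3 :=
    card_closure_pair_dvd_cube p x y hcZ (hexp x) (hexp y) (hexp _)
  have hncM : ¬ ∀ a ∈ Subgroup.closure ({x, y} : Set Q), ∀ b ∈ Subgroup.closure ({x, y} : Set Q),
      a * b = b * a := fun h => hxy (h x hxM y hyM)
  refine ⟨Subgroup.closure ({x, y} : Set Q), ?_, hncM⟩
  obtain ⟨j, hj, hj2⟩ := (Nat.dvd_prime_pow hpp).mp hcard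
  have hj3 : j = 3 := by
    by_contra hne3
    have hj' : j ≤ 2 := by omega
    have h1 : Nat.card (Subgroup.closure ({x, y} : Set Q)) ∣ p ^ 2 := by
      rw [hj2]; exact pow_dvd_pow p hj'
    have h2 := Cfsg.Agent.Helper76.isMulCommutative_of_card_dvd_prime_sq p h1
    apply hncM
    intro a ha b hb
    exact congrArg Subtype.val (h2.is_comm.comm ⟨a, ha⟩ ⟨b, hb⟩)
  rw [hj2, hj3]


/-- Structure of a finite `p`-group in which any two subgroups of the same order are
isomorphic. -/
theorem structure_of_iso_same_card {Q : Type*} [Group Q] [Finite Q] (p : ℕ) [Fact p.Prime]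
    (hQ : IsPGroup p Q)
    (hiso : ∀ A B : Subgroup Q, Nat.card A = Nat.card B → Nonempty (A ≃* B)) :
    IsCyclic Q ∨ ((∀ a b : Q, a * b = b * a) ∧ ∀ a : Q, a ^ p = 1) ∨
      (p = 2 ∧ Nonempty (Q ≃* QuaternionGroup 2)) ∨
      (p ≠ 2 ∧ ¬ (∀ a b : Q, a * b = b * a) ∧ Nat.card Q = p ^ 3 ∧ ∀ a : Q, a ^ p = 1) := by
  have hpp : p.Prime := Fact.out
  by_cases huniq : ∀ H K : Subgroup Q, Nat.card H = p → Nat.card K = p → H = K
  · rcases Cfsg.Agent.S0016.result p hQ huniq with h | ⟨hp2, n, ⟨e⟩⟩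
    · exact Or.inl h
    · rcases n with _ | _ | n
      · left
        have h1 : IsCyclic (QuaternionGroup 1) := QuaternionGroup.quaternionGroup_one_isCyclic
        exact (MulEquiv.isCyclic e).mpr h1
      · right; right; left
        exact ⟨hp2, ⟨e⟩⟩
      · exact (not_iso_quaternion hiso n e).elim
  · have hex : ∃ H K : Subgroup Q, Nat.card H = p ∧ Nat.card K = p ∧ H ≠ K := by
      by_contra hno
      apply huniq
      intro H K hH hK
      by_contra hne
      exact hno ⟨H, K, hH, hK, hne⟩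
    obtain ⟨H, K, hH, hK, hHK⟩ := hex
    obtain ⟨E, hE, hEp⟩ := exists_exponent_p_sq p hQ H K hH hK hHK
    have hexp : ∀ x : Q, x ^ p = 1 := pow_eq_one_of_iso p hQ hiso E hE hEp
    by_cases hcomm : ∀ a b : Q, a * b = b * a
    · exact Or.inr (Or.inl ⟨hcomm, hexp⟩)
    · right; right; right
      have hp2 : p ≠ 2 := by
        intro hp2
        apply hcomm
        intro a b
        have hinv : ∀ z : Q, z⁻¹ = z := by
          intro z
          rw [inv_eq_iff_mul_eq_one, ← sq, ← hp2]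
          exact hexp z
        calc a * b = (a * b)⁻¹ := (hinv _).symm
          _ = b⁻¹ * a⁻¹ := mul_inv_rev a b
          _ = b * a := by rw [hinv a, hinv b]
      obtain ⟨k, hk⟩ := IsPGroup.iff_card.mp hQ
      have hk3 : 3 ≤ k := by
        by_contra hlt
        have h1 : Nat.card Q ∣ p ^ 2 := by rw [hk]; exact pow_dvd_pow p (by omega)
        have h2 := Cfsg.Agent.Helper76.isMulCommutative_of_card_dvd_prime_sq p h1
        exact hcomm (fun a b => h2.is_comm.comm a b)
      refine ⟨hp2, hcomm, ?_, hexp⟩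
      by_contra hne
      have hk4 : 4 ≤ k := by
        by_contra hlt
        have : k = 3 := by omega
        rw [this] at hk
        exact hne hk
      have h4 : p ^ 4 ∣ Nat.card Q := by rw [hk]; exact pow_dvd_pow p hk4
      obtain ⟨A₀, hA₀, hA₀c⟩ := exists_comm_subgroup_card_cube p h4
      obtain ⟨M, hM, hMnc⟩ := exists_noncomm_subgroup_card_cube p hQ hexp hcomm
      obtain ⟨f⟩ := hiso A₀ M (by rw [hA₀, hM])
      exact hMnc (comm_of_mulEquiv A₀ M f hA₀c)

end Cfsg.Agent.Helper66
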