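import Mathlib
import Cfsg.Agent.Lib.Helper43.Tri.Rel

/-!
# TRI server (helper43, S0817), piece (UNIQ): `rel_unique`

The second component of a related triple is determined by the first up to a scalar.
-/

set_option autoImplicit false

namespace Cfsg.Agent.Helper66.Tri

open Matrix QuadraticMap Cfsg.Agent.Helper13 Cfsg.Agent.Helper43 Cfsg.Agent.Helper5.OAut Module
open Cfsg.Agent.Helper43.Tri

variable {F : Type*} [Field F]

/-- core of (UNIQ): a related triple `(1, h₁, h₂)` has `h₁` a scalar. -/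
theorem uniq_core
    (hnuc : ∀ c : OV F, (∀ x y : OV F, omul (omul x c) y = omul x (omul c y)) → ∃ l : F, c = l • oone)
    {h₁ h₂ : O8 F} (hrel : Rel (1 : O8 F) h₁ h₂) :
    ∃ l : F, ∀ x : OV F, h₁ • x = l • x := by
  have hxy : ∀ x y : OV F, omul x y = omul (h₁ • x) (h₂ • y) := by
    intro x y
    have := hrel x y
    rwa [one_smul] at this
  have hN1 : stdPlus F 4 (h₁ • (oone : OV F)) = 1 :=
    (O_Q_smul (stdPlus F 4) h₁ (oone : OV F)).trans N_oone
  have hN2 : stdPlus F 4 (h₂ • (oone : OV F)) = 1 :=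
    (O_Q_smul (stdPlus F 4) h₂ (oone : OV F)).trans N_oone
  -- `y = c₁ h₂(y)`
  have e1 : ∀ y : OV F, y = omul (h₁ • (oone : OV F)) (h₂ • y) := by
    intro y
    have := hxy oone y
    rwa [oone_omul] at this
  -- `x = h₁(x) c₂`
  have e2 : ∀ x : OV F, x = omul (h₁ • x) (h₂ • (oone : OV F)) := by
    intro x
    have := hxy x oone
    rwa [omul_oone] at this
  -- `h₂ y = c̄₁ y`
  have e3 : ∀ y : OV F, h₂ • y = omul (oconj (h₁ • (oone : OV F))) y := by
    intro y
    have := oconj_omul_omul (h₁ • (oone : OV F)) (h₂ • y)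
    rw [← e1 y, hN1, one_smul] at this
    exact this.symm
  -- `h₁ x = x c̄₂`
  have e4 : ∀ x : OV F, h₁ • x = omul x (oconj (h₂ • (oone : OV F))) := by
    intro x
    have := omul_omul_oconj (h₂ • (oone : OV F)) (h₁ • x)
    rw [← e2 x, hN2, one_smul] at this
    exact this.symm
  -- `c₁ = c̄₂`
  have e5 : h₁ • (oone : OV F) = oconj (h₂ • (oone : OV F)) := by
    have := e4 oone
    rwa [oone_omul] at this
  -- `d = c₂ = c̄₁` is in the nucleus
  have e6 : oconj (h₁ • (oone : OV F)) = h₂ • (oone : OV F) := by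
    rw [e5, oconj_oconj]
  have hnucd : ∀ x y : OV F, omul (omul x (h₂ • (oone : OV F))) y =
      omul x (omul (h₂ • (oone : OV F)) y) := by
    intro x y
    have := hxy (omul x (h₂ • (oone : OV F))) y
    rw [e4 (omul x (h₂ • (oone : OV F))), omul_omul_oconj, hN2, one_smul, e3 y, e6] at this
    exact this
  obtain ⟨l, hl⟩ := hnuc _ hnucd
  refine ⟨l, fun x => ?_⟩
  rw [e4, hl, oconj_smul, oconj_oone, omul_smul_right, omul_oone]

theorem rel_unique
    (hnuc : ∀ c : OV F, (∀ x y : OV F, omul (omul x c) y = omul x (omul c y)) → ∃ l : F, c = l • oone)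
    {g₀ g₁ g₂ g₁' g₂' : O8 F} (h : Rel g₀ g₁ g₂) (h' : Rel g₀ g₁' g₂') :
    ∃ c : F, ∀ x : OV F, g₁' • x = c • (g₁ • x) := by
  have hrel : Rel (1 : O8 F) (g₁⁻¹ * g₁') (g₂⁻¹ * g₂') := by
    have := h.inv.mul h'
    rwa [inv_mul_cancel] at this
  obtain ⟨l, hl⟩ := uniq_core hnuc hrel
  refine ⟨l, fun x => ?_⟩
  have := hl x
  rw [mul_smul, inv_smul_eq_iff] at this
  exact this.trans (O_smul_smul_comm (stdPlus F 4) g₁ l x)

end Cfsg.Agent.Helper66.Tri
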