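import Mathlib
import Cfsg.Agent.Lib.Helper69.Ito
import Cfsg.Agent.Lib.Helper66.SylowSub

set_option autoImplicit false
set_option linter.style.haveILetI false
set_option linter.unusedSectionVars false

/-!
# Normal subgroups with two `G`-class sizes: basic structure

`N ⊴ G`, every element of `N` has `G`-class size `1` or `m`.
-/

namespace Cfsg.Agent.Helper66.TwoGCS

open Cfsg.Agent.Helper69 Cfsg.Agent.Helper69.Ito

variable {G : Type*} [Group G] [Finite G]

/-- the hypothesis: all `G`-class sizes of elements of `N` are `1` or `m` -/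
def GCS (N : Subgroup G) (m : ℕ) : Prop :=
  ∀ x ∈ N, (cen x).index = 1 ∨ (cen x).index = m

variable {N : Subgroup G} {m : ℕ}

theorem index_eq_of_not_central (h : GCS N m) {x : G} (hx : x ∈ N)
    (hxc : x ∉ Subgroup.center G) : (cen x).index = m := by
  rcases h x hx with h1 | h1
  · exact absurd (cen_eq_top_iff.mp (Subgroup.index_eq_one.mp h1)) hxc
  · exact h1

theorem m_pos (h : GCS N m) {x : G} (hx : x ∈ N) (hxc : x ∉ Subgroup.center G) : 0 < m := by
  rw [← index_eq_of_not_central h hx hxc]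
  exact Nat.pos_of_ne_zero Subgroup.index_ne_zero_of_finite

theorem cen_eq_of_le' (h : GCS N m) {x y : G} (hx : x ∈ N) (hy : y ∈ N)
    (hxc : x ∉ Subgroup.center G) (hyc : y ∉ Subgroup.center G) (hle : cen x ≤ cen y) :
    cen x = cen y := by
  apply le_antisymm hle
  have h1 := Subgroup.relIndex_mul_index hle
  rw [index_eq_of_not_central h hx hxc, index_eq_of_not_central h hy hyc] at h1
  have h2 : (cen x).relIndex (cen y) = 1 :=
    Nat.eq_of_mul_eq_mul_right (m_pos h hx hxc) (by rw [h1, one_mul])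
  exact Subgroup.relIndex_eq_one.mp h2

/-- F1: commuting elements of `N` of coprime orders -/
theorem cen_le_of_coprime' (h : GCS N m) {a b : G} (ha : a ∈ N) (hb : b ∈ N)
    (hac : a ∉ Subgroup.center G) (hc : Commute a b)
    (hco : (orderOf a).Coprime (orderOf b)) : cen a ≤ cen b := by
  obtain ⟨h1, h2⟩ := mem_zpowers_mul_of_coprime hc hco
  have habN : a * b ∈ N := N.mul_mem ha hb
  have habc : a * b ∉ Subgroup.center G := by
    intro hz
    apply hac
    have : Subgroup.zpowers (a * b) ≤ Subgroup.center G := by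
      rw [Subgroup.zpowers_le]; exact hz
    exact this h1
  have e : cen (a * b) = cen a :=
    cen_eq_of_le' h habN ha habc hac (cen_le_of_mem_zpowers h1)
  rw [← e]
  exact cen_le_of_mem_zpowers h2


/-- P3: the centralizer of a noncentral element of `N` contains a noncentral `r`-element of `N` -/
theorem exists_r_elt (h : GCS N m) [N.Normal] (r : ℕ) [Fact r.Prime] (R : Sylow r G)
    (hR : ¬ (R : Subgroup G) ≤ Subgroup.center G) (hRN : (R : Subgroup G) ≤ N)
    {y : G} (hy : y ∈ N) (hyc : y ∉ Subgroup.center G) :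
    ∃ x ∈ cen y ⊓ N, x ∉ Subgroup.center G ∧ ∃ j, orderOf x = r ^ j := by
  have hrp : r.Prime := Fact.out
  obtain ⟨x', hx'R, hx'c⟩ := Set.not_subset.mp hR
  have hx'N : x' ∈ N := hRN hx'R
  have hcard : Nat.card (cen x') = Nat.card (cen y) := by
    have h1 := (cen x').card_mul_index
    have h2 := (cen y).card_mul_index
    rw [index_eq_of_not_central h hx'N hx'c] at h1
    rw [index_eq_of_not_central h hy hyc] at h2
    exact Nat.eq_of_mul_eq_mul_right (m_pos h hy hyc) (h1.trans h2.symm)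
  have hQp : IsPGroup r ↥((R : Subgroup G) ⊓ cen x') := R.isPGroup'.to_le inf_le_left
  obtain ⟨a, ha⟩ := IsPGroup.iff_card.mp hQp
  have hdvd : r ^ a ∣ Nat.card (cen y) := by
    rw [← ha, ← hcard]; exact Subgroup.card_dvd_of_le inf_le_right
  obtain ⟨K', hK'⟩ := Sylow.exists_subgroup_card_pow_prime r hdvd
  have hKcard : Nat.card (K'.map (cen y).subtype) = r ^ a := by
    rw [← hK']; exact Subgroup.card_map_of_injective (cen y).subtype_injective
  have hKD : K'.map (cen y).subtype ≤ cen y := Subgroup.map_subtype_le K'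
  have hKp : IsPGroup r ↥(K'.map (cen y).subtype) := IsPGroup.of_card hKcard
  obtain ⟨P, hKP⟩ := hKp.exists_le_sylow
  obtain ⟨g, hg⟩ := MulAction.exists_smul_eq G R P
  have hPmem : ∀ k ∈ (P : Subgroup G), g⁻¹ * k * g ∈ (R : Subgroup G) := by
    intro k hk
    rw [← hg, Cfsg.Agent.Helper66.mem_sylow_smul_iff] at hk
    exact hk
  have hKN : K'.map (cen y).subtype ≤ N := by
    intro k hk
    have h1 : g⁻¹ * k * g ∈ N := hRN (hPmem k (hKP hk))
    have h2 : g * (g⁻¹ * k * g) * g⁻¹ ∈ N := ‹N.Normal›.conj_mem _ h1 g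
    have e : g * (g⁻¹ * k * g) * g⁻¹ = k := by group
    rwa [e] at h2
  by_contra hcon
  have hKZ : K'.map (cen y).subtype ≤ Subgroup.center G := by
    intro k hk
    by_contra hkc
    apply hcon
    refine ⟨k, ⟨hKD hk, hKN hk⟩, hkc, ?_⟩
    obtain ⟨j, hj⟩ := hKp ⟨k, hk⟩
    have hj' : k ^ r ^ j = 1 := by
      have := congrArg Subtype.val hj
      simpa using this
    obtain ⟨i, -, hi⟩ := (Nat.dvd_prime_pow hrp).mp (orderOf_dvd_of_pow_eq_one hj')
    exact ⟨i, hi⟩
  have hKR : K'.map (cen y).subtype ≤ (R : Subgroup G) ⊓ Subgroup.center G := by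
    intro k hk
    refine ⟨?_, hKZ hk⟩
    have h1 := hPmem k (hKP hk)
    have hc := Subgroup.mem_center_iff.mp (hKZ hk) g
    have e : g⁻¹ * k * g = k := by
      calc g⁻¹ * k * g = g⁻¹ * (k * g) := mul_assoc _ _ _
        _ = g⁻¹ * (g * k) := by rw [hc]
        _ = k := by group
    rwa [e] at h1
  have hZQ : (R : Subgroup G) ⊓ Subgroup.center G ≤ (R : Subgroup G) ⊓ cen x' :=
    inf_le_inf_left _ (center_le_cen x')
  have hle : Nat.card ↥((R : Subgroup G) ⊓ cen x') ≤ Nat.card ↥((R : Subgroup G) ⊓ Subgroup.center G) := by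
    rw [ha, ← hKcard]
    exact Subgroup.card_le_of_le hKR
  have heq := Subgroup.eq_of_le_of_card_ge hZQ hle
  have hx'Q : x' ∈ (R : Subgroup G) ⊓ cen x' := ⟨hx'R, self_mem_cen x'⟩
  rw [← heq] at hx'Q
  exact hx'c hx'Q.2


/-- the centralizer `D` of a noncentral `t`-element `y` of `N` (`t ≠ r`): `D ∩ N` is central in `D` -/
theorem cen_le_cen_of_mem (h : GCS N m) [N.Normal] (r : ℕ) [Fact r.Prime] (R : Sylow r G)
    (hR : ¬ (R : Subgroup G) ≤ Subgroup.center G) (hRN : (R : Subgroup G) ≤ N)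
    {y : G} (hy : y ∈ N) (hyc : y ∉ Subgroup.center G) {t k : ℕ} (ht : t.Prime) (htr : t ≠ r)
    (hyo : orderOf y = t ^ k) {c : G} (hc : c ∈ cen y ⊓ N) : cen y ≤ cen c := by
  have hrp : r.Prime := Fact.out
  have o : ∀ x : G, orderOf x ≠ 0 := fun x => (orderOf_pos x).ne'
  -- L2a
  have L2a : ∀ b ∈ cen y ⊓ N, (orderOf b).Coprime t → cen y ≤ cen b := by
    intro b hb hco
    apply cen_le_of_coprime' h hy hb.2 hyc (mem_cen.mp hb.1)
    rw [hyo]
    exact (Nat.Coprime.pow_right k hco).symm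
  obtain ⟨x, hxC, hxc, j, hxo⟩ := exists_r_elt h r R hR hRN hy hyc
  have hcotr : (r ^ j).Coprime t :=
    Nat.Coprime.pow_left j ((Nat.coprime_primes hrp ht).mpr (Ne.symm htr))
  have hxy : cen x = cen y := by
    have h1 : cen y ≤ cen x := L2a x hxC (by rw [hxo]; exact hcotr)
    exact (cen_eq_of_le' h hy hxC.2 hyc hxc h1).symm
  have L2d : ∀ b ∈ cen y ⊓ N, (orderOf b).Coprime r → cen y ≤ cen b := by
    intro b hb hco
    rw [← hxy]
    apply cen_le_of_coprime' h hxC.2 hb.2 hxc
    · have : b ∈ cen x := by rw [hxy]; exact hb.1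
      exact mem_cen.mp this
    · rw [hxo]
      exact (Nat.Coprime.pow_right j hco).symm
  -- decompose c
  have hz : Subgroup.zpowers c ≤ cen y ⊓ N := by
    rw [Subgroup.zpowers_le]; exact hc
  have h1 : cen y ≤ cen (piPart {t} c) := by
    apply L2d _ (hz (piPart_mem_zpowers _ c))
    obtain ⟨i, hi⟩ := orderOf_of_isPiElt_singleton (o _) (isPiElt_piPart {t} c (o c))
    rw [hi]
    exact Nat.Coprime.pow_left i ((Nat.coprime_primes ht hrp).mpr htr)
  have h2 : cen y ≤ cen (piPart' {t} c) := by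
    apply L2a _ (hz (piPart'_mem_zpowers _ c))
    apply Nat.Coprime.symm
    rw [Nat.Prime.coprime_iff_not_dvd ht]
    intro hd
    exact isPiElt_piPart' {t} c (o c) t ht hd rfl
  intro g hg
  have k1 := mem_cen.mp (h1 hg)
  have k2 := mem_cen.mp (h2 hg)
  rw [mem_cen, ← piPart_mul_piPart' {t} c]
  exact ((show Commute _ g from k1).mul_left (show Commute _ g from k2)).eq

theorem cen_eq_of_mem (h : GCS N m) [N.Normal] (r : ℕ) [Fact r.Prime] (R : Sylow r G)
    (hR : ¬ (R : Subgroup G) ≤ Subgroup.center G) (hRN : (R : Subgroup G) ≤ N)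
    {y : G} (hy : y ∈ N) (hyc : y ∉ Subgroup.center G) {t k : ℕ} (ht : t.Prime) (htr : t ≠ r)
    (hyo : orderOf y = t ^ k) {u : G} (hu : u ∈ cen y ⊓ N) (huc : u ∉ Subgroup.center G) :
    cen u = cen y :=
  (cen_eq_of_le' h hy hu.2 hyc huc (cen_le_cen_of_mem h r R hR hRN hy hyc ht htr hyo hu)).symm

end Cfsg.Agent.Helper66.TwoGCS
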