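import Mathlib
import Cfsg.Agent.Lib.Helper66.TwoGCSA
import Cfsg.Agent.S4163

set_option autoImplicit false
set_option linter.style.haveILetI false
set_option linter.unusedSectionVars false

/-!
# Normal subgroups with two `G`-class sizes: the counting argument
-/

namespace Cfsg.Agent.Helper66.TwoGCS

open Cfsg.Agent.Helper69 Cfsg.Agent.Helper69.Ito

variable {G : Type*} [Group G] [Finite G]

theorem card_mul_relIndex_of_le {H K : Subgroup G} (hHK : H ≤ K) :
    Nat.card H * H.relIndex K = Nat.card K := by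
  have := Subgroup.relIndex_mul_relIndex (⊥ : Subgroup G) H K bot_le hHK
  rwa [Subgroup.relIndex_bot_left, Subgroup.relIndex_bot_left] at this

/-- the orbit of `a` under conjugation by `K` -/
def conjOrbit (K : Subgroup G) (a : G) : Set G := Set.range (fun d : ↥K => (d : G)⁻¹ * a * d)

theorem ncard_conjOrbit (K : Subgroup G) (a : G) : (conjOrbit K a).ncard = (cen a).relIndex K := by
  rw [← Cfsg.Agent.S4163.card_conj_eq_relIndex K a, Nat.card_coe_set_eq]
  rfl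

theorem self_mem_conjOrbit (K : Subgroup G) (a : G) : a ∈ conjOrbit K a :=
  ⟨1, by simp⟩

/-- a set invariant under conjugation by `K` all of whose `K`-orbits have size `ρ` -/
theorem dvd_ncard_of_conj_orbits (K : Subgroup G) (ρ : ℕ) :
    ∀ (n : ℕ) (X : Set G), X.ncard = n → (∀ k ∈ K, ∀ a ∈ X, k⁻¹ * a * k ∈ X) →
      (∀ a ∈ X, (cen a).relIndex K = ρ) → ρ ∣ n := by
  intro n
  induction n using Nat.strong_induction_on with
  | _ n ih =>
    intro X hX hinv hρ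
    by_cases hne : X = ∅
    · rw [hne, Set.ncard_empty] at hX
      rw [← hX]; exact dvd_zero _
    · obtain ⟨a, ha⟩ := Set.nonempty_iff_ne_empty.mpr hne
      have hO : (conjOrbit K a).ncard = ρ := by rw [ncard_conjOrbit, hρ a ha]
      have hsub : conjOrbit K a ⊆ X := by
        rintro _ ⟨d, rfl⟩
        exact hinv d d.2 a ha
      have hρpos : 0 < ρ := by
        rw [← hO, Set.ncard_pos (Set.toFinite _)]
        exact ⟨a, self_mem_conjOrbit K a⟩
      have hle : ρ ≤ n := by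
        rw [← hO, ← hX]; exact Set.ncard_le_ncard hsub (Set.toFinite _)
      have hdiff : (X \ conjOrbit K a).ncard = n - ρ := by
        rw [Set.ncard_sdiff hsub (Set.toFinite _), hX, hO]
      have hinv' : ∀ k ∈ K, ∀ b ∈ X \ conjOrbit K a, k⁻¹ * b * k ∈ X \ conjOrbit K a := by
        intro k hk b hb
        refine ⟨hinv k hk b hb.1, ?_⟩
        rintro ⟨d, hd⟩
        apply hb.2
        refine ⟨d * ⟨k, hk⟩⁻¹, ?_⟩
        simp only [Subgroup.coe_mul, Subgroup.coe_inv]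
        have hd' : (d : G)⁻¹ * a * d = k⁻¹ * b * k := hd
        calc ((d : G) * k⁻¹)⁻¹ * a * ((d : G) * k⁻¹) = k * ((d : G)⁻¹ * a * d) * k⁻¹ := by group
          _ = k * (k⁻¹ * b * k) * k⁻¹ := by rw [hd']
          _ = b := by group
      have h1 := ih (n - ρ) (by omega) (X \ conjOrbit K a) hdiff hinv' (fun b hb => hρ b hb.1)
      have : n = (n - ρ) + ρ := by omega
      rw [this]
      exact Dvd.dvd.add h1 (dvd_refl _)


/-- `D` is the common centralizer of the noncentral elements of `C = D ⊓ N`, and `C ≤ Z(D)` -/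
structure TIC (N D : Subgroup G) : Prop where
  central : ∀ c ∈ D ⊓ N, D ≤ cen c
  cen_eq : ∀ u ∈ D ⊓ N, u ∉ Subgroup.center G → cen u = D

variable {N D : Subgroup G}

theorem TIC.comm (hD : TIC N D) : ∀ a ∈ D ⊓ N, ∀ b ∈ D ⊓ N, a * b = b * a :=
  fun a ha _ hb => mem_cen.mp (hD.central a ha hb.1)

/-- the `p`-part of a commutative subgroup -/
def pPart (C : Subgroup G) (hC : ∀ a ∈ C, ∀ b ∈ C, a * b = b * a) (p : ℕ) : Subgroup G where
  carrier := {c | c ∈ C ∧ ∃ k : ℕ, c ^ p ^ k = 1}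
  one_mem' := ⟨C.one_mem, 0, one_pow _⟩
  mul_mem' := by
    rintro a b' ⟨ha, k, hk⟩ ⟨hb, l, hl⟩
    refine ⟨C.mul_mem ha hb, k + l, ?_⟩
    rw [(show Commute a b' from hC a ha b' hb).mul_pow, pow_add, pow_mul, hk, one_pow,
      mul_comm (p ^ k), pow_mul, hl, one_pow, mul_one]
  inv_mem' := by
    rintro a ⟨ha, k, hk⟩
    exact ⟨C.inv_mem ha, k, by rw [inv_pow, hk, inv_one]⟩

theorem mem_pPart {C : Subgroup G} {hC : ∀ a ∈ C, ∀ b ∈ C, a * b = b * a} {p : ℕ} {c : G} :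
    c ∈ pPart C hC p ↔ c ∈ C ∧ ∃ k : ℕ, c ^ p ^ k = 1 := Iff.rfl

theorem pPart_le {C : Subgroup G} (hC : ∀ a ∈ C, ∀ b ∈ C, a * b = b * a) (p : ℕ) :
    pPart C hC p ≤ C := fun _ hc => hc.1

theorem isPGroup_pPart {C : Subgroup G} (hC : ∀ a ∈ C, ∀ b ∈ C, a * b = b * a) (p : ℕ) :
    IsPGroup p ↥(pPart C hC p) := by
  rintro ⟨c, hc⟩
  obtain ⟨k, hk⟩ := hc.2
  exact ⟨k, Subtype.ext (by simpa using hk)⟩

/-- the normalizer of `D` normalizes `D ⊓ N` -/
theorem conj_mem_of_mem_normalizer [N.Normal] {g c : G} (hg : g ∈ Subgroup.normalizer (D : Set G)) (hc : c ∈ D ⊓ N) :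
    g⁻¹ * c * g ∈ D ⊓ N := by
  refine ⟨(Subgroup.mem_normalizer_iff''.mp hg c).mp hc.1, ?_⟩
  have := ‹N.Normal›.conj_mem c hc.2 g⁻¹
  simpa using this

theorem conj_mem_pPart_of_mem_normalizer [N.Normal] (hC : ∀ a ∈ D ⊓ N, ∀ b ∈ D ⊓ N, a * b = b * a)
    (p : ℕ) {g c : G} (hg : g ∈ Subgroup.normalizer (D : Set G)) (hc : c ∈ pPart (D ⊓ N) hC p) :
    g⁻¹ * c * g ∈ pPart (D ⊓ N) hC p := by
  refine ⟨conj_mem_of_mem_normalizer hg hc.1, ?_⟩
  obtain ⟨k, hk⟩ := hc.2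
  refine ⟨k, ?_⟩
  have : (g⁻¹ * c * g) ^ p ^ k = g⁻¹ * c ^ p ^ k * g := by
    have := conj_pow (a := g⁻¹) (b := c) (i := p ^ k)
    simpa using this
  rw [this, hk]; group


section caseII

variable {m : ℕ}

theorem ncard_class (h : GCS N m) {y : G} (hy : y ∈ N) (hyc : y ∉ Subgroup.center G) :
    (conjOrbit ⊤ y).ncard = m := by
  rw [ncard_conjOrbit, Subgroup.relIndex_top_right, index_eq_of_not_central h hy hyc]

theorem conj_mem_class {y w : G} (hw : w ∈ conjOrbit ⊤ y) (k : G) : k⁻¹ * w * k ∈ conjOrbit ⊤ y := by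
  obtain ⟨d, rfl⟩ := hw
  refine ⟨d * ⟨k, Subgroup.mem_top k⟩, ?_⟩
  simp only [Subgroup.coe_mul, mul_inv_rev]
  group

theorem mem_of_mem_class [N.Normal] {y w : G} (hy : y ∈ N) (hw : w ∈ conjOrbit ⊤ y) : w ∈ N := by
  obtain ⟨d, rfl⟩ := hw
  have := ‹N.Normal›.conj_mem y hy (d : G)⁻¹
  simpa using this

theorem not_central_of_mem_class {y w : G} (hyc : y ∉ Subgroup.center G) (hw : w ∈ conjOrbit ⊤ y) :
    w ∉ Subgroup.center G := by
  obtain ⟨d, rfl⟩ := hw
  intro hc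
  apply hyc
  have h1 := (Subgroup.center G).normal_of_characteristic.conj_mem _ hc (d : G)
  have e : (d : G) * ((d : G)⁻¹ * y * d) * (d : G)⁻¹ = y := by group
  rwa [e] at h1

theorem cen_inf_eq (hD : TIC N D) {K : Subgroup G} (hK : K ≤ D ⊓ N) {a : G} (haN : a ∈ N)
    (haC : a ∉ D ⊓ N) : cen a ⊓ K = Subgroup.center G ⊓ K := by
  ext c
  rw [Subgroup.mem_inf, Subgroup.mem_inf]
  constructor
  · rintro ⟨hca, hcK⟩
    refine ⟨?_, hcK⟩
    by_contra hcc
    have e := hD.cen_eq c (hK hcK) hcc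
    apply haC
    have h1 : a ∈ cen c := mem_cen.mpr (mem_cen.mp hca).symm
    rw [e] at h1
    exact Subgroup.mem_inf.mpr ⟨h1, haN⟩
  · rintro ⟨hcz, hcK⟩
    exact ⟨center_le_cen a hcz, hcK⟩

theorem relIndex_cen_eq' (hD : TIC N D) {K : Subgroup G} (hK : K ≤ D ⊓ N) {a : G} (haN : a ∈ N)
    (haC : a ∉ D ⊓ N) : (cen a).relIndex K = (Subgroup.center G).relIndex K := by
  rw [← Subgroup.inf_relIndex_right, cen_inf_eq hD hK haN haC, Subgroup.inf_relIndex_right]

/-- the conjugates of `y` lying in `D ⊓ N` form the orbit of `y` under the normalizer of `D` -/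
theorem class_inter_eq [N.Normal] (hD : TIC N D) {y : G} (hy : y ∈ D ⊓ N)
    (hyc : y ∉ Subgroup.center G) :
    {w | w ∈ conjOrbit ⊤ y ∧ w ∈ D ⊓ N} = conjOrbit (Subgroup.normalizer (D : Set G)) y := by
  have hcy : cen y = D := hD.cen_eq y hy hyc
  ext w
  constructor
  · rintro ⟨⟨g, rfl⟩, hwC⟩
    have hwc : (g : G)⁻¹ * y * g ∉ Subgroup.center G :=
      not_central_of_mem_class hyc ⟨g, rfl⟩
    have hcw : cen ((g : G)⁻¹ * y * g) = D := hD.cen_eq _ hwC hwc
    have hg : (g : G) ∈ Subgroup.normalizer (D : Set G) := by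
      rw [Subgroup.mem_normalizer_iff'']
      intro d
      rw [← hcy]
      constructor
      · intro hd
        have : (g : G)⁻¹ * d * g ∈ cen ((g : G)⁻¹ * y * g) := by
          rw [mem_cen]
          have hd' := mem_cen.mp hd
          calc (g : G)⁻¹ * y * g * ((g : G)⁻¹ * d * g) = (g : G)⁻¹ * (y * d) * g := by group
            _ = (g : G)⁻¹ * (d * y) * g := by rw [hd']
            _ = (g : G)⁻¹ * d * g * ((g : G)⁻¹ * y * g) := by group
        rw [hcw, ← hcy] at this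
        exact this
      · intro hd
        have hd2 : (g : G)⁻¹ * d * g ∈ cen ((g : G)⁻¹ * y * g) := by
          rw [hcw, ← hcy]; exact hd
        have hd' := mem_cen.mp hd2
        rw [mem_cen]
        calc y * d = (g : G) * ((g : G)⁻¹ * y * g * ((g : G)⁻¹ * d * g)) * (g : G)⁻¹ := by group
          _ = (g : G) * ((g : G)⁻¹ * d * g * ((g : G)⁻¹ * y * g)) * (g : G)⁻¹ := by rw [hd']
          _ = d * y := by group
    exact ⟨⟨g, hg⟩, rfl⟩
  · rintro ⟨g, rfl⟩
    exact ⟨⟨⟨g, Subgroup.mem_top _⟩, rfl⟩, conj_mem_of_mem_normalizer g.2 hy⟩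

/-- Claim A -/
theorem relIndex_center_dvd [N.Normal] (h : GCS N m) (hD : TIC N D) {K : Subgroup G}
    (hK : K ≤ D ⊓ N) {y : G} (hy : y ∈ D ⊓ N) (hyc : y ∉ Subgroup.center G) {v : G} (hv : v ∈ N)
    (hvc : v ∉ Subgroup.center G) (hvC : ∀ g : G, g⁻¹ * v * g ∉ D ⊓ N) :
    (Subgroup.center G).relIndex K ∣ D.relIndex (Subgroup.normalizer (D : Set G)) := by
  have hcy : cen y = D := hD.cen_eq y hy hyc
  -- (1)
  have h1 : (Subgroup.center G).relIndex K ∣ m := by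
    apply dvd_ncard_of_conj_orbits K _ m (conjOrbit ⊤ v) (ncard_class h hv hvc)
    · intro k _ a ha
      exact conj_mem_class ha k
    · intro a ha
      apply relIndex_cen_eq' hD hK (mem_of_mem_class hv ha)
      obtain ⟨d, rfl⟩ := ha
      exact hvC d
  -- (2)
  have h2 : (Subgroup.center G).relIndex K ∣ {w | w ∈ conjOrbit ⊤ y ∧ w ∉ D ⊓ N}.ncard := by
    apply dvd_ncard_of_conj_orbits K _ _ {w | w ∈ conjOrbit ⊤ y ∧ w ∉ D ⊓ N} rfl
    · intro k hk a ha
      refine ⟨conj_mem_class ha.1 k, ?_⟩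
      intro hc
      apply ha.2
      have hkC := hK hk
      have := (D ⊓ N).mul_mem ((D ⊓ N).mul_mem hkC hc) ((D ⊓ N).inv_mem hkC)
      have e : k * (k⁻¹ * a * k) * k⁻¹ = a := by group
      rwa [e] at this
    · intro a ha
      exact relIndex_cen_eq' hD hK (mem_of_mem_class hy.2 ha.1) ha.2
  -- (3), (4)
  have h3 : {w | w ∈ conjOrbit ⊤ y ∧ w ∈ D ⊓ N}.ncard =
      D.relIndex (Subgroup.normalizer (D : Set G)) := by
    rw [class_inter_eq hD hy hyc, ncard_conjOrbit, hcy]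
  have h4 : m = {w | w ∈ conjOrbit ⊤ y ∧ w ∉ D ⊓ N}.ncard +
      {w | w ∈ conjOrbit ⊤ y ∧ w ∈ D ⊓ N}.ncard := by
    rw [← ncard_class h hy.2 hyc, ← Set.ncard_union_eq]
    · congr 1
      ext w
      simp only [Set.mem_union, Set.mem_ofPred_eq]
      constructor
      · intro hw
        by_cases hc : w ∈ D ⊓ N
        · exact Or.inr ⟨hw, hc⟩
        · exact Or.inl ⟨hw, hc⟩
      · rintro (hw | hw) <;> exact hw.1
    · rw [Set.disjoint_left]
      intro w hw1 hw2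
      exact hw1.2 hw2.2
  rw [h4, h3] at h1
  exact (Nat.dvd_add_right h2).mp h1

/-- Claim B -/
theorem relIndex_normalizer_dvd [N.Normal] (hD : TIC N D)
    (hC : ∀ a ∈ D ⊓ N, ∀ b ∈ D ⊓ N, a * b = b * a) (q : ℕ) :
    D.relIndex (Subgroup.normalizer (D : Set G)) ∣
      Nat.card ↥(pPart (D ⊓ N) hC q) - Nat.card ↥(Subgroup.center G ⊓ pPart (D ⊓ N) hC q) := by
  have hY : {u | u ∈ pPart (D ⊓ N) hC q ∧ u ∉ Subgroup.center G}.ncard =
      Nat.card ↥(pPart (D ⊓ N) hC q) - Nat.card ↥(Subgroup.center G ⊓ pPart (D ⊓ N) hC q) := by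
    have e : {u | u ∈ pPart (D ⊓ N) hC q ∧ u ∉ Subgroup.center G} =
        ((pPart (D ⊓ N) hC q : Subgroup G) : Set G) \
          ((Subgroup.center G ⊓ pPart (D ⊓ N) hC q : Subgroup G) : Set G) := by
      ext u
      simp only [Set.mem_ofPred_eq, Set.mem_sdiff, SetLike.mem_coe, Subgroup.mem_inf]
      tauto
    rw [e, Set.ncard_sdiff (fun u hu => hu.2) (Set.toFinite _)]
    rfl
  apply dvd_ncard_of_conj_orbits (Subgroup.normalizer (D : Set G)) _ _ _ hY
  · intro g hg u hu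
    refine ⟨conj_mem_pPart_of_mem_normalizer hC q hg hu.1, ?_⟩
    intro hc
    apply hu.2
    have h1 := (Subgroup.center G).normal_of_characteristic.conj_mem _ hc g
    have e : g * (g⁻¹ * u * g) * g⁻¹ = u := by group
    rwa [e] at h1
  · intro u hu
    rw [hD.cen_eq u (pPart_le hC q hu.1) hu.2]

/-- arithmetic core: `ρ ∣ e ∣ z' (ρ' - 1)` with `ρ` a power of `r` and `z'` a power of `t` -/
theorem le_pred_of_dvd {r t : ℕ} (hr : r.Prime) (ht : t.Prime) (hrt : r ≠ t) {ρ ρ' z z' k k' e a b : ℕ}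
    (h1 : z * ρ = k) (h2 : z' * ρ' = k') (hk : k = r ^ a) (hk' : k' = t ^ b)
    (hρe : ρ ∣ e) (he : e ∣ k' - z') (hρ' : ρ' ≠ 1) : ρ ≤ ρ' - 1 := by
  have hk'pos : 0 < k' := by rw [hk']; exact pow_pos ht.pos b
  have hz'pos : 0 < z' := by
    rcases Nat.eq_zero_or_pos z' with h0 | h0
    · rw [h0, zero_mul] at h2; omega
    · exact h0
  have hρ'pos : 0 < ρ' := by
    rcases Nat.eq_zero_or_pos ρ' with h0 | h0
    · rw [h0, mul_zero] at h2; omega
    · exact h0
  have e1 : k' - z' = z' * (ρ' - 1) := by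
    rw [← h2, Nat.mul_sub_one]
  have hd : ρ ∣ z' * (ρ' - 1) := by
    rw [← e1]; exact hρe.trans he
  have hco : Nat.Coprime ρ z' := by
    have c1 : Nat.Coprime (r ^ a) (t ^ b) :=
      Nat.Coprime.pow a b ((Nat.coprime_primes hr ht).mpr hrt)
    have d1 : ρ ∣ r ^ a := by rw [← hk, ← h1]; exact Dvd.intro_left z rfl
    have d2 : z' ∣ t ^ b := by rw [← hk', ← h2]; exact Dvd.intro ρ' rfl
    exact Nat.Coprime.coprime_dvd_left d1 (Nat.Coprime.coprime_dvd_right d2 c1)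
  have hd' : ρ ∣ ρ' - 1 := hco.dvd_of_dvd_mul_left hd
  exact Nat.le_of_dvd (by omega) hd'

/-- Case II is contradictory -/
theorem caseII_false [N.Normal] (h : GCS N m) (hD : TIC N D) {r t : ℕ} (hr : r.Prime)
    (ht : t.Prime) (hrt : r ≠ t) {x y : G} (hx : x ∈ D ⊓ N) (hxc : x ∉ Subgroup.center G) {j : ℕ}
    (hxo : x ^ r ^ j = 1) (hy : y ∈ D ⊓ N) (hyc : y ∉ Subgroup.center G) {k : ℕ}
    (hyo : y ^ t ^ k = 1) {v : G} (hv : v ∈ N) (hvc : v ∉ Subgroup.center G)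
    (hvC : ∀ g : G, g⁻¹ * v * g ∉ D ⊓ N) : False := by
  have hC := hD.comm
  haveI : Fact r.Prime := ⟨hr⟩
  haveI : Fact t.Prime := ⟨ht⟩
  obtain ⟨a, ha⟩ := IsPGroup.iff_card.mp (isPGroup_pPart hC r)
  obtain ⟨b, hb⟩ := IsPGroup.iff_card.mp (isPGroup_pPart hC t)
  have hr1 : Nat.card ↥(Subgroup.center G ⊓ pPart (D ⊓ N) hC r) *
      (Subgroup.center G).relIndex (pPart (D ⊓ N) hC r) = Nat.card ↥(pPart (D ⊓ N) hC r) := by
    rw [← Subgroup.inf_relIndex_right]
    exact card_mul_relIndex_of_le inf_le_right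
  have ht1 : Nat.card ↥(Subgroup.center G ⊓ pPart (D ⊓ N) hC t) *
      (Subgroup.center G).relIndex (pPart (D ⊓ N) hC t) = Nat.card ↥(pPart (D ⊓ N) hC t) := by
    rw [← Subgroup.inf_relIndex_right]
    exact card_mul_relIndex_of_le inf_le_right
  have hxK : x ∈ pPart (D ⊓ N) hC r := ⟨hx, j, hxo⟩
  have hyK : y ∈ pPart (D ⊓ N) hC t := ⟨hy, k, hyo⟩
  have hρr : (Subgroup.center G).relIndex (pPart (D ⊓ N) hC r) ≠ 1 := by
    intro h1
    exact hxc (Subgroup.relIndex_eq_one.mp h1 hxK)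
  have hρt : (Subgroup.center G).relIndex (pPart (D ⊓ N) hC t) ≠ 1 := by
    intro h1
    exact hyc (Subgroup.relIndex_eq_one.mp h1 hyK)
  have dAr := relIndex_center_dvd h hD (pPart_le hC r) hy hyc hv hvc hvC
  have dAt := relIndex_center_dvd h hD (pPart_le hC t) hy hyc hv hvc hvC
  have dBr := relIndex_normalizer_dvd hD hC r
  have dBt := relIndex_normalizer_dvd hD hC t
  have i1 := le_pred_of_dvd hr ht hrt hr1 ht1 ha hb dAr dBt hρt
  have i2 := le_pred_of_dvd ht hr (Ne.symm hrt) ht1 hr1 hb ha dAt dBr hρr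
  have p1 : 0 < (Subgroup.center G).relIndex (pPart (D ⊓ N) hC r) := by
    rcases Nat.eq_zero_or_pos ((Subgroup.center G).relIndex (pPart (D ⊓ N) hC r)) with h0 | h0
    · rw [h0, mul_zero] at hr1
      have : 0 < Nat.card ↥(pPart (D ⊓ N) hC r) := Nat.card_pos
      omega
    · exact h0
  omega

end caseII

end Cfsg.Agent.Helper66.TwoGCS
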