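import Mathlib
import Cfsg.Agent.Lib.Helper66.TwoGCSB

set_option autoImplicit false
set_option linter.style.haveILetI false
set_option linter.unusedSectionVars false

/-!
# Normal subgroups with two `G`-class sizes: nilpotency criteria
-/

namespace Cfsg.Agent.Helper66.TwoGCS

open Cfsg.Agent.Helper69 Cfsg.Agent.Helper69.Ito

variable {G : Type*} [Group G] [Finite G]

theorem nilpotent_of_isPGroup_quotient_center (p : ℕ) [Fact p.Prime]
    (hQ : IsPGroup p (G ⧸ Subgroup.center G)) : Group.IsNilpotent G := by
  haveI : Group.IsNilpotent (G ⧸ Subgroup.center G) := hQ.isNilpotent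
  apply Subgroup.isNilpotent_of_ker_le_center (QuotientGroup.mk' (Subgroup.center G))
  rw [QuotientGroup.ker_mk']

/-- Step 0: if all `r'`-elements of `N` are central in `G` then `N` is nilpotent -/
theorem nilpotent_of_coprime_central (N : Subgroup G) (r : ℕ) [Fact r.Prime]
    (hcen : ∀ u ∈ N, (orderOf u).Coprime r → u ∈ Subgroup.center G) : Group.IsNilpotent N := by
  have hrp : r.Prime := Fact.out
  have o : ∀ x : G, orderOf x ≠ 0 := fun x => (orderOf_pos x).ne'
  apply nilpotent_of_isPGroup_quotient_center r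
  intro q
  obtain ⟨n, rfl⟩ := QuotientGroup.mk_surjective q
  -- decompose `n`
  obtain ⟨k, hk⟩ := orderOf_of_isPiElt_singleton (o _) (isPiElt_piPart {r} (n : G) (o _))
  have hb : piPart' {r} (n : G) ∈ Subgroup.center G := by
    apply hcen
    · have : Subgroup.zpowers (n : G) ≤ N := by
        rw [Subgroup.zpowers_le]; exact n.2
      exact this (piPart'_mem_zpowers _ _)
    · rw [Nat.coprime_comm, Nat.Prime.coprime_iff_not_dvd hrp]
      intro hd
      exact isPiElt_piPart' {r} (n : G) (o _) r hrp hd rfl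
  have hpow : (n : G) ^ r ^ k ∈ Subgroup.center G := by
    have e : (n : G) ^ r ^ k = piPart' {r} (n : G) ^ r ^ k := by
      conv_lhs => rw [← piPart_mul_piPart' {r} (n : G)]
      rw [(commute_piPart_piPart' {r} (n : G)).mul_pow, ← hk, pow_orderOf_eq_one, one_mul]
    rw [e]
    exact Subgroup.pow_mem _ hb _
  refine ⟨k, ?_⟩
  rw [← QuotientGroup.mk_pow, QuotientGroup.eq_one_iff, Subgroup.mem_center_iff]
  intro g
  apply Subtype.ext
  have := Subgroup.mem_center_iff.mp hpow (g : G)
  simpa using this


/-- Case I: every noncentral element of `N` is conjugate into `D ⊓ N` -/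
theorem nilpotent_of_cover {N D : Subgroup G} [N.Normal] (hD : TIC N D)
    (hcov : ∀ v ∈ N, v ∉ Subgroup.center G → ∃ g : G, g⁻¹ * v * g ∈ D ⊓ N) :
    Group.IsNilpotent N := by
  have htwo : TwoCS ↥N (Nat.card N / Nat.card ↥(D ⊓ N)) := by
    intro u
    by_cases huc : (u : G) ∈ Subgroup.center G
    · left
      rw [Subgroup.index_eq_one, cen_eq_top_iff, Subgroup.mem_center_iff]
      intro g
      apply Subtype.ext
      exact Subgroup.mem_center_iff.mp huc (g : G)
    · right
      obtain ⟨g, hg⟩ := hcov u u.2 huc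
      have hwc : g⁻¹ * (u : G) * g ∉ Subgroup.center G := by
        intro hc
        apply huc
        have h1 := (Subgroup.center G).normal_of_characteristic.conj_mem _ hc g
        have e : g * (g⁻¹ * (u : G) * g) * g⁻¹ = u := by group
        rwa [e] at h1
      have hcw : cen (g⁻¹ * (u : G) * g) = D := hD.cen_eq _ hg hwc
      have hmem : ∀ c : ↥(cen u), g⁻¹ * ((c : ↥N) : G) * g ∈ D ⊓ N := by
        intro c
        refine Subgroup.mem_inf.mpr ⟨?_, ?_⟩
        · rw [← hcw, mem_cen]
          have hc : (u : G) * ((c : ↥N) : G) = ((c : ↥N) : G) * (u : G) := by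
            have := mem_cen.mp c.2
            exact congrArg Subtype.val this
          calc g⁻¹ * (u : G) * g * (g⁻¹ * ((c : ↥N) : G) * g)
              = g⁻¹ * ((u : G) * ((c : ↥N) : G)) * g := by group
            _ = g⁻¹ * (((c : ↥N) : G) * (u : G)) * g := by rw [hc]
            _ = g⁻¹ * ((c : ↥N) : G) * g * (g⁻¹ * (u : G) * g) := by group
        · have := ‹N.Normal›.conj_mem _ (c : ↥N).2 g⁻¹
          simpa using this
      have hcard : Nat.card ↥(cen u) = Nat.card ↥(D ⊓ N) := by
        apply Nat.card_eq_of_bijective (fun c : ↥(cen u) => (⟨g⁻¹ * ((c : ↥N) : G) * g, hmem c⟩ : ↥(D ⊓ N)))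
        constructor
        · intro c c' hcc
          have h1 : g⁻¹ * ((c : ↥N) : G) * g = g⁻¹ * ((c' : ↥N) : G) * g := congrArg Subtype.val hcc
          have h2 : ((c : ↥N) : G) = ((c' : ↥N) : G) := by
            have := congrArg (fun z => g * z * g⁻¹) h1
            simpa [mul_assoc] using this
          exact Subtype.ext (Subtype.ext h2)
        · rintro ⟨d, hd⟩
          have hdN : g * d * g⁻¹ ∈ N := ‹N.Normal›.conj_mem _ (Subgroup.mem_inf.mp hd).2 g
          have hdc : (⟨g * d * g⁻¹, hdN⟩ : ↥N) ∈ cen u := by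
            rw [mem_cen]
            apply Subtype.ext
            have h1 : d ∈ cen (g⁻¹ * (u : G) * g) := by rw [hcw]; exact (Subgroup.mem_inf.mp hd).1
            have h2 := mem_cen.mp h1
            show (u : G) * (g * d * g⁻¹) = g * d * g⁻¹ * (u : G)
            calc (u : G) * (g * d * g⁻¹) = g * (g⁻¹ * (u : G) * g * d) * g⁻¹ := by group
              _ = g * (d * (g⁻¹ * (u : G) * g)) * g⁻¹ := by rw [h2]
              _ = g * d * g⁻¹ * (u : G) := by group
          refine ⟨⟨⟨g * d * g⁻¹, hdN⟩, hdc⟩, ?_⟩
          apply Subtype.ext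
          show g⁻¹ * (g * d * g⁻¹) * g = d
          group
      have h1 := (cen u).card_mul_index
      rw [hcard] at h1
      exact (Nat.div_eq_of_eq_mul_right Nat.card_pos h1.symm).symm
  by_cases hna : ∃ x : ↥N, x ∉ Subgroup.center ↥N
  · obtain ⟨p, k, hp, hidx⟩ := index_center_eq_prime_pow htwo hna
    haveI : Fact p.Prime := ⟨hp⟩
    apply nilpotent_of_isPGroup_quotient_center p
    apply IsPGroup.of_card (n := k)
    rw [← hidx]
    exact (Subgroup.index_eq_card _).symm
  · have htop : Subgroup.center ↥N = ⊤ := by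
      rw [eq_top_iff]
      intro x _
      by_contra hx
      exact hna ⟨x, hx⟩
    haveI : Fact (Nat.Prime 2) := ⟨Nat.prime_two⟩
    apply nilpotent_of_isPGroup_quotient_center 2
    apply IsPGroup.of_card (n := 0)
    rw [← Subgroup.index_eq_card, htop, Subgroup.index_top, pow_zero]

end Cfsg.Agent.Helper66.TwoGCS
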