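import Mathlib
import Cfsg.Agent.Lib.Helper66.SylowSub

set_option autoImplicit false
set_option linter.style.haveILetI false

/-!
# Normal subgroups of 2-transitive groups of degree `≡ 2 mod 4`, part A: basic lemmas
-/

namespace Cfsg.Agent.Helper66.TwoTrans

open MulAction

section sign

/-- A fixed-point-free involution on a set with `≡ 2 mod 4` elements is an odd permutation. -/
theorem sign_eq_neg_one_of_fpf_invol {α : Type*} [Fintype α] [DecidableEq α] (σ : Equiv.Perm α)
    (h2 : σ ^ 2 = 1) (hfpf : ∀ x, σ x ≠ x) (hc : Fintype.card α % 4 = 2) :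
    Equiv.Perm.sign σ = -1 := by
  have hpos : 0 < Fintype.card α := by omega
  obtain ⟨x0⟩ : Nonempty α := Fintype.card_pos_iff.mp hpos
  have hne : σ ≠ 1 := by
    intro h
    apply hfpf x0
    rw [h]; rfl
  haveI : Fact (Nat.Prime 2) := ⟨Nat.prime_two⟩
  have ho : orderOf σ = 2 := orderOf_eq_prime h2 hne
  obtain ⟨k, hk⟩ := Equiv.Perm.cycleType_prime_order (ho ▸ Nat.prime_two)
  rw [ho] at hk
  have hsupp : σ.support = Finset.univ := by
    ext x
    simp [Equiv.Perm.mem_support, hfpf x]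
  have hsum := Equiv.Perm.sum_cycleType σ
  rw [hk, hsupp, Finset.card_univ, Multiset.sum_replicate, smul_eq_mul] at hsum
  rw [Equiv.Perm.sign_of_cycleType, hk, Multiset.sum_replicate, Multiset.card_replicate, smul_eq_mul]
  have hodd : Odd ((k + 1) * 2 + (k + 1)) := by
    have : (k + 1) % 2 = 1 := by omega
    rw [Nat.odd_iff]; omega
  exact hodd.neg_one_pow

end sign

variable {G : Type*} [Group G] {Ω : Type*} [MulAction G Ω]

/-- The order of a transitive subgroup is the degree times the order of a point stabilizer. -/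
theorem card_eq_card_mul_stab [Finite G] [Fintype Ω] (M : Subgroup G)
    (hM : ∀ x y : Ω, ∃ m ∈ M, m • x = y) (x : Ω) :
    Nat.card M = Fintype.card Ω * Nat.card ↥(M ⊓ stabilizer G x) := by
  haveI : IsPretransitive ↥M Ω :=
    ⟨fun x y => by obtain ⟨m, hm, h⟩ := hM x y; exact ⟨⟨m, hm⟩, h⟩⟩
  have h1 : (stabilizer ↥M x).index = Nat.card Ω := index_stabilizer_of_transitive ↥M x
  have h2 := Subgroup.card_mul_index (stabilizer ↥M x)
  have h3 : Nat.card (stabilizer ↥M x) = Nat.card ↥(M ⊓ stabilizer G x) := by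
    refine Nat.card_congr
      { toFun := fun k => ⟨k.1.1, k.1.2, k.2⟩
        invFun := fun k => ⟨⟨k.1, k.2.1⟩, k.2.2⟩
        left_inv := fun k => rfl
        right_inv := fun k => rfl }
  rw [← h2, h1, h3, Nat.card_eq_fintype_card (α := Ω), mul_comm]

/-- Sylow-type conjugation into a normalizer. -/
theorem exists_mul_mem_normalizer [Finite G] (K Q : Subgroup G) (hQK : Q ≤ K)
    (hcard : Nat.card Q = 2 ^ (Nat.card K).factorization 2) (g : G)
    (hg : ∀ q ∈ Q, g * q * g⁻¹ ∈ K) :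
    ∃ k ∈ K, k * g ∈ Subgroup.normalizer (Q : Set G) := by
  haveI : Fact (Nat.Prime 2) := ⟨Nat.prime_two⟩
  set B : Subgroup G := Q.map (MulAut.conj g).toMonoidHom with hB
  have hBK : B ≤ K := by
    rintro _ ⟨q, hq, rfl⟩
    exact hg q hq
  have hBc : Nat.card B = Nat.card Q := by
    rw [hB]
    exact Subgroup.card_map_of_injective (MulAut.conj g).injective
  have hmemB : ∀ q : G, g * q * g⁻¹ ∈ B ↔ q ∈ Q := by
    intro q
    constructor
    · rintro ⟨q', hq', h⟩
      have : q' = q := (MulAut.conj g).injective h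
      exact this ▸ hq'
    · intro hq
      exact ⟨q, hq, rfl⟩
  obtain ⟨h, hhK, hh⟩ := exists_conj_of_card_eq 2 K Q B hQK hBK hcard (hBc.trans hcard)
  refine ⟨h⁻¹, K.inv_mem hhK, ?_⟩
  rw [Subgroup.mem_normalizer_iff]
  intro q
  rw [← hmemB q, hh]
  have : h⁻¹ * g * q * (h⁻¹ * g)⁻¹ = h⁻¹ * (g * q * g⁻¹) * h := by group
  rw [this]

/-- the fixed points of a subgroup -/
def fixSet (Q : Subgroup G) : Set Ω := {x | ∀ q ∈ Q, q • x = x}

theorem smul_mem_fixSet (Q : Subgroup G) {g : G} (hg : g ∈ Subgroup.normalizer (Q : Set G))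
    {x : Ω} (hx : x ∈ fixSet Q) : g • x ∈ fixSet Q := by
  intro q hq
  have h1 : g⁻¹ * q * g ∈ Q := (Subgroup.mem_normalizer_iff''.mp hg q).mp hq
  have h2 := hx _ h1
  calc q • g • x = g • (g⁻¹ * q * g) • x := by
        rw [← mul_smul, ← mul_smul]; congr 1; group
    _ = g • x := by rw [h2]

section arith

theorem fact_two_of_mod_four {n : ℕ} (h : n % 4 = 2) : n.factorization 2 = 1 := by
  obtain ⟨m, rfl⟩ : ∃ m, n = 2 * m := ⟨n / 2, by omega⟩
  have hm : ¬ 2 ∣ m := by omega
  have hm0 : m ≠ 0 := by rintro rfl; omega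
  rw [Nat.factorization_mul (by norm_num) hm0, Finsupp.add_apply,
    Nat.Prime.factorization_self Nat.prime_two, Nat.factorization_eq_zero_of_not_dvd hm]

theorem mod_four_of_fact_two {n : ℕ} (h : n.factorization 2 = 1) : n % 4 = 2 := by
  have hn0 : n ≠ 0 := by rintro rfl; simp at h
  have h2 : 2 ^ 1 ∣ n := (Nat.Prime.pow_dvd_iff_le_factorization Nat.prime_two hn0).2 (by omega)
  have h4 : ¬ 2 ^ 2 ∣ n := by
    rw [Nat.Prime.pow_dvd_iff_le_factorization Nat.prime_two hn0]; omega
  omega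

end arith

/-- the `2`-part of the order of a subgroup squeezed between a subgroup of order `2 ^ k` and
a subgroup whose order has `2`-part `2 ^ k` -/
theorem fact_eq_of_le [Finite G] {A B C : Subgroup G} (hAB : A ≤ B) (hBC : B ≤ C) {k : ℕ}
    (hA : Nat.card A = 2 ^ k) (hC : (Nat.card C).factorization 2 = k) :
    (Nat.card B).factorization 2 = k := by
  have hB0 : Nat.card B ≠ 0 := Nat.card_pos.ne'
  have hC0 : Nat.card C ≠ 0 := Nat.card_pos.ne'
  apply le_antisymm
  · rw [← hC, ← Nat.Prime.pow_dvd_iff_le_factorization Nat.prime_two hC0]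
    exact (Nat.ordProj_dvd _ 2).trans (Subgroup.card_dvd_of_le hBC)
  · rw [← Nat.Prime.pow_dvd_iff_le_factorization Nat.prime_two hB0, ← hA]
    exact Subgroup.card_dvd_of_le hAB

/-- a `2`-subgroup between a "Sylow" subgroup `Q` of `K` and `K` is `Q` -/
theorem le_of_isPGroup_of_card [Finite G] {Q T K : Subgroup G} (hQT : Q ≤ T) (hTK : T ≤ K)
    (hT : IsPGroup 2 T) (hQ : Nat.card Q = 2 ^ (Nat.card K).factorization 2) : T ≤ Q := by
  haveI : Fact (Nat.Prime 2) := ⟨Nat.prime_two⟩
  obtain ⟨j, hj⟩ := hT.exists_card_eq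
  have hK0 : Nat.card K ≠ 0 := Nat.card_pos.ne'
  have h1 : 2 ^ j ∣ Nat.card K := hj ▸ Subgroup.card_dvd_of_le hTK
  rw [Nat.Prime.pow_dvd_iff_le_factorization Nat.prime_two hK0] at h1
  have h2 : Nat.card T ≤ Nat.card Q := by
    rw [hj, hQ]
    exact Nat.pow_le_pow_right (by norm_num) h1
  exact (Subgroup.eq_of_le_of_card_ge hQT h2).ge

/-- facts on a subgroup of index two -/
theorem index_two_facts [Finite G] {Q S : Subgroup G} (hQS : Q ≤ S)
    (hc : Nat.card S = 2 * Nat.card Q) :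
    (∀ s ∈ S, s * s ∈ Q) ∧ S ≤ Subgroup.normalizer (Q : Set G) ∧ ∃ s ∈ S, s ∉ Q := by
  have e1 : Nat.card (Q.subgroupOf S) = Nat.card Q :=
    Nat.card_congr (Subgroup.subgroupOfEquivOfLe hQS).toEquiv
  have hQ0 : 0 < Nat.card Q := Nat.card_pos
  have hidx : (Q.subgroupOf S).index = 2 := by
    have h := Subgroup.card_mul_index (Q.subgroupOf S)
    rw [e1, hc] at h
    have h' : Nat.card Q * (Q.subgroupOf S).index = Nat.card Q * 2 := by rw [h, mul_comm]
    exact Nat.eq_of_mul_eq_mul_left hQ0 h'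
  refine ⟨?_, ?_, ?_⟩
  · intro s hs
    exact Subgroup.mul_self_mem_of_index_two hidx ⟨s, hs⟩
  · exact (Subgroup.normal_subgroupOf_iff_le_normalizer hQS).mp
      (Subgroup.normal_of_index_eq_two hidx)
  · by_contra hcon
    have hSQ : S ≤ Q := fun s hs => by
      by_contra hsQ
      exact hcon ⟨s, hs, hsQ⟩
    have : S = Q := le_antisymm hSQ hQS
    rw [this] at hc
    omega

/-- orbit-stabilizer for a subgroup, with the orbit given as a set -/
theorem card_eq_ncard_mul_stab [Finite G] (K : Subgroup G) (a : Ω) (F : Set Ω)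
    (hF : ∀ x, x ∈ F ↔ ∃ k ∈ K, k • a = x) :
    Nat.card K = F.ncard * Nat.card ↥(K ⊓ stabilizer G a) := by
  have h1 : (stabilizer ↥K a).index = (orbit ↥K a).ncard := index_stabilizer ↥K a
  have h2 := Subgroup.card_mul_index (stabilizer ↥K a)
  have h3 : Nat.card (stabilizer ↥K a) = Nat.card ↥(K ⊓ stabilizer G a) := by
    refine Nat.card_congr
      { toFun := fun k => ⟨k.1.1, k.1.2, k.2⟩
        invFun := fun k => ⟨⟨k.1, k.2.1⟩, k.2.2⟩
        left_inv := fun k => rfl
        right_inv := fun k => rfl }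
  have horb : orbit ↥K a = F := by
    ext x
    rw [hF]
    constructor
    · rintro ⟨k, rfl⟩
      exact ⟨k.1, k.2, rfl⟩
    · rintro ⟨k, hk, rfl⟩
      exact ⟨⟨k, hk⟩, rfl⟩
  rw [← h2, h1, h3, horb, mul_comm]

end Cfsg.Agent.Helper66.TwoTrans
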