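import Mathlib
import Cfsg.Agent.Lib.Helper66.TwoTransA

set_option autoImplicit false
set_option linter.style.haveILetI false

/-!
# Normal subgroups of 2-transitive groups of degree `≡ 2 mod 4`, part B: the sign character
-/

namespace Cfsg.Agent.Helper66.TwoTrans

open MulAction

variable {G : Type*} [Group G] {Ω : Type*} [MulAction G Ω]

/-- the fixed points of `Q`, acted on by the normalizer of `Q` -/
def fixSub (Q : Subgroup G) : SubMulAction ↥(Subgroup.normalizer (Q : Set G)) Ω where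
  carrier := fixSet Q
  smul_mem' := fun g _ hx => smul_mem_fixSet Q g.2 hx

theorem fixSub_smul_coe (Q : Subgroup G) (g : ↥(Subgroup.normalizer (Q : Set G)))
    (x : ↥(fixSub (Ω := Ω) Q)) : ((g • x : ↥(fixSub (Ω := Ω) Q)) : Ω) = (g : G) • (x : Ω) := rfl

open Classical in
/-- sign of the action of the normalizer of `Q` on the fixed points of `Q` -/
noncomputable def sgnHom [Finite Ω] (Q : Subgroup G) : ↥(Subgroup.normalizer (Q : Set G)) →* ℤˣ :=
  haveI : Fintype ↥(fixSub (Ω := Ω) Q) := Fintype.ofFinite _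
  Equiv.Perm.sign.comp (MulAction.toPermHom _ ↥(fixSub (Ω := Ω) Q))

theorem sgnHom_eq_one_of_trivial [Finite Ω] (Q : Subgroup G)
    (g : ↥(Subgroup.normalizer (Q : Set G))) (hg : ∀ x ∈ fixSet (Ω := Ω) Q, (g : G) • x = x) :
    sgnHom (Ω := Ω) Q g = 1 := by
  classical
  unfold sgnHom
  have h1 : MulAction.toPermHom _ ↥(fixSub (Ω := Ω) Q) g = 1 := by
    ext x
    exact hg x.1 x.2
  rw [MonoidHom.comp_apply, h1, map_one]

theorem sgnHom_eq_neg_one [Finite Ω] (Q : Subgroup G)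
    (g : ↥(Subgroup.normalizer (Q : Set G)))
    (hg2 : ∀ x ∈ fixSet (Ω := Ω) Q, ((g : G) * g) • x = x)
    (hg : ∀ x ∈ fixSet (Ω := Ω) Q, (g : G) • x ≠ x)
    (hc : (fixSet (Ω := Ω) Q).ncard % 4 = 2) :
    sgnHom (Ω := Ω) Q g = -1 := by
  classical
  letI : Fintype ↥(fixSub (Ω := Ω) Q) := Fintype.ofFinite _
  unfold sgnHom
  rw [MonoidHom.comp_apply]
  apply sign_eq_neg_one_of_fpf_invol
  · ext x
    have := hg2 x.1 x.2
    rw [mul_smul] at this
    rw [sq]
    exact this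
  · intro x hx
    apply hg x.1 x.2
    have := congrArg Subtype.val hx
    exact this
  · rw [← Nat.card_eq_fintype_card]
    have h : Nat.card ↥(fixSub (Ω := Ω) Q) = (fixSet (Ω := Ω) Q).ncard :=
      Nat.card_coe_set_eq (fixSet (Ω := Ω) Q)
    rw [h]
    exact hc

/-- the elements of `M` normalizing `Q` and acting as even permutations on the fixed points
of `Q` -/
noncomputable def evenPart [Finite Ω] (M Q : Subgroup G) : Subgroup G :=
  ((M.subgroupOf (Subgroup.normalizer (Q : Set G))) ⊓ (sgnHom (Ω := Ω) Q).ker).map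
    (Subgroup.subtype _)

theorem mem_evenPart [Finite Ω] {M Q : Subgroup G} {g : G} :
    g ∈ evenPart (Ω := Ω) M Q ↔
      g ∈ M ∧ ∃ hg : g ∈ Subgroup.normalizer (Q : Set G), sgnHom (Ω := Ω) Q ⟨g, hg⟩ = 1 := by
  unfold evenPart
  constructor
  · rintro ⟨x, ⟨hxM, hxk⟩, rfl⟩
    exact ⟨hxM, x.2, hxk⟩
  · rintro ⟨hM, hg, hk⟩
    exact ⟨⟨g, hg⟩, ⟨hM, hk⟩, rfl⟩

end Cfsg.Agent.Helper66.TwoTrans
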