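import Mathlib
import Cfsg.Agent.Lib.Helper66.TwoTransB

set_option autoImplicit false
set_option linter.style.haveILetI false
set_option linter.unusedSectionVars false

/-!
# Normal subgroups of 2-transitive groups of degree `≡ 2 mod 4`, part C: the key lemma

A transitive normal subgroup of a 2-transitive group of degree `≡ 2 mod 4` is 2-transitive.
-/

namespace Cfsg.Agent.Helper66.TwoTrans

open MulAction

/-- the context of the key lemma -/
structure Ctx (G : Type*) [Group G] (Ω : Type*) [MulAction G Ω] [Fintype Ω] where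
  M : Subgroup G
  Q : Subgroup G
  a : Ω
  v : ℕ
  hMn : M.Normal
  hG2 : ∀ a b c d : Ω, a ≠ b → c ≠ d → ∃ g : G, g • a = c ∧ g • b = d
  hMt : ∀ x y : Ω, ∃ m ∈ M, m • x = y
  hn : Fintype.card Ω % 4 = 2
  hv : ∀ x : Ω, (Nat.card ↥(M ⊓ stabilizer G x)).factorization 2 = v
  hvM : (Nat.card M).factorization 2 = v + 1
  hQM : Q ≤ M
  hQa : a ∈ fixSet Q
  hQc : Nat.card Q = 2 ^ v

namespace Ctx

variable {G : Type*} [Group G] [Finite G] {Ω : Type*} [MulAction G Ω] [Fintype Ω] (c : Ctx G Ω)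

theorem le_stab {x : Ω} (hx : x ∈ fixSet c.Q) : c.Q ≤ c.M ⊓ stabilizer G x :=
  fun q hq => ⟨c.hQM hq, hx q hq⟩

theorem card_Q (x : Ω) : Nat.card c.Q = 2 ^ (Nat.card ↥(c.M ⊓ stabilizer G x)).factorization 2 := by
  rw [c.hv x, c.hQc]

theorem isPGroup_Q : IsPGroup 2 c.Q := IsPGroup.of_card c.hQc

/-- elements of a 2-subgroup of `M` containing `Q` which fix a fixed point of `Q` lie in `Q` -/
theorem mem_Q_of_fix {S' : Subgroup G} (hS' : IsPGroup 2 S') (hQS' : c.Q ≤ S') {s : G}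
    (hs : s ∈ S') (hsM : s ∈ c.M) {x : Ω} (hx : x ∈ fixSet c.Q) (hsx : s • x = x) : s ∈ c.Q := by
  have hT : S' ⊓ (c.M ⊓ stabilizer G x) ≤ c.Q :=
    le_of_isPGroup_of_card (le_inf hQS' (c.le_stab hx)) inf_le_right (hS'.to_le inf_le_left)
      (c.card_Q x)
  exact hT ⟨hs, hsM, hsx⟩

/-- `N(Q) ∩ M` is transitive on the fixed points of `Q` -/
theorem trans_NM {x : Ω} (hx : x ∈ fixSet c.Q) :
    ∃ g ∈ c.M, g ∈ Subgroup.normalizer (c.Q : Set G) ∧ g • c.a = x := by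
  obtain ⟨m, hmM, hm⟩ := c.hMt c.a x
  haveI := c.hMn
  obtain ⟨k, hk, hkn⟩ := exists_mul_mem_normalizer (c.M ⊓ stabilizer G x) c.Q (c.le_stab hx)
    (c.card_Q x) m (fun q hq => by
      refine ⟨c.hMn.conj_mem q (c.hQM hq) m, ?_⟩
      show (m * q * m⁻¹) • x = x
      have h1 : m⁻¹ • x = c.a := by rw [← hm, inv_smul_smul]
      rw [mul_smul, mul_smul, h1, c.hQa q hq, hm])
  refine ⟨k * m, c.M.mul_mem hk.1 hmM, hkn, ?_⟩
  rw [mul_smul, hm]
  exact hk.2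

/-- `N(Q)` is 2-transitive on the fixed points of `Q` -/
theorem two_trans_N {x y x' y' : Ω} (hx : x ∈ fixSet c.Q) (hy : y ∈ fixSet c.Q)
    (hx' : x' ∈ fixSet c.Q) (hy' : y' ∈ fixSet c.Q) (hxy : x ≠ y) (hxy' : x' ≠ y') :
    ∃ g ∈ Subgroup.normalizer (c.Q : Set G), g • x = x' ∧ g • y = y' := by
  obtain ⟨g, hgx, hgy⟩ := c.hG2 x y x' y' hxy hxy'
  have hQK : c.Q ≤ c.M ⊓ stabilizer G x' ⊓ stabilizer G y' :=
    fun q hq => ⟨c.le_stab hx' hq, hy' q hq⟩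
  have hfac : (Nat.card ↥(c.M ⊓ stabilizer G x' ⊓ stabilizer G y')).factorization 2 = c.v :=
    fact_eq_of_le hQK inf_le_left c.hQc (c.hv x')
  obtain ⟨k, hk, hkn⟩ := exists_mul_mem_normalizer (c.M ⊓ stabilizer G x' ⊓ stabilizer G y') c.Q
    hQK (by rw [hfac, c.hQc]) g (fun q hq => by
      have h1 : g⁻¹ • x' = x := by rw [← hgx, inv_smul_smul]
      have h2 : g⁻¹ • y' = y := by rw [← hgy, inv_smul_smul]
      refine ⟨⟨c.hMn.conj_mem q (c.hQM hq) g, ?_⟩, ?_⟩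
      · show (g * q * g⁻¹) • x' = x'
        rw [mul_smul, mul_smul, h1, hx q hq, hgx]
      · show (g * q * g⁻¹) • y' = y'
        rw [mul_smul, mul_smul, h2, hy q hq, hgy])
  refine ⟨k * g, hkn, ?_, ?_⟩
  · rw [mul_smul, hgx]; exact hk.1.2
  · rw [mul_smul, hgy]; exact hk.2

/-- a subgroup of `M` containing `Q` with index two -/
theorem exists_S : ∃ S : Subgroup G, c.Q ≤ S ∧ S ≤ c.M ∧ Nat.card S = 2 * Nat.card c.Q := by
  haveI : Fact (Nat.Prime 2) := ⟨Nat.prime_two⟩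
  obtain ⟨S, hQS, hSM, hS⟩ := exists_le_card_eq 2 c.M c.Q c.hQM c.isPGroup_Q
  refine ⟨S, hQS, hSM, ?_⟩
  rw [hS, c.hvM, c.hQc, pow_succ, mul_comm]

theorem isPGroup_of_card {S' : Subgroup G} (hcard : Nat.card S' = 2 * Nat.card c.Q) :
    IsPGroup 2 S' := by
  apply IsPGroup.of_card (n := c.v + 1)
  rw [hcard, c.hQc, pow_succ, mul_comm]

theorem Q_le_normalizer : c.Q ≤ Subgroup.normalizer (c.Q : Set G) := Subgroup.le_normalizer

/-- the number of fixed points of `Q` is `≡ 2 mod 4` -/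
theorem card_F : (fixSet (Ω := Ω) c.Q).ncard % 4 = 2 := by
  obtain ⟨S, hQS, hSM, hS⟩ := c.exists_S
  obtain ⟨-, hSN, -⟩ := index_two_facts hQS hS
  have hF : ∀ x, x ∈ fixSet (Ω := Ω) c.Q ↔
      ∃ k ∈ c.M ⊓ Subgroup.normalizer (c.Q : Set G), k • c.a = x := by
    intro x
    constructor
    · intro hx
      obtain ⟨g, hgM, hgN, hg⟩ := c.trans_NM hx
      exact ⟨g, ⟨hgM, hgN⟩, hg⟩
    · rintro ⟨k, hk, rfl⟩
      exact smul_mem_fixSet c.Q hk.2 c.hQa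
  have hcard := card_eq_ncard_mul_stab (c.M ⊓ Subgroup.normalizer (c.Q : Set G)) c.a _ hF
  have hS' : Nat.card S = 2 ^ (c.v + 1) := by rw [hS, c.hQc, pow_succ, mul_comm]
  have h1 : (Nat.card ↥(c.M ⊓ Subgroup.normalizer (c.Q : Set G))).factorization 2 = c.v + 1 :=
    fact_eq_of_le (le_inf hSM hSN) inf_le_left hS' c.hvM
  have hQle : c.Q ≤ c.M ⊓ Subgroup.normalizer (c.Q : Set G) ⊓ stabilizer G c.a :=
    fun q hq => ⟨⟨c.hQM hq, c.Q_le_normalizer hq⟩, c.hQa q hq⟩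
  have h2 : (Nat.card ↥(c.M ⊓ Subgroup.normalizer (c.Q : Set G) ⊓ stabilizer G c.a)).factorization 2
      = c.v :=
    fact_eq_of_le (A := c.Q) (C := c.M ⊓ stabilizer G c.a) hQle
      (inf_le_inf_right _ inf_le_left) c.hQc (c.hv c.a)
  have hN0 : Nat.card ↥(c.M ⊓ Subgroup.normalizer (c.Q : Set G)) ≠ 0 := Nat.card_pos.ne'
  have hK0 : Nat.card ↥(c.M ⊓ Subgroup.normalizer (c.Q : Set G) ⊓ stabilizer G c.a) ≠ 0 :=
    Nat.card_pos.ne'
  have hF0 : (fixSet (Ω := Ω) c.Q).ncard ≠ 0 := by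
    intro h0
    rw [h0, zero_mul] at hcard
    exact hN0 hcard
  have h3 := congrArg (fun f => f 2) (Nat.factorization_mul hF0 hK0)
  simp only [Finsupp.add_apply] at h3
  rw [← hcard, h1, h2] at h3
  apply mod_four_of_fact_two
  omega

/-- elements outside `Q` of an overgroup of index two act as odd permutations -/
theorem sgn_neg_one {S' : Subgroup G} (hQS' : c.Q ≤ S') (hS'M : S' ≤ c.M)
    (hcard : Nat.card S' = 2 * Nat.card c.Q) {s : G} (hs : s ∈ S') (hsQ : s ∉ c.Q) :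
    ∃ hsN : s ∈ Subgroup.normalizer (c.Q : Set G), sgnHom (Ω := Ω) c.Q ⟨s, hsN⟩ = -1 := by
  obtain ⟨hsq, hSN, -⟩ := index_two_facts hQS' hcard
  refine ⟨hSN hs, sgnHom_eq_neg_one c.Q ⟨s, hSN hs⟩ ?_ ?_ c.card_F⟩
  · intro x hx
    exact hx _ (hsq s hs)
  · intro x hx hsx
    exact hsQ (c.mem_Q_of_fix (c.isPGroup_of_card hcard) hQS' hs (hS'M hs) hx hsx)

theorem evenPart_le_M : evenPart (Ω := Ω) c.M c.Q ≤ c.M := fun _ hg => (mem_evenPart.mp hg).1

theorem evenPart_le_N : evenPart (Ω := Ω) c.M c.Q ≤ Subgroup.normalizer (c.Q : Set G) :=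
  fun _ hg => (mem_evenPart.mp hg).2.1

theorem Q_le_evenPart : c.Q ≤ evenPart (Ω := Ω) c.M c.Q := by
  intro q hq
  rw [mem_evenPart]
  refine ⟨c.hQM hq, c.Q_le_normalizer hq, sgnHom_eq_one_of_trivial _ _ ?_⟩
  intro x hx
  exact hx q hq

theorem evenPart_fact : ¬ 2 ^ (c.v + 1) ∣ Nat.card (evenPart (Ω := Ω) c.M c.Q) := by
  intro hdvd
  haveI : Fact (Nat.Prime 2) := ⟨Nat.prime_two⟩
  have hH0 : Nat.card (evenPart (Ω := Ω) c.M c.Q) ≠ 0 := Nat.card_pos.ne'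
  have hM0 : Nat.card c.M ≠ 0 := Nat.card_pos.ne'
  have h1 : c.v + 1 ≤ (Nat.card (evenPart (Ω := Ω) c.M c.Q)).factorization 2 :=
    (Nat.Prime.pow_dvd_iff_le_factorization Nat.prime_two hH0).mp hdvd
  have h2 : (Nat.card (evenPart (Ω := Ω) c.M c.Q)).factorization 2 ≤ c.v + 1 := by
    rw [← c.hvM, ← Nat.Prime.pow_dvd_iff_le_factorization Nat.prime_two hM0]
    exact (Nat.ordProj_dvd _ 2).trans (Subgroup.card_dvd_of_le c.evenPart_le_M)
  obtain ⟨S', hQS', hS'H, hS'⟩ :=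
    exists_le_card_eq 2 (evenPart (Ω := Ω) c.M c.Q) c.Q c.Q_le_evenPart c.isPGroup_Q
  have hcard : Nat.card S' = 2 * Nat.card c.Q := by
    rw [hS', le_antisymm h2 h1, c.hQc, pow_succ, mul_comm]
  obtain ⟨-, -, s, hs, hsQ⟩ := index_two_facts hQS' hcard
  obtain ⟨hsN, hsgn⟩ := c.sgn_neg_one hQS' (hS'H.trans c.evenPart_le_M) hcard hs hsQ
  obtain ⟨-, hsN', hsgn'⟩ := mem_evenPart.mp (hS'H hs)
  rw [hsgn] at hsgn'
  exact absurd hsgn' (by decide)

theorem evenPart_conj {g h : G} (hg : g ∈ Subgroup.normalizer (c.Q : Set G))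
    (hh : h ∈ evenPart (Ω := Ω) c.M c.Q) : g * h * g⁻¹ ∈ evenPart (Ω := Ω) c.M c.Q := by
  obtain ⟨hhM, hhN, hsgn⟩ := mem_evenPart.mp hh
  rw [mem_evenPart]
  have hmem : g * h * g⁻¹ ∈ Subgroup.normalizer (c.Q : Set G) :=
    Subgroup.mul_mem _ (Subgroup.mul_mem _ hg hhN) (Subgroup.inv_mem _ hg)
  refine ⟨c.hMn.conj_mem h hhM g, hmem, ?_⟩
  have e : (⟨g * h * g⁻¹, hmem⟩ : ↥(Subgroup.normalizer (c.Q : Set G))) =
      ⟨g, hg⟩ * ⟨h, hhN⟩ * ⟨g, hg⟩⁻¹ := rfl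
  rw [e, map_mul, map_mul, map_inv, hsgn, mul_one, mul_inv_cancel]

/-- the even part fixes all fixed points of `Q` -/
theorem evenPart_trivial {h : G} (hh : h ∈ evenPart (Ω := Ω) c.M c.Q) {x : Ω}
    (hx : x ∈ fixSet c.Q) : h • x = x := by
  by_contra hne
  have hhx : h • x ∈ fixSet c.Q := smul_mem_fixSet c.Q (c.evenPart_le_N hh) hx
  have htrans : ∀ y ∈ fixSet (Ω := Ω) c.Q, ∃ k ∈ evenPart (Ω := Ω) c.M c.Q, k • c.a = y := by
    intro y hy
    by_cases hya : y = c.a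
    · exact ⟨1, Subgroup.one_mem _, by rw [one_smul, hya]⟩
    · obtain ⟨g, hgN, hgx, hghx⟩ := c.two_trans_N hx hhx c.hQa hy (Ne.symm hne) (Ne.symm hya)
      refine ⟨g * h * g⁻¹, c.evenPart_conj hgN hh, ?_⟩
      have h1 : g⁻¹ • c.a = x := by rw [← hgx, inv_smul_smul]
      rw [mul_smul, mul_smul, h1, hghx]
  have hF : ∀ y, y ∈ fixSet (Ω := Ω) c.Q ↔ ∃ k ∈ evenPart (Ω := Ω) c.M c.Q, k • c.a = y := by
    intro y
    constructor
    · exact htrans y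
    · rintro ⟨k, hk, rfl⟩
      exact smul_mem_fixSet c.Q (c.evenPart_le_N hk) c.hQa
  have hcard := card_eq_ncard_mul_stab (evenPart (Ω := Ω) c.M c.Q) c.a _ hF
  have h2 : 2 ∣ (fixSet (Ω := Ω) c.Q).ncard := by
    have := c.card_F
    omega
  have h3 : 2 ^ c.v ∣ Nat.card ↥(evenPart (Ω := Ω) c.M c.Q ⊓ stabilizer G c.a) := by
    rw [← c.hQc]
    exact Subgroup.card_dvd_of_le (fun q hq => ⟨c.Q_le_evenPart hq, c.hQa q hq⟩)
  apply c.evenPart_fact
  rw [hcard, pow_succ, mul_comm (2 ^ c.v) 2]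
  exact mul_dvd_mul h2 h3

/-- `Q` has exactly two fixed points -/
theorem F_sub : ∃ b0 : Ω, b0 ∈ fixSet c.Q ∧ b0 ≠ c.a ∧ ∀ x ∈ fixSet c.Q, x = c.a ∨ x = b0 := by
  obtain ⟨S, hQS, hSM, hS⟩ := c.exists_S
  obtain ⟨-, hSN, s0, hs0, hs0Q⟩ := index_two_facts hQS hS
  obtain ⟨hs0N, hsgn0⟩ := c.sgn_neg_one hQS hSM hS hs0 hs0Q
  refine ⟨s0 • c.a, smul_mem_fixSet c.Q hs0N c.hQa, ?_, ?_⟩
  · intro h
    exact hs0Q (c.mem_Q_of_fix (c.isPGroup_of_card hS) hQS hs0 (hSM hs0) c.hQa h)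
  · intro x hx
    obtain ⟨g, hgM, hgN, hg⟩ := c.trans_NM hx
    rcases Int.units_eq_one_or (sgnHom (Ω := Ω) c.Q ⟨g, hgN⟩) with h1 | h1
    · left
      have hgH : g ∈ evenPart (Ω := Ω) c.M c.Q := mem_evenPart.mpr ⟨hgM, hgN, h1⟩
      rw [← hg]
      exact c.evenPart_trivial hgH c.hQa
    · right
      have hmem : s0⁻¹ * g ∈ Subgroup.normalizer (c.Q : Set G) :=
        Subgroup.mul_mem _ (Subgroup.inv_mem _ hs0N) hgN
      have e : (⟨s0⁻¹ * g, hmem⟩ : ↥(Subgroup.normalizer (c.Q : Set G))) =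
          ⟨s0, hs0N⟩⁻¹ * ⟨g, hgN⟩ := rfl
      have hgH : s0⁻¹ * g ∈ evenPart (Ω := Ω) c.M c.Q := by
        rw [mem_evenPart]
        refine ⟨c.M.mul_mem (c.M.inv_mem (hSM hs0)) hgM, hmem, ?_⟩
        rw [e, map_mul, map_inv, hsgn0, h1]
        decide
      have h2 := c.evenPart_trivial hgH c.hQa
      rw [mul_smul, hg] at h2
      rw [← h2, smul_inv_smul]

/-- the stabilizer of `a` in `M` is transitive on the other points -/
theorem trans_stab {b b' : Ω} (hb : b ≠ c.a) (hb' : b' ≠ c.a) :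
    ∃ m ∈ c.M, m • c.a = c.a ∧ m • b = b' := by
  obtain ⟨b0, hb0F, hb0a, hF⟩ := c.F_sub
  have key : ∀ b : Ω, b ≠ c.a → ∃ k ∈ c.M, k • c.a = c.a ∧ k • b = b0 := by
    intro b hb
    obtain ⟨g, hga, hgb⟩ := c.hG2 c.a b0 c.a b (Ne.symm hb0a) (Ne.symm hb)
    obtain ⟨k, hk, hkn⟩ := exists_mul_mem_normalizer (c.M ⊓ stabilizer G c.a) c.Q
      (c.le_stab c.hQa) (c.card_Q c.a) g (fun q hq => by
        refine ⟨c.hMn.conj_mem q (c.hQM hq) g, ?_⟩
        show (g * q * g⁻¹) • c.a = c.a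
        have h1 : g⁻¹ • c.a = c.a := by
          conv_lhs => rw [← hga]
          rw [inv_smul_smul]
        rw [mul_smul, mul_smul, h1, c.hQa q hq, hga])
    have hka : k • c.a = c.a := hk.2
    have h1 : (k * g) • b0 ∈ fixSet c.Q := smul_mem_fixSet c.Q hkn hb0F
    rw [mul_smul, hgb] at h1
    refine ⟨k, hk.1, hka, ?_⟩
    rcases hF _ h1 with h2 | h2
    · exfalso
      apply hb
      have : k • b = k • c.a := by rw [h2, hka]
      exact smul_left_cancel k this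
    · exact h2
  obtain ⟨k1, hk1M, hk1a, hk1⟩ := key b hb
  obtain ⟨k2, hk2M, hk2a, hk2⟩ := key b' hb'
  refine ⟨k2⁻¹ * k1, c.M.mul_mem (c.M.inv_mem hk2M) hk1M, ?_, ?_⟩
  · rw [mul_smul, hk1a, inv_smul_eq_iff, hk2a]
  · rw [mul_smul, hk1, inv_smul_eq_iff, hk2]

end Ctx

/-- **Key lemma.** A transitive normal subgroup of a 2-transitive group of degree `≡ 2 mod 4`
is 2-transitive. -/
theorem two_trans_of_normal {G : Type*} [Group G] [Finite G] {Ω : Type*} [MulAction G Ω]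
    [Fintype Ω]
    (hG2 : ∀ a b c d : Ω, a ≠ b → c ≠ d → ∃ g : G, g • a = c ∧ g • b = d)
    (hn : Fintype.card Ω % 4 = 2) (M : Subgroup G) (hMn : M.Normal)
    (hMt : ∀ x y : Ω, ∃ m ∈ M, m • x = y) :
    ∀ a b c d : Ω, a ≠ b → c ≠ d → ∃ m ∈ M, m • a = c ∧ m • b = d := by
  haveI : Fact (Nat.Prime 2) := ⟨Nat.prime_two⟩
  have hstab : ∀ a b b' : Ω, b ≠ a → b' ≠ a → ∃ m ∈ M, m • a = a ∧ m • b = b' := by
    intro a b b' hb hb'
    obtain ⟨Q, -, hQle, hQc⟩ := exists_le_card_eq 2 (M ⊓ stabilizer G a) ⊥ bot_le IsPGroup.of_bot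
    have hcard : ∀ x : Ω, Nat.card ↥(M ⊓ stabilizer G x) = Nat.card ↥(M ⊓ stabilizer G a) := by
      intro x
      have h1 := card_eq_card_mul_stab M hMt x
      have h2 := card_eq_card_mul_stab M hMt a
      rw [h1] at h2
      exact Nat.eq_of_mul_eq_mul_left (by omega) h2
    have hvM : (Nat.card M).factorization 2 =
        (Nat.card ↥(M ⊓ stabilizer G a)).factorization 2 + 1 := by
      rw [card_eq_card_mul_stab M hMt a, Nat.factorization_mul (by omega) Nat.card_pos.ne',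
        Finsupp.add_apply, fact_two_of_mod_four hn, add_comm]
    let c : Ctx G Ω :=
      { M := M
        Q := Q
        a := a
        v := (Nat.card ↥(M ⊓ stabilizer G a)).factorization 2
        hMn := hMn
        hG2 := hG2
        hMt := hMt
        hn := hn
        hv := fun x => by rw [hcard x]
        hvM := hvM
        hQM := hQle.trans inf_le_left
        hQa := fun q hq => (hQle hq).2
        hQc := hQc }
    exact c.trans_stab hb hb'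
  intro a b c d hab hcd
  obtain ⟨m1, hm1M, hm1⟩ := hMt a c
  have hne : m1 • b ≠ c := by
    intro h
    rw [← hm1] at h
    exact hab (smul_left_cancel m1 h).symm
  obtain ⟨m2, hm2M, hm2c, hm2⟩ := hstab c (m1 • b) d hne (Ne.symm hcd)
  refine ⟨m2 * m1, M.mul_mem hm2M hm1M, ?_, ?_⟩
  · rw [mul_smul, hm1, hm2c]
  · rw [mul_smul, hm2]

end Cfsg.Agent.Helper66.TwoTrans
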