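import Mathlib
import Cfsg.Agent.Lib.Helper66.TwoTransC

set_option autoImplicit false
set_option linter.style.haveILetI false

/-!
# Faithful 2-transitive groups of degree `≡ 2 mod 4`: the unique minimal normal subgroup
-/

namespace Cfsg.Agent.Helper66.TwoTrans

open MulAction

variable {G : Type*} [Group G] {Ω : Type*} [MulAction G Ω]

/-- a nontrivial normal subgroup of a faithful 2-transitive group is transitive -/
theorem trans_of_normal (hfaith : ∀ g : G, (∀ x : Ω, g • x = x) → g = 1)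
    (hG2 : ∀ a b c d : Ω, a ≠ b → c ≠ d → ∃ g : G, g • a = c ∧ g • b = d)
    (N : Subgroup G) (hN : N.Normal) (hN1 : N ≠ ⊥) : ∀ x y : Ω, ∃ m ∈ N, m • x = y := by
  have hex : ∃ g ∈ N, g ≠ 1 := by
    by_contra h
    apply hN1
    rw [Subgroup.eq_bot_iff_forall]
    intro g hg
    by_contra hg1
    exact h ⟨g, hg, hg1⟩
  obtain ⟨g, hgN, hg1⟩ := hex
  have hx : ∃ x : Ω, g • x ≠ x := by
    by_contra h
    exact hg1 (hfaith g (fun x => by
      by_contra hx
      exact h ⟨x, hx⟩))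
  obtain ⟨x0, hx0⟩ := hx
  intro y z
  by_cases hyz : y = z
  · exact ⟨1, N.one_mem, by rw [one_smul, hyz]⟩
  · obtain ⟨k, hk1, hk2⟩ := hG2 x0 (g • x0) y z (Ne.symm hx0) hyz
    refine ⟨k * g * k⁻¹, hN.conj_mem g hgN k, ?_⟩
    have h1 : k⁻¹ • y = x0 := by rw [← hk1, inv_smul_smul]
    rw [mul_smul, mul_smul, h1, hk2]

/-- a 2-transitive subgroup of degree at least three does not commute with a transitive
subgroup -/
theorem false_of_commute [Fintype Ω] (hn2 : 2 < Fintype.card Ω) (X Y : Subgroup G)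
    (hX2 : ∀ a b c d : Ω, a ≠ b → c ≠ d → ∃ m ∈ X, m • a = c ∧ m • b = d)
    (hYt : ∀ x y : Ω, ∃ m ∈ Y, m • x = y)
    (hcomm : ∀ x ∈ X, ∀ y ∈ Y, x * y = y * x) : False := by
  obtain ⟨a, b, c, hab, hac, hbc⟩ := Fintype.two_lt_card_iff.mp hn2
  obtain ⟨m, hmX, hma, hmb⟩ := hX2 a b a c hab hac
  obtain ⟨z, hzY, hz⟩ := hYt a b
  have h1 : m • b = b := by
    conv_lhs => rw [← hz]
    rw [← mul_smul, hcomm m hmX z hzY, mul_smul, hma, hz]
  exact hbc (h1.symm.trans hmb)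

/-- **Main theorem** (everything but simplicity). -/
theorem exists_unique_minimal_normal [Finite G] [Fintype Ω]
    (hfaith : ∀ g : G, (∀ x : Ω, g • x = x) → g = 1)
    (hG2 : ∀ a b c d : Ω, a ≠ b → c ≠ d → ∃ g : G, g • a = c ∧ g • b = d)
    (hn : Fintype.card Ω % 4 = 2) (hn2 : 2 < Fintype.card Ω) :
    ∃ M : Subgroup G, M.Normal ∧ M ≠ ⊥ ∧ (∀ N : Subgroup G, N.Normal → N ≠ ⊥ → M ≤ N) ∧
      (∀ a b c d : Ω, a ≠ b → c ≠ d → ∃ m ∈ M, m • a = c ∧ m • b = d) ∧
      Subgroup.centralizer (M : Set G) = ⊥ := by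
  have htop : (⊤ : Subgroup G) ≠ ⊥ := by
    obtain ⟨a, b, c, hab, hac, hbc⟩ := Fintype.two_lt_card_iff.mp hn2
    obtain ⟨g, hg, -⟩ := hG2 a b b a hab (Ne.symm hab)
    intro h
    have hg1 : g ∈ (⊥ : Subgroup G) := h ▸ Subgroup.mem_top g
    rw [Subgroup.mem_bot] at hg1
    rw [hg1, one_smul] at hg
    exact hab hg
  have hex : ∃ k, ∃ N : Subgroup G, N.Normal ∧ N ≠ ⊥ ∧ Nat.card N = k :=
    ⟨_, ⊤, inferInstance, htop, rfl⟩
  classical
  obtain ⟨M, hMn, hM1, hMc⟩ := Nat.find_spec hex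
  have hmin : ∀ N : Subgroup G, N.Normal → N ≠ ⊥ → Nat.card M ≤ Nat.card N := by
    intro N hN hN1
    rw [hMc]
    exact Nat.find_min' hex ⟨N, hN, hN1, rfl⟩
  have hMt := trans_of_normal hfaith hG2 M hMn hM1
  have hM2 := two_trans_of_normal hG2 hn M hMn hMt
  have hcent : Subgroup.centralizer (M : Set G) = ⊥ := by
    by_contra hC
    haveI := hMn
    have hCn : (Subgroup.centralizer (M : Set G)).Normal := Subgroup.normal_centralizer
    have hCt := trans_of_normal hfaith hG2 _ hCn hC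
    refine false_of_commute hn2 M (Subgroup.centralizer (M : Set G)) hM2 hCt ?_
    intro x hx y hy
    exact Subgroup.mem_centralizer_iff.mp hy x hx
  refine ⟨M, hMn, hM1, ?_, hM2, hcent⟩
  intro N hN hN1
  by_cases hMN : M ⊓ N = ⊥
  · exfalso
    apply hN1
    rw [eq_bot_iff, ← hcent]
    intro n hn'
    rw [Subgroup.mem_centralizer_iff]
    intro m hm
    have h1 : m * n * m⁻¹ * n⁻¹ ∈ M ⊓ N := by
      refine ⟨?_, ?_⟩
      · have h2 := hMn.conj_mem m⁻¹ (M.inv_mem hm) n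
        have h3 := M.mul_mem hm h2
        have e : m * (n * m⁻¹ * n⁻¹) = m * n * m⁻¹ * n⁻¹ := by group
        rw [e] at h3
        exact h3
      · have h2 := hN.conj_mem n hn' m
        exact N.mul_mem h2 (N.inv_mem hn')
    rw [hMN, Subgroup.mem_bot] at h1
    have h2 : m * n * m⁻¹ = n := mul_inv_eq_one.mp h1
    exact mul_inv_eq_iff_eq_mul.mp h2
  · haveI := hMn
    haveI := hN
    have hinf : (M ⊓ N).Normal := Subgroup.normal_inf_normal M N
    have h1 : Nat.card M ≤ Nat.card ↥(M ⊓ N) := hmin _ hinf hMN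
    have h2 : M ⊓ N = M := Subgroup.eq_of_le_of_card_ge inf_le_left h1
    exact inf_eq_left.mp h2

/-- **Main theorem**, with simplicity. -/
theorem exists_simple_minimal_normal [Finite G] [Fintype Ω]
    (hfaith : ∀ g : G, (∀ x : Ω, g • x = x) → g = 1)
    (hG2 : ∀ a b c d : Ω, a ≠ b → c ≠ d → ∃ g : G, g • a = c ∧ g • b = d)
    (hn : Fintype.card Ω % 4 = 2) (hn2 : 2 < Fintype.card Ω) :
    ∃ M : Subgroup G, M.Normal ∧ M ≠ ⊥ ∧ (∀ N : Subgroup G, N.Normal → N ≠ ⊥ → M ≤ N) ∧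
      IsSimpleGroup ↥M ∧
      (∀ a b c d : Ω, a ≠ b → c ≠ d → ∃ m ∈ M, m • a = c ∧ m • b = d) ∧
      Subgroup.centralizer (M : Set G) = ⊥ := by
  obtain ⟨M, hMn, hM1, hMmin, hM2, hMc⟩ := exists_unique_minimal_normal hfaith hG2 hn hn2
  have hfaithM : ∀ g : ↥M, (∀ x : Ω, g • x = x) → g = 1 :=
    fun g hg => Subtype.ext (hfaith g.1 hg)
  have hM2' : ∀ a b c d : Ω, a ≠ b → c ≠ d → ∃ g : ↥M, g • a = c ∧ g • b = d := by
    intro a b c d hab hcd
    obtain ⟨m, hm, h⟩ := hM2 a b c d hab hcd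
    exact ⟨⟨m, hm⟩, h⟩
  obtain ⟨K, hKn, hK1, hKmin, -, -⟩ := exists_unique_minimal_normal hfaithM hM2' hn hn2
  refine ⟨M, hMn, hM1, hMmin, ?_, hM2, hMc⟩
  haveI := hMn
  have hconj : ∀ g : G, ∀ k ∈ K, MulAut.conjNormal g k ∈ K := by
    intro g k hk
    have hinj : Function.Injective (MulAut.conjNormal g : ↥M ≃* ↥M).toMonoidHom :=
      (MulAut.conjNormal g : ↥M ≃* ↥M).injective
    have hcn : (K.map (MulAut.conjNormal g : ↥M ≃* ↥M).toMonoidHom).Normal :=
      hKn.map _ (MulAut.conjNormal g : ↥M ≃* ↥M).surjective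
    have hc1 : K.map (MulAut.conjNormal g : ↥M ≃* ↥M).toMonoidHom ≠ ⊥ := by
      rw [Ne, Subgroup.map_eq_bot_iff_of_injective _ hinj]
      exact hK1
    have hle : K ≤ K.map (MulAut.conjNormal g : ↥M ≃* ↥M).toMonoidHom := hKmin _ hcn hc1
    have hcard : Nat.card (K.map (MulAut.conjNormal g : ↥M ≃* ↥M).toMonoidHom) = Nat.card K :=
      Subgroup.card_map_of_injective hinj
    have heq : K = K.map (MulAut.conjNormal g : ↥M ≃* ↥M).toMonoidHom :=
      Subgroup.eq_of_le_of_card_ge hle hcard.le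
    have hmem : MulAut.conjNormal g k ∈ K.map (MulAut.conjNormal g : ↥M ≃* ↥M).toMonoidHom :=
      Subgroup.mem_map_of_mem _ hk
    exact heq.ge hmem
  have hK2n : (K.map M.subtype).Normal := by
    refine ⟨fun x hx g => ?_⟩
    obtain ⟨k, hk, rfl⟩ := hx
    exact ⟨MulAut.conjNormal g k, hconj g k hk, MulAut.conjNormal_apply g k⟩
  have hK2ne : K.map M.subtype ≠ ⊥ := by
    rw [Ne, Subgroup.map_eq_bot_iff_of_injective _ M.subtype_injective]
    exact hK1
  have hle := hMmin _ hK2n hK2ne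
  have hKtop : K = ⊤ := by
    rw [eq_top_iff]
    intro m _
    obtain ⟨k, hk, hkm⟩ := hle m.2
    have : k = m := Subtype.ext hkm
    exact this ▸ hk
  haveI : Nontrivial ↥M := (Subgroup.nontrivial_iff_ne_bot M).mpr hM1
  refine ⟨fun H hH => ?_⟩
  by_cases hH1 : H = ⊥
  · exact Or.inl hH1
  · right
    rw [eq_top_iff, ← hKtop]
    exact hKmin H hH hH1

end Cfsg.Agent.Helper66.TwoTrans
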