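import Mathlib
import Cfsg.Agent.Lib.Helper98.UT0
import Cfsg.Agent.Lib.Helper42.UTD1
import Cfsg.Agent.Lib.Helper66.UTE1a

/-!
# UT pieces C2, S1 (S2283): conjugation by the diagonal element, and `(z t)^(q+1) = t`.
-/

set_option autoImplicit false
set_option quotPrecheck false
set_option linter.unusedSectionVars false
set_option linter.unusedVariables false

namespace Cfsg.Agent.Helper66.UT

open Matrix Cfsg Cfsg.Agent.Helper13 Cfsg.Agent.Helper87.PsuA Cfsg.Agent.Helper87.PsuB0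
  Cfsg.Agent.Helper98.UT

variable {F : Type*} [Field F] [Fintype F] {q : ℕ}

local notation "G" => ↥(Cfsg.SU 3 F q)
local notation "H" => Cfsg.hermForm 3 F q

variable (hF : Fintype.card F = q ^ 2) {b : Fin 3 → Fin 3 → F}

/-- (C2) conjugation by a diagonal element (`eich_conj`, `eich_smul`, or `cm`). -/
theorem conj_diag (hb : HB q b) (d0 d1 d2 a β : F) (h02 : d0 * d2 ^ q = 1) (h11 : d1 * d1 ^ q = 1)
    (hdet : d0 * d1 * d2 = 1) (hab : β + β ^ q + a * a ^ q = 0) :
    dEl hF b d0 d1 d2 * yEl hF b a β * (dEl hF b d0 d1 d2)⁻¹ =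
      yEl hF b (d0 * d1 ^ q * a) (d0 * d0 ^ q * β) := by
  obtain ⟨hz0, hz1, hz2⟩ := Cfsg.Agent.Helper42.UT.dEl_act hF hb d0 d1 d2 h02 h11 hdet
  unfold yEl
  rw [eich_conj hF (h66_H00 hb) (h66_H0w hb _) (h66_cond hF hb a β hab), hz0, actv_smul, hz1,
    smul_smul]
  have hw : H (b 0) ((-(a ^ q) * d1) • b 1) = 0 := h66_H0w hb _
  have ha : β + β ^ q + H ((-(a ^ q) * d1) • b 1) ((-(a ^ q) * d1) • b 1) = 0 := by
    rw [h66_Hww hb, mul_pow, frob_neg hF, frob_frob hF]
    linear_combination hab + (a * a ^ q) * h11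
  rw [eich_smul hF (h66_H00 hb) hw ha, smul_smul]
  congr 1
  rw [mul_pow, mul_pow, frob_frob hF]
  congr 1
  ring

theorem h66_H02 (hb : HB q b) : H (b 0) (b 2) = 1 := by
  rw [hb 0 2]
  simp [Fin.rev]

theorem h66_H12 (hb : HB q b) : H (b 1) (b 2) = 0 := by
  rw [hb 1 2]
  simp [Fin.rev]

theorem h66_H22 (hb : HB q b) : H (b 2) (b 2) = 0 := by
  rw [hb 2 2]
  simp [Fin.rev]

include hF in
theorem h66_q_cast : ((q : ℕ) : F) = 0 := by
  obtain ⟨p, m, hp, hc, rfl⟩ := exists_char_pow hF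
  have hm : m ≠ 0 := by
    rintro rfl
    have h1 : Fintype.card F = 1 := by rw [hF]; simp
    have h2 : 1 < Fintype.card F := Fintype.one_lt_card
    omega
  rw [Nat.cast_pow, CharP.cast_eq_zero F p, zero_pow hm]

theorem h66_pow_act (g : G) (x : Fin 3 → F) (d : F) (h : actv g x = d • x) (n : ℕ) :
    actv (g ^ n) x = d ^ n • x := by
  induction n with
  | zero => rw [pow_zero, pow_zero, actv_one, one_smul]
  | succ n ih => rw [pow_succ, actv_mul, h, actv_smul, ih, smul_smul, pow_succ, mul_comm]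

/-- the action of `t = x⁻(0,c)` on the basis -/
theorem h66_t_act (hb : HB q b) (c : F) (hc : c + c ^ q = 0) :
    actv (lEl hF b 0 c) (b 0) = b 0 + c • b 2 ∧ actv (lEl hF b 0 c) (b 1) = b 1 ∧
      actv (lEl hF b 0 c) (b 2) = b 2 := by
  have huu := h66_H22 hb
  have huw : H (b 2) ((-((0 : F) ^ q)) • b 1) = 0 := by
    rw [frob_zero hF, neg_zero, zero_smul, H_zero_right hF]
  have ha : c + c ^ q + H ((-((0 : F) ^ q)) • b 1) ((-((0 : F) ^ q)) • b 1) = 0 := by
    rw [frob_zero hF, neg_zero, zero_smul, H_zero_right hF, add_zero, hc]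
  unfold lEl
  refine ⟨?_, ?_, ?_⟩
  · rw [eich_act hF huu huw ha, frob_zero hF, neg_zero, zero_smul, H_zero_right hF, h66_H02 hb]
    module
  · rw [eich_act hF huu huw ha, frob_zero hF, neg_zero, zero_smul, H_zero_right hF, h66_H12 hb]
    module
  · rw [eich_act hF huu huw ha, frob_zero hF, neg_zero, zero_smul, H_zero_right hF, h66_H22 hb]
    module

/-- (S1) `z` and `t` commute, `z^(q+1) = 1`, `t^q = 1` (`(q : F) = 0`), so `(z t)^(q+1) = t`. -/
theorem t_z_mem {lam c : F} (hb : HB q b) (hlam : lam * lam ^ q = 1) (hc : c + c ^ q = 0)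
    (Hs : Subgroup G) (hs : dEl hF b lam (lam⁻¹ ^ 2) lam * lEl hF b 0 c ∈ Hs) :
    lEl hF b 0 c ∈ Hs ∧ dEl hF b lam (lam⁻¹ ^ 2) lam ∈ Hs := by
  have hlam0 : lam ≠ 0 := by
    rintro rfl
    rw [zero_mul] at hlam
    exact zero_ne_one hlam
  have h11 : lam⁻¹ ^ 2 * (lam⁻¹ ^ 2) ^ q = 1 := by
    have : lam⁻¹ ^ 2 * (lam⁻¹ ^ 2) ^ q = ((lam * lam ^ q)⁻¹) ^ 2 := by
      rw [mul_inv, ← inv_pow]
      ring
    rw [this, hlam, inv_one, one_pow]
  have hdet : lam * lam⁻¹ ^ 2 * lam = 1 := by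
    field_simp
  obtain ⟨hz0, hz1, hz2⟩ := Cfsg.Agent.Helper42.UT.dEl_act hF hb lam (lam⁻¹ ^ 2) lam hlam h11 hdet
  obtain ⟨ht0, ht1, ht2⟩ := h66_t_act hF hb c hc
  set z := dEl hF b lam (lam⁻¹ ^ 2) lam with hzdef
  set t := lEl hF b 0 c with htdef
  -- `z` and `t` commute
  have hcomm : Commute z t := by
    apply ext_b hb
    intro i
    fin_cases i
    · show actv (z * t) (b 0) = actv (t * z) (b 0)
      rw [actv_mul, actv_mul, ht0, hz0, actv_add, actv_smul, actv_smul, hz0, hz2, ht0]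
      module
    · show actv (z * t) (b 1) = actv (t * z) (b 1)
      rw [actv_mul, actv_mul, ht1, hz1, actv_smul, ht1]
    · show actv (z * t) (b 2) = actv (t * z) (b 2)
      rw [actv_mul, actv_mul, ht2, hz2, actv_smul, ht2]
  -- `z ^ (q + 1) = 1`
  have hlamq : lam ^ (q + 1) = 1 := by rw [pow_succ', hlam]
  have hzq : z ^ (q + 1) = 1 := by
    apply ext_b hb
    intro i
    fin_cases i
    · show actv (z ^ (q + 1)) (b 0) = actv 1 (b 0)
      rw [h66_pow_act z (b 0) lam hz0, hlamq, one_smul, actv_one]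
    · show actv (z ^ (q + 1)) (b 1) = actv 1 (b 1)
      rw [h66_pow_act z (b 1) (lam⁻¹ ^ 2) hz1, ← pow_mul, mul_comm, pow_mul, inv_pow, hlamq, inv_one,
        one_pow, one_smul, actv_one]
    · show actv (z ^ (q + 1)) (b 2) = actv 1 (b 2)
      rw [h66_pow_act z (b 2) lam hz2, hlamq, one_smul, actv_one]
  -- `t ^ q = 1`
  have htn : ∀ n : ℕ, actv (t ^ n) (b 0) = b 0 + ((n : F) * c) • b 2 := by
    intro n
    induction n with
    | zero => rw [pow_zero, actv_one, Nat.cast_zero, zero_mul, zero_smul, add_zero]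
    | succ n ih =>
      rw [pow_succ, actv_mul, ht0, actv_add, actv_smul, ih, actv_pow_fix t (b 2) ht2 n, Nat.cast_succ]
      module
  have htq : t ^ q = 1 := by
    apply ext_b hb
    intro i
    fin_cases i
    · show actv (t ^ q) (b 0) = actv 1 (b 0)
      rw [htn q, h66_q_cast hF, zero_mul, zero_smul, add_zero, actv_one]
    · show actv (t ^ q) (b 1) = actv 1 (b 1)
      rw [actv_pow_fix t (b 1) ht1 q, actv_one]
    · show actv (t ^ q) (b 2) = actv 1 (b 2)
      rw [actv_pow_fix t (b 2) ht2 q, actv_one]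
  have hpow : (z * t) ^ (q + 1) = t := by
    rw [hcomm.mul_pow, hzq, one_mul, pow_succ, htq, one_mul]
  have htm : t ∈ Hs := by
    rw [← hpow]
    exact Hs.pow_mem hs _
  refine ⟨htm, ?_⟩
  have : z = (z * t) * t⁻¹ := by group
  rw [this]
  exact Hs.mul_mem hs (Hs.inv_mem htm)

end Cfsg.Agent.Helper66.UT
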