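import Mathlib
import Cfsg.Agent.Lib.Helper98.UT0
import Cfsg.Agent.Lib.Helper42.UTD1
import Cfsg.Agent.Lib.Helper66.UTD2
import Cfsg.Agent.Lib.Helper66.UTE1a
import Cfsg.Agent.Lib.Helper66.UTC2

/-!
# UT piece D3 (S2283): the coordinate matrices of `x(a,β)`, `x⁻(a,β)` and the diagonal element.
-/

set_option autoImplicit false
set_option quotPrecheck false
set_option linter.unusedSectionVars false
set_option linter.unusedVariables false
set_option linter.unusedSimpArgs false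

namespace Cfsg.Agent.Helper66.UT

open Matrix Cfsg Cfsg.Agent.Helper13 Cfsg.Agent.Helper87.PsuA Cfsg.Agent.Helper87.PsuB0
  Cfsg.Agent.Helper98.UT

variable {F : Type*} [Field F] [Fintype F] {q : ℕ}

local notation "G" => ↥(Cfsg.SU 3 F q)
local notation "H" => Cfsg.hermForm 3 F q

variable (hF : Fintype.card F = q ^ 2) {b : Fin 3 → Fin 3 → F}

theorem h66_H10 (hb : HB q b) : H (b 1) (b 0) = 0 := by
  rw [hb 1 0]
  simp [Fin.rev]

theorem h66_H20 (hb : HB q b) : H (b 2) (b 0) = 1 := by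
  rw [hb 2 0]
  simp [Fin.rev]

theorem h66_H21 (hb : HB q b) : H (b 2) (b 1) = 0 := by
  rw [hb 2 1]
  simp [Fin.rev]

/-- the action of `x(a,β)` on the basis -/
theorem h66_y_act (hb : HB q b) (a β : F) (hab : β + β ^ q + a * a ^ q = 0) :
    actv (yEl hF b a β) (b 0) = b 0 ∧ actv (yEl hF b a β) (b 1) = b 1 + a • b 0 ∧
      actv (yEl hF b a β) (b 2) = b 2 + (-(a ^ q)) • b 1 + β • b 0 := by
  have huu := h66_H00 hb
  have huw := h66_H0w hb (-(a ^ q))
  have ha := h66_cond hF hb a β hab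
  unfold yEl
  refine ⟨?_, ?_, ?_⟩
  · rw [eich_act hF huu huw ha, huu, huw]
    module
  · rw [eich_act hF huu huw ha, h66_H10 hb, hermForm_smul_right, h66_H11 hb, frob_neg hF,
      frob_frob hF]
    module
  · rw [eich_act hF huu huw ha, h66_H20 hb, hermForm_smul_right, h66_H21 hb]
    module

/-- the action of `x⁻(a,β)` on the basis -/
theorem h66_l_act (hb : HB q b) (a β : F) (hab : β + β ^ q + a * a ^ q = 0) :
    actv (lEl hF b a β) (b 0) = b 0 + (-(a ^ q)) • b 1 + β • b 2 ∧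
      actv (lEl hF b a β) (b 1) = b 1 + a • b 2 ∧ actv (lEl hF b a β) (b 2) = b 2 := by
  have huu := h66_H22 hb
  have huw : H (b 2) ((-(a ^ q)) • b 1) = 0 := by
    rw [hermForm_smul_right, h66_H21 hb, mul_zero]
  have ha := h66_cond hF hb a β hab
  unfold lEl
  refine ⟨?_, ?_, ?_⟩
  · rw [eich_act hF huu huw ha, h66_H02 hb, hermForm_smul_right, h66_H01 hb]
    module
  · rw [eich_act hF huu huw ha, h66_H12 hb, hermForm_smul_right, h66_H11 hb, frob_neg hF,
      frob_frob hF]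
    module
  · rw [eich_act hF huu huw ha, huu, huw]
    module

/-- (D3a) matrix of `x(a,β)` (`eich_act`, `co_b`, `hb`). -/
theorem cm_yEl (hb : HB q b) (a β : F) (hab : β + β ^ q + a * a ^ q = 0) :
    cm b (yEl hF b a β) = !![1, a, β; 0, 1, -(a ^ q); 0, 0, 1] := by
  obtain ⟨h0, h1, h2⟩ := h66_y_act hF hb a β hab
  ext i j
  rw [cm_apply hb]
  fin_cases j
  · show co q b (actv (yEl hF b a β) (b 0)) i = _
    rw [h0, co_b hb]
    fin_cases i <;> simp
  · show co q b (actv (yEl hF b a β) (b 1)) i = _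
    rw [h1, co_add, co_smul, co_b hb, co_b hb]
    fin_cases i <;> simp
  · show co q b (actv (yEl hF b a β) (b 2)) i = _
    rw [h2, co_add, co_add, co_smul, co_smul, co_b hb, co_b hb, co_b hb]
    fin_cases i <;> simp

/-- (D3b) matrix of `x⁻(a,β)`. -/
theorem cm_lEl (hb : HB q b) (a β : F) (hab : β + β ^ q + a * a ^ q = 0) :
    cm b (lEl hF b a β) = !![1, 0, 0; -(a ^ q), 1, 0; β, a, 1] := by
  obtain ⟨h0, h1, h2⟩ := h66_l_act hF hb a β hab
  ext i j
  rw [cm_apply hb]
  fin_cases j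
  · show co q b (actv (lEl hF b a β) (b 0)) i = _
    rw [h0, co_add, co_add, co_smul, co_smul, co_b hb, co_b hb, co_b hb]
    fin_cases i <;> simp
  · show co q b (actv (lEl hF b a β) (b 1)) i = _
    rw [h1, co_add, co_smul, co_b hb, co_b hb]
    fin_cases i <;> simp
  · show co q b (actv (lEl hF b a β) (b 2)) i = _
    rw [h2, co_b hb]
    fin_cases i <;> simp

/-- (D3c) matrix of the diagonal element (from (D1)). -/
theorem cm_dEl (hb : HB q b) (d0 d1 d2 : F) (h02 : d0 * d2 ^ q = 1) (h11 : d1 * d1 ^ q = 1)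
    (hdet : d0 * d1 * d2 = 1) :
    cm b (dEl hF b d0 d1 d2) = !![d0, 0, 0; 0, d1, 0; 0, 0, d2] := by
  obtain ⟨h0, h1, h2⟩ := Cfsg.Agent.Helper42.UT.dEl_act hF hb d0 d1 d2 h02 h11 hdet
  ext i j
  rw [cm_apply hb]
  fin_cases j
  · show co q b (actv (dEl hF b d0 d1 d2) (b 0)) i = _
    rw [h0, co_smul, co_b hb]
    fin_cases i <;> simp
  · show co q b (actv (dEl hF b d0 d1 d2) (b 1)) i = _
    rw [h1, co_smul, co_b hb]
    fin_cases i <;> simp
  · show co q b (actv (dEl hF b d0 d1 d2) (b 2)) i = _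
    rw [h2, co_smul, co_b hb]
    fin_cases i <;> simp

end Cfsg.Agent.Helper66.UT
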