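import Cfsg.Agent.Lib.Helper66.Orbits
import Mathlib.GroupTheory.SpecificGroups.Cyclic

set_option autoImplicit false

namespace Cfsg.Agent.Helper66

open MulAction
open scoped Pointwise

section
variable (G : Type*) [Group G]

theorem card_stabilizer_smul (g : G) (S : Set G) :
    Nat.card (stabilizer G (g • S)) = Nat.card (stabilizer G S) :=
  (Nat.card_congr (stabilizerEquivStabilizer (G := G) (a := S) (b := g • S) (g := g) rfl).toEquiv).symm

/-- sets of size `k` whose stabilizer has order `k` -/
def goodSets (k : ℕ) : SubMulAction G (Set G) where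
  carrier := {S | S.ncard = k ∧ Nat.card (stabilizer G S) = k}
  smul_mem' g S hS := by
    refine ⟨?_, ?_⟩
    · rw [Set.ncard_smul_set]; exact hS.1
    · rw [card_stabilizer_smul]; exact hS.2

/-- sets of size `k` whose stabilizer does not have order `k` -/
def badSets (k : ℕ) : SubMulAction G (Set G) where
  carrier := {S | S.ncard = k ∧ Nat.card (stabilizer G S) ≠ k}
  smul_mem' g S hS := by
    refine ⟨?_, ?_⟩
    · rw [Set.ncard_smul_set]; exact hS.1
    · rw [card_stabilizer_smul]; exact hS.2

end

variable {G : Type*} [Group G] [Finite G]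

theorem card_sets_eq_good_add_bad (k : ℕ) :
    Nat.card {S : Set G // S.ncard = k} = Nat.card (goodSets G k) + Nat.card (badSets G k) := by
  have h1 : Nat.card {S : Set G // S.ncard = k} = ({S : Set G | S.ncard = k}).ncard := by
    rw [← Nat.card_coe_set_eq]; rfl
  have h2 : Nat.card (goodSets G k) = ((goodSets G k).carrier).ncard := by
    rw [← Nat.card_coe_set_eq]; rfl
  have h3 : Nat.card (badSets G k) = ((badSets G k).carrier).ncard := by
    rw [← Nat.card_coe_set_eq]; rfl
  rw [h1, h2, h3, ← Set.ncard_union_eq _ (Set.toFinite _) (Set.toFinite _)]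
  · congr 1
    ext S
    simp only [goodSets, badSets, Set.mem_setOf_eq, Set.mem_union]
    constructor
    · intro h
      by_cases h' : Nat.card (stabilizer G S) = k
      · exact Or.inl ⟨h, h'⟩
      · exact Or.inr ⟨h, h'⟩
    · rintro (h | h) <;> exact h.1
  · rw [Set.disjoint_left]
    intro S h1 h2
    exact h2.2 h1.2

theorem dvd_card_badSets (p β m : ℕ) (hp : p.Prime) (hG : Nat.card G = p ^ β * m) :
    p * m ∣ Nat.card (badSets G (p ^ β)) := by
  apply dvd_card_of_dvd_index (G := G)
  rintro ⟨S, hS1, hS2⟩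
  rw [SubMulAction.stabilizer_of_subMul]
  change p * m ∣ (stabilizer G S).index
  have h1 : Nat.card (stabilizer G S) ∣ p ^ β := hS1 ▸ card_stabilizer_dvd_ncard S
  obtain ⟨j, hj, hj'⟩ := (Nat.dvd_prime_pow hp).mp h1
  have hjlt : j < β := by
    rcases hj.lt_or_eq with h | h
    · exact h
    · exact absurd (h ▸ hj') hS2
  have h2 := (stabilizer G S).index_mul_card
  rw [hj', hG] at h2
  -- index * p^j = p^β * m
  have h3 : p ^ β = p ^ j * p ^ (β - j) := by rw [← pow_add]; congr 1; omega
  rw [h3, mul_assoc, mul_comm] at h2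
  have h4 := Nat.eq_of_mul_eq_mul_left (pow_pos hp.pos j) h2
  rw [h4]
  have h5 : p ^ (β - j) = p * p ^ (β - j - 1) := by rw [← pow_succ']; congr 1; omega
  rw [h5, mul_assoc]
  exact ⟨p ^ (β - j - 1), by ring⟩

theorem index_stabilizer_goodSets (k m : ℕ) (hk : 0 < k) (hG : Nat.card G = k * m)
    (x : goodSets G k) : (stabilizer G x).index = m := by
  obtain ⟨S, hS1, hS2⟩ := x
  rw [SubMulAction.stabilizer_of_subMul]
  change (stabilizer G S).index = m
  have h2 := (stabilizer G S).index_mul_card
  rw [hS2, hG, mul_comm] at h2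
  exact Nat.eq_of_mul_eq_mul_left hk h2

theorem mem_goodSets_of_subgroup (k : ℕ) (H : Subgroup G) (hH : Nat.card H = k) :
    (H : Set G) ∈ goodSets G k := by
  refine ⟨?_, ?_⟩
  · rw [← Nat.card_coe_set_eq]; exact hH
  · rw [stabilizer_subgroup]; exact hH

theorem card_orbits_goodSets (k : ℕ) (hk : 0 < k) :
    Nat.card (Quotient (orbitRel G (goodSets G k))) =
      Nat.card {H : Subgroup G // Nat.card H = k} := by
  symm
  let ψ : {H : Subgroup G // Nat.card H = k} → Quotient (orbitRel G (goodSets G k)) :=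
    fun H => Quotient.mk'' ⟨(H.1 : Set G), mem_goodSets_of_subgroup k H.1 H.2⟩
  apply Nat.card_congr (Equiv.ofBijective ψ ⟨?_, ?_⟩)
  · rintro ⟨H, hH⟩ ⟨K, hK⟩ h
    have h' := Quotient.exact' h
    obtain ⟨g, hg⟩ := h'
    have hg' : g • (K : Set G) = (H : Set G) := congrArg Subtype.val hg
    have h1 : (1 : G) ∈ g • (K : Set G) := hg' ▸ H.one_mem
    rw [Set.mem_smul_set_iff_inv_smul_mem] at h1
    have h2 : g ∈ K := by
      have : g⁻¹ ∈ K := by simpa using h1
      exact K.inv_mem_iff.mp this
    have h3 : g • (K : Set G) = (K : Set G) := by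
      have : g ∈ stabilizer G (K : Set G) := by rw [stabilizer_subgroup]; exact h2
      exact mem_stabilizer_iff.mp this
    rw [h3] at hg'
    exact Subtype.ext (SetLike.coe_injective hg'.symm)
  · intro ω
    induction ω using Quotient.inductionOn' with
    | h x =>
      obtain ⟨S, hS1, hS2⟩ := x
      have hne : S.Nonempty := by
        rw [← Set.ncard_pos (Set.toFinite _), hS1]; exact hk
      obtain ⟨s, hs⟩ := hne
      set S' : Set G := s⁻¹ • S with hS'
      have h1 : (1 : G) ∈ S' := by
        rw [hS', Set.mem_smul_set_iff_inv_smul_mem]; simpa using hs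
      have hsub : ((stabilizer G S' : Subgroup G) : Set G) ⊆ S' := by
        intro t ht
        have ht' : t • S' = S' := mem_stabilizer_iff.mp ht
        have : t • (1 : G) ∈ t • S' := Set.smul_mem_smul_set h1
        rw [ht'] at this
        simpa using this
      have hc1 : Nat.card (stabilizer G S') = k := by
        rw [hS', card_stabilizer_smul]; exact hS2
      have hc2 : S'.ncard = k := by rw [hS', Set.ncard_smul_set]; exact hS1
      have heq : ((stabilizer G S' : Subgroup G) : Set G) = S' := by
        apply Set.eq_of_subset_of_ncard_le hsub _ (Set.toFinite _)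
        rw [hc2, ← Nat.card_coe_set_eq]
        exact hc1.ge
      refine ⟨⟨stabilizer G S', hc1⟩, ?_⟩
      apply Quotient.sound'
      refine ⟨s⁻¹, ?_⟩
      apply Subtype.ext
      change s⁻¹ • S = ((stabilizer G S' : Subgroup G) : Set G)
      rw [heq]

/-- Wielandt's congruence. -/
theorem wielandt_congruence (p β m : ℕ) (hp : p.Prime) (hG : Nat.card G = p ^ β * m) :
    Nat.card {S : Set G // S.ncard = p ^ β} ≡
      m * Nat.card {H : Subgroup G // Nat.card H = p ^ β} [MOD p * m] := by
  have hk : 0 < p ^ β := pow_pos hp.pos β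
  rw [card_sets_eq_good_add_bad,
    card_eq_mul_card_orbits (G := G) m (index_stabilizer_goodSets (p ^ β) m hk hG),
    card_orbits_goodSets (p ^ β) hk]
  obtain ⟨c, hc⟩ := dvd_card_badSets p β m hp hG
  rw [hc]
  exact (Nat.modEq_iff_dvd' (Nat.le_add_right _ _)).mpr ⟨c, by omega⟩ |>.symm

end Cfsg.Agent.Helper66

namespace Cfsg.Agent.Helper66

theorem card_sets_congr {G C : Type*} [Finite G] [Finite C] (h : Nat.card G = Nat.card C) (k : ℕ) :
    Nat.card {S : Set G // S.ncard = k} = Nat.card {S : Set C // S.ncard = k} := by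
  obtain ⟨e⟩ := Finite.card_eq.mp h
  apply Nat.card_congr
  refine (Equiv.Set.congr e).subtypeEquiv ?_
  intro S
  change S.ncard = k ↔ (e '' S).ncard = k
  rw [Set.ncard_image_of_injective _ e.injective]

theorem card_subgroups_cyclic_eq_one {C : Type*} [Group C] [Finite C] [IsCyclic C] (p β : ℕ)
    [hp : Fact p.Prime] (hdiv : p ^ β ∣ Nat.card C) :
    Nat.card {H : Subgroup C // Nat.card H = p ^ β} = 1 := by
  classical
  have : Fintype C := Fintype.ofFinite C
  rw [Nat.card_eq_one_iff_unique]
  constructor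
  · constructor
    have key : ∀ H : Subgroup C, Nat.card H = p ^ β →
        (H : Set C) = {a : C | a ^ (p ^ β) = 1} := by
      intro H hH
      have hsub : (H : Set C) ⊆ {a : C | a ^ (p ^ β) = 1} := by
        intro a ha
        have : (⟨a, ha⟩ : H) ^ (p ^ β) = 1 := by rw [← hH]; exact pow_card_eq_one'
        exact congrArg Subtype.val this
      apply Set.eq_of_subset_of_ncard_le hsub _ (Set.toFinite _)
      have h1 := IsCyclic.card_pow_eq_one_le (α := C) (pow_pos hp.out.pos β)
      have h2 : ({a : C | a ^ (p ^ β) = 1} : Set C).ncard = (Finset.univ.filter fun a : C => a ^ (p ^ β) = 1).card := by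
        rw [Set.ncard_eq_toFinset_card']
        congr 1
        ext a
        simp
      rw [h2, ← Nat.card_coe_set_eq]
      exact h1.trans hH.ge
    rintro ⟨H, hH⟩ ⟨K, hK⟩
    apply Subtype.ext
    apply SetLike.coe_injective
    rw [key H hH, key K hK]
  · obtain ⟨H, hH⟩ := Sylow.exists_subgroup_card_pow_prime p hdiv
    exact ⟨⟨H, hH⟩⟩

/-- Frobenius: the number of subgroups of order `p ^ β` is `≡ 1 mod p`. -/
theorem card_subgroups_prime_pow_modEq_one {G : Type*} [Group G] [Finite G] (p β : ℕ) (hp : p.Prime)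
    (hdiv : p ^ β ∣ Nat.card G) :
    Nat.card {H : Subgroup G // Nat.card H = p ^ β} ≡ 1 [MOD p] := by
  obtain ⟨m, hm⟩ := hdiv
  have hm0 : m ≠ 0 := by
    rintro rfl
    simp only [mul_zero] at hm
    exact Nat.card_pos.ne' hm
  have hn0 : p ^ β * m ≠ 0 := mul_ne_zero (pow_pos hp.pos β).ne' hm0
  have : NeZero (p ^ β * m) := ⟨hn0⟩
  have : Fact p.Prime := ⟨hp⟩
  let C := Multiplicative (ZMod (p ^ β * m))
  have hC : Nat.card C = p ^ β * m := by
    change Nat.card (ZMod (p ^ β * m)) = _
    exact Nat.card_zmod _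
  have h1 := wielandt_congruence (G := G) p β m hp hm
  have h2 := wielandt_congruence (G := C) p β m hp hC
  rw [card_subgroups_cyclic_eq_one (C := C) p β (hC ▸ Dvd.intro _ rfl)] at h2
  rw [card_sets_congr (hm.trans hC.symm) (p ^ β)] at h1
  have h3 := h1.symm.trans h2
  rw [mul_comm p m] at h3
  exact Nat.ModEq.mul_left_cancel' hm0 h3

end Cfsg.Agent.Helper66
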